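import Groth.Agent.H10Coh.Stab.Criteria
import Groth.Agent.H22Alg.RegSheaf
import Groth.Agent.H10Coh.SerreVanishing2
import Groth.Agent.H11Ample.Converse

/-!
# Hilbert polynomials for twists by all integers
-/

set_option autoImplicit false
set_option linter.style.haveILetI false
set_option linter.unusedSectionVars false

universe u

open CategoryTheory CategoryTheory.Limits AlgebraicGeometry Opposite TopologicalSpace Polynomial

namespace Groth.Agent.H10Coh.Stab

/-- A family `O(m)`, `m : ℤ`, of invertible modules. -/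
structure IsTwistFamily {X : Scheme.{u}} (O : ℤ → X.Modules) : Prop where
  inv : ∀ a, PicF.IsInvertible (O a)
  zero : Nonempty (O 0 ≅ Coh.structureModule X)
  add : ∀ a b, Nonempty (CohB1.tensorMod (O a) (O b) ≅ O (a + b))

variable {k : Type u} [Field k] {X : Scheme.{u}} [X.Over (Spec (CommRingCat.of k))]
  [IsProper (X ↘ Spec (CommRingCat.of k))] {O : ℤ → X.Modules} {F : X.Modules}

theorem IsTwistFamily.nonempty_tensorPow {X : Scheme.{u}} {O : ℤ → X.Modules} (h : IsTwistFamily O) :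
    ∀ m : ℕ, Nonempty (CohB1.tensorPow (O 1) m ≅ O (m : ℤ)) := by
  intro m
  induction m with
  | zero => obtain ⟨e⟩ := h.zero; exact ⟨e.symm⟩
  | succ m ih =>
    obtain ⟨e⟩ := ih
    obtain ⟨e'⟩ := h.add m 1
    exact ⟨PicGrp.tensorModIso e (Iso.refl _) ≪≫ e' ≪≫ eqToIso (congrArg O (by push_cast; rfl))⟩

theorem isHilbPoly_of_int (h : IsTwistFamily O) {P : ℚ[X]}
    (hP : ∀ m : ℤ, (Curv2.euler k X (CohB1.tensorMod F (O m)) : ℚ) = P.eval (m : ℚ)) :
    ShStab.IsHilbPoly k X (O 1) F P := fun m => by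
  obtain ⟨e⟩ := h.nonempty_tensorPow m
  rw [show ShStab.twist X (O 1) F m = CohB1.tensorMod F (CohB1.tensorPow (O 1) m) from rfl,
    H25Euler.euler_congr (PicGrp.tensorModIso (Iso.refl F) e), hP m, Int.cast_natCast]

theorem int_of_isHilbPoly (h : IsTwistFamily O) (hL : CohB1.IsAmple (O 1)) (hF : Coh.IsCoh F) {d : ℕ}
    (hd : topologicalKrullDim (CohB1.support F) < (d : WithBot ℕ∞)) {P : ℚ[X]}
    (hP : ShStab.IsHilbPoly k X (O 1) F P) (m : ℤ) :
    (Curv2.euler k X (CohB1.tensorMod F (O m)) : ℚ) = P.eval (m : ℚ) := by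
  let G : X.Modules := CohB1.tensorMod F (O (-(m.natAbs : ℤ)))
  have hG : Coh.IsCoh G := H11Ample.isCoh_tensor hF (h.inv _)
  have hsupp : CohB1.support G ⊆ CohB1.support F := H25Euler.support_tensor_subset F _
  obtain ⟨Q, hQ⟩ := H25Euler.exists_hilbPoly (k := k) hL hG (H25Euler.dim_lt_of_subset hsupp hd)
  have key : ∀ j : ℕ, (Curv2.euler k X (CohB1.tensorMod F (O ((j : ℤ) - m.natAbs))) : ℚ) = Q.eval (j : ℚ) := by
    intro j
    obtain ⟨e⟩ := h.nonempty_tensorPow j
    obtain ⟨e'⟩ := h.add (-(m.natAbs : ℤ)) j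
    let i : ShStab.twist X (O 1) G j ≅ CohB1.tensorMod F (O ((j : ℤ) - m.natAbs)) :=
      PicGrp.tensorModIso (Iso.refl G) e ≪≫ H10Coh.Tw.assoc F _ _ ≪≫
        PicGrp.tensorModIso (Iso.refl F) (e' ≪≫ eqToIso (congrArg O (by ring)))
    rw [← H25Euler.euler_congr i]
    exact hQ j
  have hQP : Q = P.comp (Polynomial.X - Polynomial.C (m.natAbs : ℚ)) := by
    refine Polynomial.eq_of_infinite_eval_eq _ _ (Set.Infinite.mono ?_
      ((Set.Ici_infinite m.natAbs).image (Nat.cast_injective (R := ℚ)).injOn))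
    rintro _ ⟨j, hj, rfl⟩
    obtain ⟨i, rfl⟩ := Nat.exists_eq_add_of_le hj
    show Q.eval _ = _
    rw [← key, eval_comp, eval_sub, eval_X, eval_C]
    push_cast
    rw [add_sub_cancel_left, add_sub_cancel_left, ← hP i]
    obtain ⟨e⟩ := h.nonempty_tensorPow i
    rw [← H25Euler.euler_congr (PicGrp.tensorModIso (Iso.refl F) e)]
    rfl
  obtain ⟨j, hj⟩ := Int.eq_ofNat_of_zero_le (show 0 ≤ m + m.natAbs by omega)
  have hm : m = (j : ℤ) - m.natAbs := by omega
  conv_lhs => rw [hm]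
  rw [key, hQP, eval_comp, eval_sub, eval_X, eval_C]
  congr 1
  exact_mod_cast hm.symm

theorem isTwistFamily_projSpace (n : ℕ) (R : Type u) [CommRing R] :
    IsTwistFamily fun a => Twist.twistProjSpace n R a where
  inv a := H22Alg.RegSheaf.isInvertible_twistProjSpace n R a
  zero := H11Tilde.nonempty_twist_zero_iso (CohB1.polyGrading n R)
  add a b := H11Tilde.nonempty_twist_tensor_iso (CohB1.polyGrading n R) (H22Alg.RegSheaf.cover n R) a b (a + b) rfl

theorem IsTwistFamily.pullback {Y : Scheme.{u}} {O : ℤ → Y.Modules} (h : IsTwistFamily O) {X : Scheme.{u}}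
    (f : X ⟶ Y) : IsTwistFamily fun a => (Scheme.Modules.pullback f).obj (O a) where
  inv a := H11Ample.isInvertible_pullback f (h.inv a)
  zero := let ⟨e⟩ := h.zero
    ⟨(Scheme.Modules.pullback f).mapIso e ≪≫ H16Derived.KFlat.Stalk.structurePullbackIso f⟩
  add a b := let ⟨e⟩ := h.add a b
    ⟨eqToIso (H25Euler.tensorBi_flip_obj _ _).symm ≪≫
      ((H16Derived.KFlat.Stalk.pullTensorLIso f (O b)).app (O a)).symm ≪≫
      (Scheme.Modules.pullback f).mapIso (eqToIso (H25Euler.tensorBi_flip_obj _ _) ≪≫ e)⟩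

end Groth.Agent.H10Coh.Stab
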