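import Groth.Agent.H10Coh.Stab.Criteria
import Groth.Agent.H29Ref.DualStalk
import Mathlib.AlgebraicGeometry.FunctionField

/-!
# Reflexive sheaves on integral schemes are pure
-/

set_option autoImplicit false
set_option linter.style.haveILetI false
set_option linter.unusedSectionVars false

universe u

open CategoryTheory CategoryTheory.Limits AlgebraicGeometry Opposite TopologicalSpace

namespace Groth.Agent.H10Coh.Stab

variable {X : Scheme.{u}} [IsIntegral X]

theorem eq_zero_of_germ_generic {F : X.Modules} (hF : RefHull.IsReflexive F) {U : X.Opens} (s : Γ(F, U))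
    (hη : genericPoint X ∈ U) (h : F.presheaf.germ U (genericPoint X) hη s = 0) : s = 0 := by
  haveI : IsIso (RefHull.bidualMap F) := hF
  apply (ConcreteCategory.bijective_of_isIso ((RefHull.bidualMap F).app U)).1
  rw [map_zero]
  refine Subtype.ext (funext fun x => LinearMap.ext fun θ => ?_)
  rw [RefHull.bidualMap_app_apply, RefHull.bidualAt_apply]
  obtain ⟨W, hxW, g, rfl⟩ := TopCat.Presheaf.exists_germ_eq (RefHull.dual F).presheaf θ
  rw [RefHull.evalStalk_germ]
  obtain ⟨V, hxV, j, n, hn⟩ := RefHull.isLocSect_of_mem g (U ⊓ W) (homOfLE inf_le_right)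
    (F.presheaf.map (homOfLE inf_le_left).op s) ⟨x.1, x.2, hxW⟩
  have hηV : genericPoint X ∈ V :=
    ((genericPoint_spec X).mem_open_set_iff V.2).2 ⟨x.1, trivial, hxV⟩
  have e₀ := hn ⟨genericPoint X, hηV⟩
  rw [TopCat.Presheaf.germ_res_apply, h, map_zero] at e₀
  have hn0 : (n : Γ(X, V)) = 0 := by
    refine germ_injective_of_isIntegral X (genericPoint X) hηV
      (Eq.trans ?_ (map_zero (X.presheaf.germ V (genericPoint X) hηV).hom).symm)
    refine (H29Ref.bijective_smul_oneStalk (genericPoint X)).1 ?_
    show _ • H29Ref.oneStalk _ = _ • H29Ref.oneStalk _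
    rw [zero_smul, ← H29Ref.germ_unit_eq_smul]
    exact e₀.symm
  have e := hn ⟨x.1, hxV⟩
  rw [TopCat.Presheaf.germ_res_apply, hn0, map_zero] at e
  exact e

theorem isPure_of_isReflexive (k : Type u) [Field k] [X.Over (Spec (CommRingCat.of k))]
    [IsProper (X ↘ Spec (CommRingCat.of k))] {F : X.Modules} (hF : RefHull.IsReflexive F) {n : ℕ}
    (hX : topologicalKrullDim X = (n : WithBot ℕ∞)) : ShStab.IsPure X F n := by
  haveI := isLocallyNoetherian_of_proper (Z := X) k
  intro G ι hι hG hG0
  haveI := hι
  haveI := hG.1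
  have hη : genericPoint X ∈ CohB1.support G := by
    by_contra hη
    refine hG0 (H10Coh.isZero_of_sections G fun W => subsingleton_of_forall_eq 0 fun s => ?_)
    apply H10Coh.injective_app_of_mono' ι W
    rw [map_zero]
    by_cases hW : (W : Set X).Nonempty
    · have hηW : genericPoint X ∈ W :=
        ((genericPoint_spec X).mem_open_set_iff W.2).2 (by simpa using hW)
      refine eq_zero_of_germ_generic hF _ hηW ?_
      haveI : Subsingleton (G.presheaf.stalk (genericPoint X)) := by
        simpa [CohB1.support, not_nontrivial_iff_subsingleton] using hη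
      have := congrArg ((TopCat.Presheaf.stalkFunctor Ab (genericPoint X)).map ι.mapPresheaf)
        (Subsingleton.elim (α := G.presheaf.stalk (genericPoint X)) (G.presheaf.germ W _ hηW s) 0)
      rw [TopCat.Presheaf.stalkFunctor_map_germ_apply] at this
      exact this.trans (map_zero _)
    · refine TopCat.Presheaf.section_ext (⟨F.presheaf, F.isSheaf⟩ : TopCat.Sheaf Ab X) W _ _ fun x hx => ?_
      exact absurd ⟨x, hx⟩ hW
  have huniv : CohB1.support G = Set.univ :=
    Set.univ_subset_iff.1 ((genericPoint_spec X).symm.trans_subset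
      ((H10Coh.isClosed_support G hG.2).closure_subset_iff.2 (Set.singleton_subset_iff.2 hη)))
  rw [huniv]
  exact ((Homeomorph.Set.univ X).isClosedEmbedding.isInducing.topologicalKrullDim_le.antisymm
    (Homeomorph.Set.univ X).symm.isClosedEmbedding.isInducing.topologicalKrullDim_le).trans hX

end Groth.Agent.H10Coh.Stab
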