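import Groth.Agent.H10Coh.Stab.Criteria
import Groth.Agent.LeadDev.Filt
import Mathlib.Algebra.Group.ForwardDiff

/-!
# Submodules of pure sheaves: sums, integrality of the multiplicity, maximal elements
-/

set_option autoImplicit false
set_option linter.style.haveILetI false
set_option linter.unusedSectionVars false

universe u

open CategoryTheory CategoryTheory.Limits AlgebraicGeometry Opposite TopologicalSpace Polynomial

namespace Groth.Agent.H10Coh.Stab

open StabCat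

theorem alpha_zero (d : ℕ) : alpha d 0 = 0 := by simp [alpha]

theorem cross_zero_left (d : ℕ) (Q : ℚ[X]) : cross d 0 Q = 0 := by simp [cross, alpha_zero]

theorem cross_zero_right (d : ℕ) (P : ℚ[X]) : cross d P 0 = 0 := by simp [cross, alpha_zero]

theorem cross_add (d : ℕ) (P Q R : ℚ[X]) : cross d (P + Q) R = cross d P R + cross d Q R := by
  simp only [cross, alpha_add, add_smul, smul_add]
  abel

theorem cross_sub (d : ℕ) (P Q R : ℚ[X]) : cross d (P - Q) R = cross d P R - cross d Q R := by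
  simp only [cross, alpha_sub, sub_smul, smul_sub]
  abel

theorem redLT_of_not_redLE {d : ℕ} {P Q : ℚ[X]} (h : ¬ RedLE d P Q) : RedLT d Q P := by
  rw [redLE_iff] at h
  rw [redLT_iff, cross_swap]
  refine pos_of_leadingCoeff_pos ?_
  rw [leadingCoeff_neg, neg_pos]
  rcases lt_trichotomy (cross d P Q).leadingCoeff 0 with h' | h' | h'
  · exact h'
  · exact absurd (by rw [leadingCoeff_eq_zero.1 h']; exact ⟨0, fun m _ => by simp⟩) h
  · exact absurd (pos_of_leadingCoeff_pos h').nonneg h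

theorem not_pos_of_eq_zero {P : ℚ[X]} (h : P = 0) : ¬ Pos P := h ▸ not_pos_zero

variable {k : Type u} [Field k] {Z : Scheme.{u}} [Z.Over (Spec (CommRingCat.of k))]
  [IsProper (Z ↘ Spec (CommRingCat.of k))] {L E : Z.Modules} {d : ℕ}

theorem isNoetherian_of_ample (k : Type u) [Field k] [Z.Over (Spec (CommRingCat.of k))]
    [IsProper (Z ↘ Spec (CommRingCat.of k))] (hL : CohB1.IsAmple L) : IsNoetherian Z := by
  haveI : CompactSpace Z := hL.2.1
  haveI := isLocallyNoetherian_of_proper (Z := Z) k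
  exact {}

/-- Integer-valued polynomials of degree at most `d` have integral multiplicity. -/
theorem exists_int_alpha {P : ℚ[X]} (hdeg : ∀ n, d < n → P.coeff n = 0)
    (hint : ∀ m : ℕ, ∃ z : ℤ, P.eval (m : ℚ) = z) : ∃ z : ℤ, alpha d P = z := by
  have hle : P.natDegree ≤ d := natDegree_le_iff_coeff_eq_zero.2 hdeg
  rcases hle.lt_or_eq with h | h
  · exact ⟨0, by rw [alpha, coeff_eq_zero_of_natDegree_lt h, mul_zero, Int.cast_zero]⟩
  choose g hg using hint
  refine ⟨∑ j ∈ Finset.range (d + 1), (-1) ^ (d - j) * (d.choose j : ℤ) * g j, ?_⟩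
  have e := congrFun P.fwdDiff_iter_degree_eq_factorial 0
  rw [h, fwdDiff_iter_eq_sum_shift, Pi.smul_apply, Pi.natCast_apply, smul_eq_mul, leadingCoeff, h,
    mul_comm] at e
  rw [alpha, ← e, Int.cast_sum]
  refine Finset.sum_congr rfl fun j _ => ?_
  rw [zero_add, nsmul_one, hg, zsmul_eq_mul]
  push_cast
  ring

theorem exists_int_alpha_hilb (hL : CohB1.IsAmple L) (hp : ShStab.IsPure Z E d) (hE : Coh.IsCoh E) {P : ℚ[X]}
    (hP : ShStab.IsHilbPoly k Z L E P) : ∃ z : ℤ, alpha d P = z :=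
  exists_int_alpha (coeff_above hL hp hE hP) fun m => ⟨_, (hP m).symm⟩

/-- Sum and intersection of two submodules. -/
theorem exists_sum (hL : CohB1.IsAmple L) (hp : ShStab.IsPure Z E d) (hE : Coh.IsCoh E)
    {F G : Z.Modules} (f : F ⟶ E) (g : G ⟶ E) [Mono f] [Mono g] (hF : Coh.IsCoh F) (hG : Coh.IsCoh G)
    {pF pG : ℚ[X]} (hpF : ShStab.IsHilbPoly k Z L F pF) (hpG : ShStab.IsHilbPoly k Z L G pG) :
    ∃ (S K : Z.Modules) (s : S ⟶ E) (a : F ⟶ S) (b : G ⟶ S) (c : K ⟶ F) (κ : K ⟶ G) (pK : ℚ[X]),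
      Mono s ∧ Coh.IsCoh S ∧ a ≫ s = f ∧ b ≫ s = g ∧ Mono c ∧ Mono κ ∧ Coh.IsCoh K ∧ c ≫ f = κ ≫ g ∧
      (∀ (T : Z.Modules) (x : T ⟶ F) (y : T ⟶ G), x ≫ f = y ≫ g → ∃ z : T ⟶ K, z ≫ κ = y ∧ z ≫ c = x) ∧
      ShStab.IsHilbPoly k Z L K pK ∧ ShStab.IsHilbPoly k Z L S (pF + pG - pK) := by
  haveI := isLocallyNoetherian_of_proper (Z := Z) k
  obtain ⟨pE, hpE⟩ := exists_hilb_self (k := k) hL hp hE
  have hC : Coh.IsCoh (cokernel f) := H10Coh.isCoh_cokernel f hF.1 hE
  let u : G ⟶ cokernel f := g ≫ cokernel.π f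
  have hker : IsLimit (KernelFork.ofι f (cokernel.condition f)) :=
    Abelian.monoIsKernelOfCokernel (CokernelCofork.ofπ (cokernel.π f) (cokernel.condition f)) (cokernelIsCokernel f)
  obtain ⟨pK, hK, hI, hpK, hpI⟩ :=
    exists_image_data hL hG hC u hpG (dim_lt_succ_of_pure (isPure_of_mono hp g) hG)
  obtain ⟨c, hc⟩ : { c : kernel u ⟶ F // c ≫ f = kernel.ι u ≫ g } :=
    KernelFork.IsLimit.lift' hker (kernel.ι u ≫ g) (by
      show (kernel.ι u ≫ g) ≫ cokernel.π f = 0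
      rw [Category.assoc]; exact kernel.condition u)
  haveI : Mono (c ≫ f) := by rw [hc]; infer_instance
  have hcm : Mono c := mono_of_mono c f
  let e : E ⟶ cokernel u := cokernel.π f ≫ cokernel.π u
  have hQ : Coh.IsCoh (cokernel u) := H10Coh.isCoh_cokernel u hG.1 hC
  have hS : Coh.IsCoh (kernel e) := H10Coh.isCoh_kernel e hE hQ.1
  refine ⟨kernel e, kernel u, kernel.ι e, kernel.lift e f (by simp [e]),
    kernel.lift e g (by rw [← Category.assoc]; exact cokernel.condition u), c, kernel.ι u, pK,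
    inferInstance, hS, kernel.lift_ι _ _ _, kernel.lift_ι _ _ _, hcm, inferInstance, hK, hc, fun T x y hxy => ?_,
    hpK, ?_⟩
  · refine ⟨kernel.lift u y (by
      show y ≫ g ≫ cokernel.π f = 0
      rw [← Category.assoc, ← hxy, Category.assoc, cokernel.condition, Limits.comp_zero]), kernel.lift_ι _ _ _, ?_⟩
    rw [← cancel_mono f, Category.assoc, hc, kernel.lift_ι_assoc, hxy]
  -- the Hilbert polynomial of the sum
  obtain ⟨pS, hpS⟩ := exists_hilb_of_mono (k := k) hL hp hE (kernel.ι e) hS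
  have hQ₁ : ShStab.IsHilbPoly k Z L (cokernel u) (pE - pS) := by
    refine H25Euler.hilbPoly_congr ?_ (H25Euler.polyLE_of_mono hL hS hE (kernel.ι e) hpS hpE).2
    exact IsColimit.coconePointUniqueUpToIso (cokernelIsCokernel (kernel.ι e))
      (Abelian.epiIsCokernelOfKernel (KernelFork.ofι (kernel.ι e) (kernel.condition e)) (kernelIsKernel e))
  have hQ₂ : ShStab.IsHilbPoly k Z L (cokernel u) ((pE - pF) - (pG - pK)) := by
    refine H25Euler.hilbPoly_congr ?_
      (H25Euler.polyLE_of_mono hL hI hC (Abelian.image.ι u) hpI (H25Euler.polyLE_of_mono hL hF hE f hpF hpE).2).2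
    exact (cokernelEpiComp (Abelian.factorThruImage u) (Abelian.image.ι u)).symm ≪≫
      cokernelIsoOfEq (Abelian.image.fac u)
  have h := H25Euler.hilbPoly_unique hQ₁ hQ₂
  rw [show pF + pG - pK = pS by linear_combination h]
  exact hpS

/-- A submodule above a given one, maximal among those with at least its reduced polynomial. -/
theorem exists_maximal_above (hL : CohB1.IsAmple L) (hp : ShStab.IsPure Z E d) (hE : Coh.IsCoh E)
    {G : Z.Modules} (g : G ⟶ E) [Mono g] (hG : Coh.IsCoh G) (h0 : ¬ IsZero G) {pG : ℚ[X]}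
    (hpG : ShStab.IsHilbPoly k Z L G pG) :
    ∃ (M : Z.Modules) (m : M ⟶ E) (φ : G ⟶ M) (pM : ℚ[X]), Mono m ∧ Coh.IsCoh M ∧ ¬ IsZero M ∧ φ ≫ m = g ∧
      ShStab.IsHilbPoly k Z L M pM ∧ RedLE d pG pM ∧
      ∀ (N : Z.Modules) (n : N ⟶ E) (ψ : M ⟶ N) (pN : ℚ[X]), Mono n → Coh.IsCoh N → ψ ≫ n = m →
        ShStab.IsHilbPoly k Z L N pN → ¬ Epi ψ → RedLT d pN pM := by
  haveI := isNoetherian_of_ample (Z := Z) k hL
  obtain ⟨M, m, ⟨hm, hM, φ, hφ, pM, hpM, hle⟩, hmax⟩ := LeadDev.exists_maximal_sub E hE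
    (fun M m => Mono m ∧ Coh.IsCoh M ∧ ∃ φ : G ⟶ M, φ ≫ m = g ∧ ∃ pM, ShStab.IsHilbPoly k Z L M pM ∧ RedLE d pG pM)
    (fun N f h => ⟨h.1, h.2.1⟩)
    ⟨G, g, inferInstance, hG, 𝟙 G, Category.id_comp g, pG, hpG, redLE_of_redEq (redEq_refl _ _)⟩
  haveI := hm
  haveI : Mono (φ ≫ m) := by rw [hφ]; infer_instance
  haveI := mono_of_mono φ m
  have hM0 : ¬ IsZero M := fun h => h0 (h.of_mono φ)
  refine ⟨M, m, φ, pM, hm, hM, hM0, hφ, hpM, hle, fun N n ψ pN hn hN hψ hpN hepi => ?_⟩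
  haveI := hn
  haveI : Mono (ψ ≫ n) := by rw [hψ]; infer_instance
  haveI := mono_of_mono ψ n
  refine redLT_of_not_redLE fun hle' => hepi (hmax N n ψ ⟨hn, hN, φ ≫ ψ, by rw [Category.assoc, hψ, hφ], pN, hpN,
    redLE_trans ?_ ?_ ?_ hle hle'⟩ hψ)
  · exact (alpha_pos_of_pure hL (isPure_of_mono hp g) hG h0 hpG).le
  · exact alpha_pos_of_pure hL (isPure_of_mono hp m) hM hM0 hpM
  · exact (alpha_pos_of_pure hL (isPure_of_mono hp n) hN (fun h => hM0 (h.of_mono ψ)) hpN).le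

end Groth.Agent.H10Coh.Stab
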