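import Groth.Agent.H10Coh.Stab.Simple
import Groth.Agent.H10Coh.Stab.ReflexivePure
import Groth.Agent.H10Coh.Stab.Sub
import Groth.Agent.H10Coh.FinType2

/-!
# Slope semistability of pure sheaves
-/

set_option autoImplicit false
set_option linter.style.haveILetI false
set_option linter.unusedSectionVars false

universe u

open CategoryTheory CategoryTheory.Limits AlgebraicGeometry Opposite TopologicalSpace Polynomial

namespace Groth.Agent.H10Coh.Stab

open StabCat

variable {k : Type u} [Field k] {Z : Scheme.{u}} [Z.Over (Spec (CommRingCat.of k))]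
  [IsProper (Z ↘ Spec (CommRingCat.of k))] {L E F G : Z.Modules} {d : ℕ}

theorem alpha_nonneg (hL : CohB1.IsAmple L) (hp : ShStab.IsPure Z E d) (hE : Coh.IsCoh E) {P : ℚ[X]}
    (hP : ShStab.IsHilbPoly k Z L E P) : 0 ≤ alpha d P := by
  by_cases h0 : IsZero E
  · rw [H25Euler.hilbPoly_unique hP (H25Euler.hilbPoly_zero h0), alpha_zero]
  · exact (alpha_pos_of_pure hL hp hE h0 hP).le

theorem isZero_of_alpha_eq_zero (hL : CohB1.IsAmple L) (hp : ShStab.IsPure Z E d) (hE : Coh.IsCoh E) {P : ℚ[X]}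
    (hP : ShStab.IsHilbPoly k Z L E P) (h : alpha d P = 0) : IsZero E :=
  by_contra fun h0 => (alpha_pos_of_pure hL hp hE h0 hP).ne' h

/-- A submodule of full multiplicity has at most the next coefficient. -/
theorem alpha_pred_le_of_eq (hL : CohB1.IsAmple L) (hd : 1 ≤ d) (hp : ShStab.IsPure Z E d) (hE : Coh.IsCoh E)
    (hF : Coh.IsCoh F) (ι : F ⟶ E) [Mono ι] {pF pE : ℚ[X]} (hpF : ShStab.IsHilbPoly k Z L F pF)
    (hpE : ShStab.IsHilbPoly k Z L E pE) (h : alpha d pF = alpha d pE) : alpha (d - 1) pF ≤ alpha (d - 1) pE := by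
  haveI := isLocallyNoetherian_of_proper (Z := Z) k
  obtain ⟨-, hC⟩ := H25Euler.polyLE_of_mono hL hF hE ι hpF hpE
  have hc := H25Euler.coeff_nonneg_of_eventually (P := pE - pF) (e := d - 1) (fun n hn => by
    rcases (show d ≤ n by omega).eq_or_lt with rfl | h'
    · rw [coeff_sub, sub_eq_zero]
      exact (mul_left_cancel₀ (by exact_mod_cast d.factorial_ne_zero) h).symm
    · rw [coeff_sub, coeff_above hL (isPure_of_mono hp ι) hF hpF n h', coeff_above hL hp hE hpE n h', sub_zero])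
    (H25Euler.eval_nonneg hL (H10Coh.isCoh_cokernel ι hF.1 hE) hC)
  rw [coeff_sub, sub_nonneg] at hc
  exact mul_le_mul_of_nonneg_left hc (by positivity)

/-- The slope inequality in linear form, for every submodule of a pure slope semistable sheaf. -/
theorem alpha_pred_le (hL : CohB1.IsAmple L) (hd : 1 ≤ d) (hp : ShStab.IsPure Z E d)
    (hE : ShStab.IsMuSemistable k Z L E d) (hF : Coh.IsCoh F) (ι : F ⟶ E) [Mono ι] {pF pE : ℚ[X]}
    (hpF : ShStab.IsHilbPoly k Z L F pF) (hpE : ShStab.IsHilbPoly k Z L E pE) :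
    alpha (d - 1) pF * alpha d pE ≤ alpha d pF * alpha (d - 1) pE := by
  by_cases h0 : IsZero F
  · simp [H25Euler.hilbPoly_unique hpF (H25Euler.hilbPoly_zero h0), alpha_zero]
  have hαF := alpha_pos_of_pure hL (isPure_of_mono hp ι) hF h0 hpF
  have hαE := alpha_pos_of_pure hL hp hE.1 hE.2.1 hpE
  rcases (alpha_le_of_mono hL hp hE.1 hF ι hpF hpE).lt_or_eq with h | h
  · have := hE.2.2.2.2 F ι inferInstance hF pF pE hpF hpE hαF h
    rw [hatSlope, hatSlope, div_le_div_iff₀ hαF hαE] at this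
    linarith
  · have := alpha_pred_le_of_eq hL hd hp hE.1 hF ι hpF hpE h
    rw [h, mul_comm (alpha d pE)]
    exact mul_le_mul_of_nonneg_right this hαE.le

theorem eq_zero_of_hatSlope_lt (hL : CohB1.IsAmple L) (hd : 1 ≤ d) (hFp : ShStab.IsPure Z F d)
    (hGp : ShStab.IsPure Z G d) (hF : ShStab.IsMuSemistable k Z L F d) (hG : ShStab.IsMuSemistable k Z L G d)
    {pF pG : ℚ[X]} (hpF : ShStab.IsHilbPoly k Z L F pF) (hpG : ShStab.IsHilbPoly k Z L G pG)
    (hlt : hatSlope d pG < hatSlope d pF) (φ : F ⟶ G) : φ = 0 := by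
  by_contra hφ
  obtain ⟨pK, hK, hI, hpK, hpI⟩ := exists_image_data hL hF.1 hG.1 φ hpF (dim_lt_succ_of_pure hFp hF.1)
  have h₁ := alpha_pred_le hL hd hFp hF hK (kernel.ι φ) hpK hpF
  have h₂ := alpha_pred_le hL hd hGp hG hI (Abelian.image.ι φ) hpI hpG
  have hαF := alpha_pos_of_pure hL hFp hF.1 hF.2.1 hpF
  have hαG := alpha_pos_of_pure hL hGp hG.1 hG.2.1 hpG
  have hαI := alpha_pos_of_pure hL (isPure_of_mono hGp (Abelian.image.ι φ)) hI (not_isZero_image hφ) hpI
  rw [alpha_sub, alpha_sub] at h₂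
  rw [alpha_sub] at hαI
  rw [hatSlope, hatSlope, div_lt_div_iff₀ hαG hαF] at hlt
  nlinarith [mul_le_mul_of_nonneg_left h₁ hαG.le, mul_le_mul_of_nonneg_left h₂ hαF.le, mul_pos hαI (sub_pos.2 hlt)]

theorem isPure_extension {T : ShortComplex Z.Modules} (hT : T.ShortExact) (h₁ : ShStab.IsPure Z T.X₁ d)
    (h₃ : ShStab.IsPure Z T.X₃ d) (hX₃ : Coh.IsCoh T.X₃) (k : Type u) [Field k] [Z.Over (Spec (CommRingCat.of k))]
    [IsProper (Z ↘ Spec (CommRingCat.of k))] (hdim : topologicalKrullDim Z = (d : WithBot ℕ∞)) :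
    ShStab.IsPure Z T.X₂ d := by
  haveI := isLocallyNoetherian_of_proper (Z := Z) k
  intro M m hm hM hM0
  haveI := hm
  haveI := hT.mono_f
  by_cases h : m ≫ T.g = 0
  · obtain ⟨l, hl⟩ := KernelFork.IsLimit.lift' hT.exact.fIsKernel m h
    replace hl : l ≫ T.f = m := hl
    haveI : Mono (l ≫ T.f) := by rw [hl]; infer_instance
    exact h₁ M l (mono_of_mono l T.f) hM hM0
  · have hI : Coh.IsCoh (Abelian.image (m ≫ T.g)) :=
      H10Coh.isCoh_kernel _ hX₃ (H10Coh.isCoh_cokernel (m ≫ T.g) hM.1 hX₃).1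
    have hd := h₃ _ (Abelian.image.ι (m ≫ T.g)) inferInstance hI (not_isZero_image h)
    refine le_antisymm ((Topology.IsEmbedding.subtypeVal.isInducing.topologicalKrullDim_le).trans hdim.le) ?_
    rw [← hd]
    exact Topology.IsInducing.topologicalKrullDim_le (f := Set.inclusion
      (LeadDev.support_subset_of_epi (Abelian.factorThruImage (m ≫ T.g))))
      (Topology.IsEmbedding.inclusion _).isInducing

theorem isMuSemistable_extension (hL : CohB1.IsAmple L) (hd : 1 ≤ d)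
    (hX : topologicalKrullDim Z = (d : WithBot ℕ∞)) (T : ShortComplex Z.Modules) (hT : T.ShortExact)
    (h₁p : ShStab.IsPure Z T.X₁ d) (h₃p : ShStab.IsPure Z T.X₃ d)
    (h₁ : ShStab.IsMuSemistable k Z L T.X₁ d) (h₃ : ShStab.IsMuSemistable k Z L T.X₃ d)
    {pF pG : ℚ[X]} (hpF : ShStab.IsHilbPoly k Z L T.X₁ pF) (hpG : ShStab.IsHilbPoly k Z L T.X₃ pG)
    (hμ : hatSlope d pF = hatSlope d pG) :
    ShStab.IsMuSemistable k Z L T.X₂ d ∧
      ∀ pH : ℚ[X], ShStab.IsHilbPoly k Z L T.X₂ pH → hatSlope d pH = hatSlope d pF := by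
  haveI := isLocallyNoetherian_of_proper (Z := Z) k
  haveI := hT.mono_f
  haveI := hT.epi_g
  have hc : Coh.IsCoh T.X₂ := H10Coh.isCoh_X₂ hT h₁.1 h₃.1
  have hp := isPure_extension hT h₁p h₃p h₃.1 k hX
  have h0 : ¬ IsZero T.X₂ := fun h => h₁.2.1 (h.of_mono T.f)
  obtain ⟨pH, hpH⟩ := exists_hilb_self (k := k) hL hp hc
  have hsum : pG = pH - pF := H25Euler.hilbPoly_unique hpG (H25Euler.hilbPoly_congr
    (IsColimit.coconePointUniqueUpToIso (cokernelIsCokernel T.f) hT.gIsCokernel)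
    (H25Euler.polyLE_of_mono hL h₁.1 hc T.f hpF hpH).2)
  have hαF := alpha_pos_of_pure hL h₁p h₁.1 h₁.2.1 hpF
  have hαG := alpha_pos_of_pure hL h₃p h₃.1 h₃.2.1 hpG
  have hαH := alpha_pos_of_pure hL hp hc h0 hpH
  have e₀ : alpha d pG = alpha d pH - alpha d pF := by rw [hsum, alpha_sub]
  have e₁ : alpha (d - 1) pG = alpha (d - 1) pH - alpha (d - 1) pF := by rw [hsum, alpha_sub]
  rw [hatSlope, hatSlope, div_eq_div_iff hαF.ne' hαG.ne', e₀, e₁] at hμ
  refine ⟨⟨hc, h0, dim_self_of_pure hp hc h0, fun M m hm hM heq => ?_, fun M m hm hM pM pH' hpM hpH' hpos hlt => ?_⟩,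
    fun pH' hpH' => ?_⟩
  · haveI := hm
    by_cases hM0 : IsZero M
    · haveI : IsEmpty (IrreducibleCloseds (CohB1.support M)) := by
        rw [support_eq_empty_of_isZero hM0]
        exact ⟨fun C => let ⟨x, _⟩ := C.isIrreducible.nonempty; x.2.elim⟩
      rw [topologicalKrullDim, Order.krullDim_eq_bot, WithBot.bot_add] at heq
      exact WithBot.bot_ne_coe heq
    · rw [hp M m hm hM hM0] at heq
      have : ((d + 1 : ℕ) : WithBot ℕ∞) = (d : ℕ) := by exact_mod_cast heq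
      exact absurd (by exact_mod_cast this : d + 1 = d) (by omega)
  · obtain rfl := H25Euler.hilbPoly_unique hpH hpH'
    haveI := hm
    obtain ⟨pK, hK, hI, hpK, hpI⟩ := exists_image_data hL hM h₃.1 (m ≫ T.g) hpM
      (dim_lt_succ_of_pure (isPure_of_mono hp m) hM)
    obtain ⟨l, hl⟩ := KernelFork.IsLimit.lift' hT.exact.fIsKernel (kernel.ι (m ≫ T.g) ≫ m)
      (by rw [Category.assoc, kernel.condition])
    replace hl : l ≫ T.f = kernel.ι (m ≫ T.g) ≫ m := hl
    haveI : Mono (l ≫ T.f) := by rw [hl]; exact mono_comp _ _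
    haveI := mono_of_mono l T.f
    have k₁ := alpha_pred_le hL hd h₁p h₁ hK l hpK hpF
    have k₂ := alpha_pred_le hL hd h₃p h₃ hI (Abelian.image.ι (m ≫ T.g)) hpI hpG
    rw [alpha_sub, alpha_sub, e₀, e₁] at k₂
    rw [e₀] at hαG
    rw [hatSlope, hatSlope, div_le_div_iff₀ hpos hαH]
    have k₂' : (alpha (d - 1) pM - alpha (d - 1) pK) * alpha d pF ≤
        (alpha d pM - alpha d pK) * alpha (d - 1) pF :=
      le_of_mul_le_mul_left (by
        calc (alpha d pH - alpha d pF) * ((alpha (d - 1) pM - alpha (d - 1) pK) * alpha d pF)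
            = alpha d pF * ((alpha (d - 1) pM - alpha (d - 1) pK) * (alpha d pH - alpha d pF)) := by ring
          _ ≤ alpha d pF * ((alpha d pM - alpha d pK) * (alpha (d - 1) pH - alpha (d - 1) pF)) :=
            mul_le_mul_of_nonneg_left k₂ hαF.le
          _ = _ := by linear_combination (-(alpha d pM - alpha d pK)) * hμ) hαG
    have k : alpha (d - 1) pM * alpha d pF ≤ alpha d pM * alpha (d - 1) pF := by linarith
    have hμ' : alpha (d - 1) pH * alpha d pF = alpha (d - 1) pF * alpha d pH := by linarith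
    refine le_of_mul_le_mul_left ?_ hαF
    calc alpha d pF * (alpha (d - 1) pM * alpha d pH) = (alpha (d - 1) pM * alpha d pF) * alpha d pH := by ring
      _ ≤ (alpha d pM * alpha (d - 1) pF) * alpha d pH := mul_le_mul_of_nonneg_right k hαH.le
      _ = alpha d pF * (alpha (d - 1) pH * alpha d pM) := by linear_combination (-(alpha d pM)) * hμ'
  · obtain rfl := H25Euler.hilbPoly_unique hpH hpH'
    rw [hatSlope, hatSlope, div_eq_div_iff hαH.ne' hαF.ne']
    linarith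

/-- An injective endomorphism of a coherent sheaf is an isomorphism. -/
theorem isIso_endo (k : Type u) [Field k] [Z.Over (Spec (CommRingCat.of k))]
    [IsProper (Z ↘ Spec (CommRingCat.of k))] (hL : CohB1.IsAmple L) (hp : ShStab.IsPure Z E d) (hE : Coh.IsCoh E) (φ : E ⟶ E) [Mono φ] :
    IsIso φ := by
  obtain ⟨P, hP⟩ := exists_hilb_self (k := k) hL hp hE
  exact isIso_of_mono_of_eq hL hE hE φ hP hP

theorem mono_of_isMuStable (hL : CohB1.IsAmple L) (hd : 1 ≤ d) (hFp : ShStab.IsPure Z F d)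
    (hGp : ShStab.IsPure Z G d) (hF : ShStab.IsMuStable k Z L F d) (hG : ShStab.IsMuSemistable k Z L G d)
    {pF pG : ℚ[X]} (hpF : ShStab.IsHilbPoly k Z L F pF) (hpG : ShStab.IsHilbPoly k Z L G pG)
    (hle : hatSlope d pG ≤ hatSlope d pF) (φ : F ⟶ G) (hφ : φ ≠ 0) : Mono φ := by
  obtain ⟨pK, hK, hI, hpK, hpI⟩ := exists_image_data hL hF.1 hG.1 φ hpF (dim_lt_succ_of_pure hFp hF.1)
  refine Preadditive.mono_of_isZero_kernel _ (by_contra fun hK0 => ?_)
  have hαK := alpha_pos_of_pure hL (isPure_of_mono hFp (kernel.ι φ)) hK hK0 hpK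
  have hαI := alpha_pos_of_pure hL (isPure_of_mono hGp (Abelian.image.ι φ)) hI (not_isZero_image hφ) hpI
  have h₂ := alpha_pred_le hL hd hGp hG hI (Abelian.image.ι φ) hpI hpG
  have hαF := alpha_pos_of_pure hL hFp hF.1 hF.2.1 hpF
  have hαG := alpha_pos_of_pure hL hGp hG.1 hG.2.1 hpG
  rw [alpha_sub] at hαI
  have h₁ := hF.2.2.2.2 (kernel φ) (kernel.ι φ) inferInstance hK pK pF hpK hpF hαK (by linarith)
  rw [hatSlope, hatSlope, div_lt_div_iff₀ hαK hαF] at h₁
  rw [hatSlope, hatSlope, div_le_div_iff₀ hαG hαF] at hle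
  rw [alpha_sub, alpha_sub] at h₂
  nlinarith [mul_lt_mul_of_pos_left h₁ hαG, mul_le_mul_of_nonneg_left h₂ hαF.le, mul_le_mul_of_nonneg_left hle hαI.le]

theorem isMuSemistable_of_isMuStable (h : ShStab.IsMuStable k Z L E d) : ShStab.IsMuSemistable k Z L E d :=
  ⟨h.1, h.2.1, h.2.2.1, h.2.2.2.1, fun F ι hι hF pF pE h₁ h₂ h₃ h₄ => (h.2.2.2.2 F ι hι hF pF pE h₁ h₂ h₃ h₄).le⟩

theorem endo_eq_smulMod (k : Type u) [Field k] [IsAlgClosed k] [Z.Over (Spec (CommRingCat.of k))]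
    [IsProper (Z ↘ Spec (CommRingCat.of k))] (hL : CohB1.IsAmple L) (hp : ShStab.IsPure Z E d) (hE : Coh.IsCoh E)
    (h0 : ¬ IsZero E) (hmono : ∀ ψ : E ⟶ E, ψ ≠ 0 → Mono ψ) (φ : E ⟶ E) :
    ∃ c : k, φ = Formal.smulMod k E c := by
  obtain ⟨c, hc⟩ := exists_scalar_not_isIso k hE h0 φ
  refine ⟨c, sub_eq_zero.1 (by_contra fun h => hc ?_)⟩
  haveI := hmono _ h
  exact isIso_endo k hL hp hE _

end Groth.Agent.H10Coh.Stab
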