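import Groth.Agent.H10Coh.Stab.Quotient
import Groth.Agent.H25Euler.Exists
import Groth.Agent.H25Euler.ParSh
import Groth.Agent.H25Euler.Saturate
import Groth.Agent.H10Coh.Proper2
import Groth.Agent.H29Ref.Generic
import Groth.Agent.H11Ample.Global

/-!
# Hilbert polynomials have the degree of the support and positive leading coefficient
-/

set_option autoImplicit false
set_option linter.style.haveILetI false
set_option linter.unusedSectionVars false

universe u

open CategoryTheory CategoryTheory.Limits AlgebraicGeometry Opposite TopologicalSpace Polynomial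

namespace Groth.Agent.H10Coh.Stab

open Groth.Agent.H25Euler

attribute [local instance 10000] Groth.Agent.H10Coh.hasSheafifyAb Groth.Agent.H10Coh.hasWeakSheafifyAb Groth.Agent.H10Coh.hasExtAb Groth.Agent.H10Coh.enoughInjAb

/-- A chain of `d` proper specialisations starts at the point. -/
def Chain {Y : Type*} [TopologicalSpace Y] : ℕ → Y → Prop
  | 0, _ => True
  | d + 1, η => ∃ x, η ⤳ x ∧ x ≠ η ∧ Chain d x

theorem exists_chain {Y : Type*} [TopologicalSpace Y] [T0Space Y] [QuasiSober Y] {S : Set Y} (hS : IsClosed S) {d : ℕ}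
    (hd : (d : WithBot ℕ∞) ≤ topologicalKrullDim S) : ∃ η ∈ S, Chain d η := by
  haveI : QuasiSober S := hS.isClosedEmbedding_subtypeVal.quasiSober
  haveI : T0Space S := inferInstance
  haveI : Nonempty (IrreducibleCloseds S) := by
    by_contra h
    rw [not_nonempty_iff] at h
    rw [topologicalKrullDim, Order.krullDim_eq_bot] at hd
    exact absurd hd (by simp)
  obtain ⟨l, hl⟩ := Order.le_krullDim_iff.1 hd
  have key : ∀ (j : ℕ) (hj : j < l.length + 1), Chain j ((l ⟨j, hj⟩).isIrreducible.genericPoint : Y) := by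
    intro j
    induction j with
    | zero => exact fun _ => trivial
    | succ j ih =>
      intro hj
      have hlt : l ⟨j, by omega⟩ < l ⟨j + 1, hj⟩ := l.strictMono (Nat.lt_succ_self j)
      let A := l ⟨j, by omega⟩
      let B := l ⟨j + 1, hj⟩
      have hA := A.isIrreducible.isGenericPoint_genericPoint_closure
      have hB := B.isIrreducible.isGenericPoint_genericPoint_closure
      rw [A.isClosed.closure_eq] at hA
      rw [B.isClosed.closure_eq] at hB
      refine ⟨_, (hB.specializes (hlt.le hA.mem)).map continuous_subtype_val, fun h => hlt.ne ?_, ih (by omega)⟩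
      refine IrreducibleCloseds.ext ?_
      rw [← hA.def, Subtype.val_injective h, hB.def]
  subst hl
  exact ⟨_, Subtype.property _, key l.length (Nat.lt_succ_self _)⟩

section poly

theorem natDegree_comp_sub_le (Q : ℚ[X]) (a : ℚ) (h : Q.comp (X + C a) - Q ≠ 0) :
    (Q.comp (X + C a) - Q).natDegree + 1 ≤ Q.natDegree := by
  have hdeg : (Q.comp (X + C a)).natDegree = Q.natDegree := by
    rw [natDegree_comp, natDegree_X_add_C, mul_one]
  have h0 : Q.natDegree ≠ 0 := fun h0 => h (by
    rw [eq_C_of_natDegree_eq_zero h0, C_comp, sub_self])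
  have hle : (Q.comp (X + C a) - Q).natDegree ≤ Q.natDegree :=
    (natDegree_sub_le _ _).trans (max_le hdeg.le le_rfl)
  refine Nat.succ_le_of_lt (lt_of_le_of_ne hle fun he => leadingCoeff_ne_zero.2 h ?_)
  rw [leadingCoeff, he, coeff_sub]
  conv_lhs => arg 1; rw [← hdeg]
  rw [coeff_natDegree, leadingCoeff_comp (by rw [natDegree_X_add_C]; exact one_ne_zero), leadingCoeff_X_add_C,
    one_pow, mul_one, leadingCoeff, sub_self]

theorem leadingCoeff_pos {P : ℚ[X]} (h0 : P ≠ 0) (h : ∃ N : ℕ, ∀ m, N ≤ m → 0 ≤ P.eval (m : ℚ)) :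
    0 < P.leadingCoeff :=
  lt_of_le_of_ne (coeff_nonneg_of_eventually (fun _ hn => coeff_eq_zero_of_natDegree_lt hn) h)
    (Ne.symm (leadingCoeff_ne_zero.2 h0))

theorem natDegree_mono {P Q : ℚ[X]} (hQ : Q ≠ 0) (h0 : ∃ N : ℕ, ∀ m, N ≤ m → 0 ≤ Q.eval (m : ℚ))
    (h : ∃ N : ℕ, ∀ m, N ≤ m → Q.eval (m : ℚ) ≤ P.eval (m : ℚ)) : P ≠ 0 ∧ Q.natDegree ≤ P.natDegree := by
  obtain ⟨N, hN⟩ := h
  have key : ¬ P.coeff Q.natDegree = 0 ∨ Q.natDegree < P.natDegree := by
    by_contra hc
    push Not at hc
    obtain ⟨hc, hle⟩ := hc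
    have h1 := coeff_nonneg_of_eventually (P := P - Q) (e := Q.natDegree) (fun n hn => by
      rw [coeff_sub, coeff_eq_zero_of_natDegree_lt (lt_of_le_of_lt hle hn), coeff_eq_zero_of_natDegree_lt hn, sub_zero])
      ⟨N, fun m hm => by rw [eval_sub]; linarith [hN m hm]⟩
    rw [coeff_sub, hc, zero_sub] at h1
    have h2 : 0 < Q.coeff Q.natDegree := leadingCoeff_pos hQ h0
    linarith
  rcases key with hc | hc
  · exact ⟨fun h => hc (by rw [h, coeff_zero]), le_natDegree_of_ne_zero hc⟩
  · exact ⟨fun h => by simp [h] at hc, hc.le⟩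

end poly

variable {k : Type u} [Field k] {Z : Scheme.{u}} [Z.Over (Spec (CommRingCat.of k))]
  [IsProper (Z ↘ Spec (CommRingCat.of k))] {L : Z.Modules}

theorem isSeparated_of_proper (k : Type u) [Field k] [Z.Over (Spec (CommRingCat.of k))]
    [IsProper (Z ↘ Spec (CommRingCat.of k))] : Z.IsSeparated :=
  ⟨by rw [← terminal.comp_from (Z ↘ Spec (CommRingCat.of k))]; infer_instance⟩

theorem hilbPoly_ne_zero (hL : CohB1.IsAmple L) {F : Z.Modules} (hF : Coh.IsCoh F) (h0 : ¬ IsZero F) {P : ℚ[X]}
    (hP : ShStab.IsHilbPoly k Z L F P) : P ≠ 0 := by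
  rintro rfl
  haveI : CompactSpace Z := hL.2.1
  haveI : QuasiSeparatedSpace Z := quasiSeparatedSpace_of_quasiSeparated (Z ↘ Spec (CommRingCat.of k))
  haveI : IsLocallyNoetherian Z := LocallyOfFiniteType.isLocallyNoetherian (Z ↘ Spec (CommRingCat.of k))
  obtain ⟨n₀, hg⟩ := H11Ample.eventually_globallyGenerated hL hF
  obtain ⟨N, hN⟩ := H10Coh.Tw.exists_vanishing_ample (Z ↘ Spec (CommRingCat.of k)) hL F hF
  let m := max n₀ N
  let T := ShStab.twist Z L F m
  have hT : Coh.IsCoh T := H11Ample.isCoh_tensor hF (H11Ample.isInvertible_tensorPow hL.1 m)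
  have hvan : ∀ p, 1 ≤ p → Subsingleton (Coh.HH Z T p) := fun p hp =>
    (H10Coh.HHEquiv T p).toEquiv.subsingleton_congr.2 (hN m (le_max_right _ _) p hp)
  have he : Curv2.euler k Z T = 0 := by
    have h := hP m
    rw [eval_zero] at h
    exact_mod_cast h
  rw [euler_eq_sum T 1 hvan, Finset.sum_range_one, pow_zero, one_mul, Nat.cast_eq_zero] at he
  haveI := H10Coh.finite_HH_proper k Z T hT 0
  haveI : Subsingleton (Coh.HH Z T 0) := Module.finrank_zero_iff.1 he
  haveI : Subsingleton Γ(T, ⊤) :=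
    ((H10Coh.HHEquiv T 0).trans (H10Coh.H0Equiv (H10Coh.sh T) ⊤)).toEquiv.symm.subsingleton
  obtain ⟨ι, p, hp⟩ := hg m (le_max_left _ _)
  have hp0 : p = 0 := T.freeHomEquiv.injective (funext fun i => Subtype.ext (funext fun W => by
    have hs : ∀ (s : T.val.sections), s.val W = T.val.map (homOfLE (le_top : W.unop ≤ ⊤)).op (s.val (op ⊤)) :=
      fun s => (s.property _).symm
    rw [hs, hs, @Subsingleton.elim Γ(T, ⊤) _ ((T.freeHomEquiv p i).val (op ⊤)) ((T.freeHomEquiv 0 i).val (op ⊤))]
    rfl))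
  have hTz : IsZero T := by
    rw [IsZero.iff_id_eq_zero]
    haveI : Epi (C := Z.Modules) (Y := T) p := hp
    refine (cancel_epi (show _ ⟶ T from p)).1 ?_
    exact (congrArg (· ≫ 𝟙 T) hp0).trans (zero_comp.trans comp_zero.symm)
  refine h0 (H16Derived.KFlat.Stalk.isZero_of_stalk fun x => ?_)
  obtain ⟨i⟩ := nonempty_stalkIso_tensor F (H11Ample.isInvertible_tensorPow hL.1 m) x
  exact ((DerSch.stalkFunctor Z x).map_isZero hTz).of_iso i

theorem natDegree_ge_of_chain (hL : CohB1.IsAmple L) {n : ℕ} (d : ℕ) : ∀ (F : Z.Modules), Coh.IsCoh F →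
    topologicalKrullDim (CohB1.support F) < (n : WithBot ℕ∞) →
    ∀ η ∈ CohB1.support F, Chain d η → ∀ P : ℚ[X], ShStab.IsHilbPoly k Z L F P →
    P ≠ 0 ∧ d ≤ P.natDegree := by
  haveI : CompactSpace Z := hL.2.1
  haveI : QuasiSeparatedSpace Z := quasiSeparatedSpace_of_quasiSeparated (Z ↘ Spec (CommRingCat.of k))
  haveI : IsLocallyNoetherian Z := LocallyOfFiniteType.isLocallyNoetherian (Z ↘ Spec (CommRingCat.of k))
  haveI : Z.IsSeparated := isSeparated_of_proper k
  induction d with
  | zero =>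
    intro F hF _ η hη _ P hP
    exact ⟨hilbPoly_ne_zero hL hF (fun h => (notMem_support_iff F η).2 ((DerSch.stalkFunctor Z η).map_isZero h) hη) hP,
      Nat.zero_le _⟩
  | succ d ih =>
    rintro F hF hdim η hη ⟨x, hηx, hne, hx⟩ P hP
    have hxη : η ∉ closure ({x} : Set Z) := fun h => hne ((specializes_iff_mem_closure.2 h).antisymm hηx).eq
    obtain ⟨a, σ, ha, hσ, hgU, hDaff⟩ := H11Ample.exists_affine_gen_nhd_finite hL (Set.finite_singleton η)
      (U := ⟨(closure ({x} : Set Z))ᶜ, isClosed_closure.isOpen_compl⟩) (Set.singleton_subset_iff.2 hxη)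
    let M := CohB1.tensorPow L a
    let s := H11Tilde.homOfGlobal M σ
    have hMi := H11Ample.isInvertible_tensorPow hL.1 a
    obtain ⟨G, π, hG, hπ, hinj, hsupp⟩ := exists_injective_quotient hF hMi s hDaff
    have hηG : η ∈ CohB1.support G := hsupp η (hσ rfl) hη
    have hGsub : CohB1.support G ⊆ CohB1.support F := by
      haveI := hπ
      exact (support_X₁_X₃ (S := ShortComplex.mk (kernel.ι π) π (kernel.condition _))
        { exact := ShortComplex.exact_kernel _ }).2
    have hGdim := dim_lt_of_subset hGsub hdim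
    obtain ⟨Q, hQ⟩ := exists_hilbPoly (k := k) hL hG hGdim
    let φ := mulHom G s
    have hG' : Coh.IsCoh (CohB1.tensorMod G M) := H11Ample.isCoh_tensor hG hMi
    have hC : Coh.IsCoh (cokernel φ) := H10Coh.isCoh_cokernel φ hG.1 hG'
    have hxC : x ∈ CohB1.support (cokernel φ) := by
      by_contra hxC
      obtain ⟨V, hxV, c, hV, i, hi⟩ := exists_mulHom_smul G hMi s x
      have hxG : x ∈ CohB1.support G := (H10Coh.isClosed_support G hG.2).closure_subset_iff.2
        (Set.singleton_subset_iff.2 hηG) hηx.mem_closure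
      refine hxG ?_
      haveI := H29Ref.finite_stalk G hG.2 x
      have hm : Z.presheaf.germ V x hxV c ∈ IsLocalRing.maximalIdeal (Z.presheaf.stalk x) := fun hu =>
        hgU ((hV.le ((Z.mem_basicOpen c x hxV).2 hu)).1) (subset_closure (Set.mem_singleton x))
      have hsurj : Function.Surjective ((DerSch.stalkFunctor Z x).map φ) := by
        let S := ShortComplex.mk φ (cokernel.π φ) (cokernel.condition φ)
        have hS : S.ShortExact := { exact := ShortComplex.exact_cokernel _, mono_f := hinj }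
        intro z
        haveI : Subsingleton ((cokernel φ).presheaf.stalk x) := not_not.1 hxC
        exact (H06Mod.stalk_exact S hS x z).1 (Subsingleton.elim (α := (cokernel φ).presheaf.stalk x) _ _)
      have htop : (⊤ : Submodule (Z.presheaf.stalk x) (G.presheaf.stalk x)) ≤
          IsLocalRing.maximalIdeal (Z.presheaf.stalk x) • (⊤ : Submodule (Z.presheaf.stalk x) (G.presheaf.stalk x)) := by
        intro v _
        obtain ⟨w, hw⟩ := hsurj (i.hom v)
        have : Z.presheaf.germ V x hxV c • w = v := (ConcreteCategory.bijective_of_isIso i.hom).1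
          ((map_smul i.hom.hom _ _).trans ((LinearMap.congr_fun (congrArg ModuleCat.Hom.hom hi) w).symm.trans hw))
        exact this ▸ Submodule.smul_mem_smul hm trivial
      have hbot : (⊤ : Submodule (Z.presheaf.stalk x) (G.presheaf.stalk x)) = ⊥ :=
        Submodule.eq_bot_of_le_smul_of_le_jacobson_bot _ _ Module.Finite.fg_top htop
          (IsLocalRing.maximalIdeal_le_jacobson _)
      exact (Submodule.subsingleton_iff _).1 (subsingleton_of_bot_eq_top hbot.symm)
    have hCP : ShStab.IsHilbPoly k Z L (cokernel φ) (Q.comp (X + C (a : ℚ)) - Q) := by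
      intro m
      have h := chi_add (k := k) hL.1 (S := ShortComplex.mk φ (cokernel.π φ) (cokernel.condition φ))
        { exact := ShortComplex.exact_cokernel _, mono_f := hinj } hG hG' hC m
      change chi k L (CohB1.tensorMod G M) m = chi k L G m + chi k L (cokernel φ) m at h
      rw [chi_tensorPow hL.1 G a m] at h
      rw [eval_sub, eval_comp, eval_add, eval_X, eval_C, ← Nat.cast_add, ← hQ, ← hQ]
      simp only [chi] at h
      rw [h]; push_cast; ring
    have hCsub : CohB1.support (cokernel φ) ⊆ CohB1.support F :=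
      (support_cokernel_subset φ).trans ((support_tensor_subset _ _).trans hGsub)
    obtain ⟨hC0, hdle⟩ := ih _ hC (dim_lt_of_subset hCsub hdim) x hxC hx _ hCP
    have hQd : d + 1 ≤ Q.natDegree := (Nat.succ_le_succ hdle).trans (natDegree_comp_sub_le Q _ hC0)
    have hQ0 : Q ≠ 0 := fun h => by simp [h] at hQd
    have hQP : ∃ N : ℕ, ∀ m, N ≤ m → Q.eval (m : ℚ) ≤ P.eval (m : ℚ) := by
      haveI := hπ
      have hS : (ShortComplex.mk (kernel.ι π) π (kernel.condition π)).ShortExact :=
        { exact := ShortComplex.exact_kernel _ }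
      have hK : Coh.IsCoh (kernel π) := H10Coh.isCoh_kernel π hF hG.1
      obtain ⟨N, hN⟩ := chi_nonneg (k := k) hL hK
      refine ⟨N, fun m hm => ?_⟩
      have h : chi k L F m = chi k L (kernel π) m + chi k L G m := chi_add (k := k) hL.1 hS hK hF hG m
      rw [← hP m, ← hQ m]
      simp only [chi] at h hN
      have := hN m hm
      exact_mod_cast (by linarith : Curv2.euler k Z (ShStab.twist Z L G m) ≤ Curv2.euler k Z (ShStab.twist Z L F m))
    obtain ⟨hP0, hle⟩ := natDegree_mono hQ0 (eval_nonneg hL hG hQ) hQP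
    exact ⟨hP0, hQd.trans hle⟩

/-- The Hilbert polynomial of a module with support of dimension `d`. -/
theorem degree_hilbPoly (hL : CohB1.IsAmple L) {F : Z.Modules} (hF : Coh.IsCoh F) {d : ℕ}
    (hd : topologicalKrullDim (CohB1.support F) = (d : WithBot ℕ∞)) {P : ℚ[X]}
    (hP : ShStab.IsHilbPoly k Z L F P) :
    P.natDegree = d ∧ (∀ n, d < n → P.coeff n = 0) ∧ 0 < P.coeff d := by
  have hlt : topologicalKrullDim (CohB1.support F) < ((d + 1 : ℕ) : WithBot ℕ∞) :=
    hd ▸ (by exact_mod_cast Nat.lt_succ_self d)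
  have hup : ∀ n, d < n → P.coeff n = 0 := fun n hn => coeff_hilbPoly_eq_zero hL hF hP hlt hn
  obtain ⟨η, hη, hc⟩ := exists_chain (H10Coh.isClosed_support F hF.2) hd.ge
  obtain ⟨h0, hle⟩ := natDegree_ge_of_chain hL d F hF hlt η hη hc P hP
  have heq : P.natDegree = d := le_antisymm (natDegree_le_iff_coeff_eq_zero.2 hup) hle
  exact ⟨heq, hup, heq ▸ leadingCoeff_pos h0 (eval_nonneg hL hF hP)⟩

end Groth.Agent.H10Coh.Stab
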