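import Groth.Agent.H10Coh.Stab.HomFibre
import Groth.Agent.H06EGA9.FlatFibre
import Groth.Agent.H8Props.FinLocFree.Fibre
import Groth.Agent.S4652
import Groth.Prelude.Def_Pic

/-!
# Local freeness along a section of fibrewise locally free modules
-/

set_option autoImplicit false
set_option linter.style.haveILetI false
set_option linter.unusedSectionVars false
set_option backward.isDefEq.respectTransparency.types false

noncomputable section

universe u

open CategoryTheory CategoryTheory.Limits AlgebraicGeometry Opposite TopologicalSpace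

namespace Groth.Agent.H10Coh.Stab

theorem exists_residue_iso_of_rational {k : Type u} [Field k] {S : Scheme.{u}}
    (sS : S ⟶ Spec (CommRingCat.of k)) (t : Spec (CommRingCat.of k) ⟶ S)
    (ht : t ≫ sS = 𝟙 (Spec (CommRingCat.of k))) :
    ∃ (s : S) (φ : S.residueField s ⟶ CommRingCat.of k), IsIso φ ∧ t = Spec.map φ ≫ S.fromSpecResidueField s := by
  obtain ⟨⟨s, φ⟩, rfl⟩ := (Scheme.SpecToEquivOfField k S).symm.surjective t
  refine ⟨s, φ, ?_, rfl⟩
  have h : Spec.preimage (S.fromSpecResidueField s ≫ sS) ≫ φ = 𝟙 _ := by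
    refine Spec.map_injective ?_
    rw [Spec.map_comp, Spec.map_preimage, Spec.map_id]
    exact (Category.assoc _ _ _).symm.trans ht
  exact (ConcreteCategory.isIso_iff_bijective φ).2
    ⟨φ.hom.injective, fun a => ⟨_, congr($h a)⟩⟩

/-- Flatness over the fibre at a rational point gives flatness, for modules flat over the base. -/
theorem isFlatAt_of_rational_fibre {k : Type u} [Field k] {S X Xt : Scheme.{u}} [IsLocallyNoetherian X]
    {f : X ⟶ S} {g : Xt ⟶ X} {p : Xt ⟶ Spec (CommRingCat.of k)}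
    (sS : S ⟶ Spec (CommRingCat.of k)) (t : Spec (CommRingCat.of k) ⟶ S)
    (ht : t ≫ sS = 𝟙 (Spec (CommRingCat.of k))) (h : IsPullback g p f t)
    {F : X.Modules} (hF : Coh.IsCoh F) (hfl : FlatMod.IsFlatOver f F) (z : Xt)
    (hz : FlatMod.IsFlatAt ((Scheme.Modules.pullback g).obj F) z) : FlatMod.IsFlatAt F (g z) := by
  obtain ⟨s, φ, hφ, rfl⟩ := exists_residue_iso_of_rational sS t ht
  haveI := hφ
  have hP : IsPullback g (p ≫ Spec.map φ) f (S.fromSpecResidueField s) :=
    h.of_iso (Iso.refl _) (Iso.refl _) (asIso (Spec.map φ)) (Iso.refl _) (by simp) (by simp) (by simp) (by simp)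
  have hX : IsPullback g (𝟙 Xt) (𝟙 X) g := IsPullback.of_vert_isIso ⟨by simp⟩
  rw [← H8Props.FinLocFree.isFlatOverAt_id_iff] at hz ⊢
  refine H06EGA9.isFlatOverAt_of_fibFlatAt (𝟙 X) f F _ (H06Mod.finite_stalk F hF.2 _) ?_
    ((H06EGA9.isFlatOverAt_fibre_iff hP hX F z).1 hz)
  exact (H06Mod.isFlatOverAt_congr (Category.id_comp f) F _).2 (hfl _)

theorem exists_finLocFree_nhd_of_jh {S X : Scheme.{0}} {k : Type} [Field k] [IsLocallyNoetherian X]
    (sS : S ⟶ Spec (CommRingCat.of k)) {f : X ⟶ S} [LocallyOfFiniteType f] (ξ : S ⟶ X) (hξ : ξ ≫ f = 𝟙 S)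
    {F : X.Modules} (hF : Coh.IsCoh F) (hfl : FlatMod.IsFlatOver f F)
    (t : Spec (CommRingCat.of k) ⟶ S) (ht : t ≫ sS = 𝟙 (Spec (CommRingCat.of k)))
    (sF : LTSeries (Subobject ((Scheme.Modules.pullback (pullback.fst f (Over.mk t).hom)).obj F)))
    (h₀ : sF.head = ⊥) (h₁ : sF.last = ⊤)
    (hgr : ∀ x ∈ Set.range (PicF.secT f ξ hξ (Over.mk t)).base, ∃ V : (PicF.XT f (Over.mk t)).Opens,
      x ∈ V ∧ FlatMod.IsFinLocFree ((StabCat.grObj sF).restrict V.ι))
    (x : X) (hx : x ∈ Set.range (t ≫ ξ).base) : ∃ U : X.Opens, x ∈ U ∧ FlatMod.IsFinLocFree (F.restrict U.ι) := by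
  obtain ⟨w, rfl⟩ := hx
  let g := pullback.fst f (Over.mk t).hom
  let z := (PicF.secT f ξ hξ (Over.mk t)).base w
  haveI : IsLocallyNoetherian (PicF.XT f (Over.mk t)) := by
    haveI : LocallyOfFiniteType (pullback.snd f (Over.mk t).hom) :=
      MorphismProperty.pullback_snd (P := @LocallyOfFiniteType) _ _ ‹_›
    haveI : IsLocallyNoetherian (Over.mk t).left := inferInstanceAs (IsLocallyNoetherian (Spec (CommRingCat.of k)))
    exact LocallyOfFiniteType.isLocallyNoetherian (pullback.snd f (Over.mk t).hom)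
  obtain ⟨V, hzV, hV⟩ := hgr z ⟨w, rfl⟩
  have hFt := isFinLocFree_of_grObj sF h₀ h₁ V hV
  have hflat : FlatMod.IsFlatAt ((Scheme.Modules.pullback g).obj F) z :=
    H16Derived.KFlat.Stalk.isFlatAt_of_restrict V.ι ⟨z, hzV⟩
      (H8Props.FinLocFree.isFlatAt_of_isFinLocFree _ hFt _)
  have hgz : g z = (t ≫ ξ).base w := by
    show (PicF.secT f ξ hξ (Over.mk t) ≫ g).base w = _
    rw [show PicF.secT f ξ hξ (Over.mk t) ≫ g = (Over.mk t).hom ≫ ξ from pullback.lift_fst _ _ _]
    rfl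
  obtain ⟨U, hU, hUF⟩ := (S4652.result F (H10Coh.isFP_of_isCoh F hF) _).1
    (hgz ▸ isFlatAt_of_rational_fibre sS t ht (IsPullback.of_hasPullback f (Over.mk t).hom) hF hfl z hflat)
  exact ⟨U, hU, H16Derived.KFlat.Stalk.isFinLocFree_of_iso
    ((Scheme.Modules.restrictFunctorIsoPullback U.ι).app F).symm hUF⟩

end Groth.Agent.H10Coh.Stab
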