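import Groth.Agent.H10Coh.Stab.Sub

/-!
# The maximal destabilising submodule
-/

set_option autoImplicit false
set_option linter.style.haveILetI false
set_option linter.unusedSectionVars false

universe u

open CategoryTheory CategoryTheory.Limits AlgebraicGeometry Opposite TopologicalSpace Polynomial

namespace Groth.Agent.H10Coh.Stab

open StabCat

variable {k : Type u} [Field k] {Z : Scheme.{u}} [Z.Over (Spec (CommRingCat.of k))]
  [IsProper (Z ↘ Spec (CommRingCat.of k))] {L E : Z.Modules} {d : ℕ}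

theorem exists_maxDestab (hL : CohB1.IsAmple L) (hE : Coh.IsCoh E) (h0 : ¬ IsZero E) (hp : ShStab.IsPure Z E d) :
    ∃ (F : Z.Modules) (ι : F ⟶ E), ShStab.IsMaxDestab k Z L E d F ι := by
  classical
  haveI := isNoetherian_of_ample (Z := Z) k hL
  -- maximal submodules
  let Max : ∀ M : Z.Modules, (M ⟶ E) → ℚ[X] → Prop := fun M m pM =>
    Mono m ∧ Coh.IsCoh M ∧ ¬ IsZero M ∧ ShStab.IsHilbPoly k Z L M pM ∧
      ∀ (N : Z.Modules) (n : N ⟶ E) (ψ : M ⟶ N) (pN : ℚ[X]), Mono n → Coh.IsCoh N → ψ ≫ n = m →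
        ShStab.IsHilbPoly k Z L N pN → ¬ Epi ψ → RedLT d pN pM
  have hex : ∃ n : ℕ, ∃ M m pM, Max M m pM ∧ alpha d pM = n := by
    obtain ⟨pE, hpE⟩ := exists_hilb_self (k := k) hL hp hE
    obtain ⟨M, m, φ, pM, hm, hM, hM0, -, hpM, -, hmax⟩ := exists_maximal_above hL hp hE (𝟙 E) hE h0 hpE
    haveI := hm
    obtain ⟨z, hz⟩ := exists_int_alpha_hilb hL (isPure_of_mono hp m) hM hpM
    have hpos := alpha_pos_of_pure hL (isPure_of_mono hp m) hM hM0 hpM
    rw [hz, Int.cast_pos] at hpos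
    obtain ⟨n, rfl⟩ := Int.eq_ofNat_of_zero_le hpos.le
    exact ⟨n, M, m, pM, ⟨hm, hM, hM0, hpM, hmax⟩, by rw [hz]; norm_cast⟩
  obtain ⟨M, m, pM, ⟨hm, hM, hM0, hpM, hmax⟩, hαM⟩ := Nat.find_spec hex
  haveI := hm
  have hMp := isPure_of_mono hp m
  have hαpos := alpha_pos_of_pure hL hMp hM hM0 hpM
  -- no submodule of `M` has larger reduced polynomial
  have keyA : ∀ (G : Z.Modules) (g : G ⟶ E) (φ : G ⟶ M) (pG : ℚ[X]), Mono g → Coh.IsCoh G → ¬ IsZero G →
      φ ≫ m = g → ShStab.IsHilbPoly k Z L G pG → RedLE d pG pM := by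
    by_contra hbad
    push Not at hbad
    obtain ⟨G, g, ⟨hg, hG, hG0, φ, hφ, pG, hpG, hlt⟩, hGmax⟩ := LeadDev.exists_maximal_sub E hE
      (fun G g => Mono g ∧ Coh.IsCoh G ∧ ¬ IsZero G ∧ ∃ φ : G ⟶ M, φ ≫ m = g ∧ ∃ pG,
        ShStab.IsHilbPoly k Z L G pG ∧ RedLT d pM pG) (fun G g h => ⟨h.1, h.2.1⟩)
      (by
        obtain ⟨G, g, φ, pG, hg, hG, hG0, hφ, hpG, hn⟩ := hbad
        exact ⟨G, g, hg, hG, hG0, φ, hφ, pG, hpG, redLT_of_not_redLE hn⟩)
    haveI := hg
    obtain ⟨G', g', ξ, pG', hg', hG', hG'0, hξ, hpG', hle, hG'max⟩ := exists_maximal_above hL hp hE g hG hG0 hpG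
    haveI := hg'
    have hαG := alpha_pos_of_pure hL (isPure_of_mono hp g) hG hG0 hpG
    have hαG' := alpha_pos_of_pure hL (isPure_of_mono hp g') hG' hG'0 hpG'
    have hlt' : RedLT d pM pG' := redLT_of_lt_of_le hαpos.le hαG hαG' hlt hle
    obtain ⟨S, K, s, a, b, c, κ, pK, hs, hS, has, hbs, hc, hκ, hK, hcκ, huniv, hpK, hpS⟩ :=
      exists_sum hL hp hE m g' hM hG' hpM hpG'
    haveI := hs
    by_cases hae : Epi a
    · haveI : Mono (a ≫ s) := by rw [has]; infer_instance
      haveI := mono_of_mono a s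
      haveI := isIso_of_mono_of_epi a
      -- `G'` lies in `M`
      let φ' : G' ⟶ M := b ≫ inv a
      have hφ' : φ' ≫ m = g' := by rw [← has, Category.assoc, IsIso.inv_hom_id_assoc, hbs]
      haveI : Mono (φ' ≫ m) := by rw [hφ']; infer_instance
      haveI := mono_of_mono φ' m
      have hle' := alpha_le_of_mono hL hMp hM hG' φ' hpG' hpM
      obtain ⟨z, hz⟩ := exists_int_alpha_hilb hL (isPure_of_mono hp g') hG' hpG'
      obtain ⟨n, rfl⟩ := Int.eq_ofNat_of_zero_le (show 0 ≤ z by rw [hz, Int.cast_pos] at hαG'; exact hαG'.le)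
      have hge := Nat.find_min' hex ⟨G', g', pG', ⟨hg', hG', hG'0, hpG', hG'max⟩, show alpha d pG' = n by rw [hz]; norm_cast⟩
      have heq : alpha d pG' = alpha d pM := le_antisymm hle' (by
        rw [hαM, hz]; exact_mod_cast hge)
      by_cases hi : IsIso φ'
      · rw [redLT_iff, H25Euler.hilbPoly_unique hpG' (H25Euler.hilbPoly_congr (asIso φ').symm hpM), cross_self] at hlt'
        exact not_pos_zero hlt'
      · exact not_redLT_of_redLE (redLE_iff.2 (redLT_iff.1 hlt').nonneg)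
          (redLT_of_alpha_eq hL hM hG' φ' hi hpG' hpM hαG' heq)
    · -- the intersection improves `G`
      have hS' : RedLT d (pM + pG' - pK) pM := hmax S s a _ hs hS has hpS hae
      have h₁ : Pos (cross d (pM + pG' - pK) pM) := redLT_iff.1 hS'
      have h₂ : Pos (cross d pM pG') := redLT_iff.1 hlt'
      rw [cross_sub, cross_add, cross_self, zero_add] at h₁
      have h₃ : Pos (cross d pM pK) := by
        have e : cross d pM pK = cross d pG' pM - cross d pK pM + cross d pM pG' := by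
          rw [cross_swap d pM pG', cross_swap d pM pK]
          abel
        exact e ▸ h₁.add h₂.nonneg
      have hK0 : ¬ IsZero K := fun h => by
        rw [H25Euler.hilbPoly_unique hpK (H25Euler.hilbPoly_zero h), cross_zero_right] at h₃
        exact not_pos_zero h₃
      haveI := hc
      haveI := hκ
      haveI : Mono (c ≫ m) := mono_comp c m
      have hαK := alpha_pos_of_pure hL (isPure_of_mono hp (c ≫ m)) hK hK0 hpK
      have hαle := alpha_le_of_mono hL (isPure_of_mono hp g') hG' hK κ hpK hpG'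
      have h₄ : RedLT d pG' pK := by
        rw [redLT_iff]
        refine Pos.of_smul ?_ hαpos
        have e : alpha d pM • cross d pG' pK =
            (alpha d pG' - alpha d pK) • cross d pM pG' + alpha d pG' • (cross d pG' pM - cross d pK pM) := by
          rw [cross_trans d pG' pM pK, cross_swap d pM pG', cross_swap d pM pK, sub_smul, smul_sub, smul_neg,
            smul_neg, smul_neg]
          abel
        rw [e]
        exact Pos.add_right (h₂.nonneg.smul (sub_nonneg.2 hαle)) (h₁.smul hαG')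
      have h₅ : RedLT d pG pK := redLT_of_le_of_lt hαG hαG' hαK.le hle h₄
      have h₆ : RedLT d pM pK := redLT_iff.2 h₃
      obtain ⟨z, -, hz⟩ := huniv G φ ξ (hφ.trans hξ.symm)
      have hzg : z ≫ (c ≫ m) = g := by rw [← Category.assoc, hz, hφ]
      have hepi : Epi z := hGmax K (c ≫ m) z ⟨inferInstance, hK, hK0, c, rfl, pK, hpK, h₆⟩ hzg
      haveI : Mono (z ≫ (c ≫ m)) := by rw [hzg]; infer_instance
      haveI := mono_of_mono z (c ≫ m)
      haveI := isIso_of_mono_of_epi z
      rw [redLT_iff, H25Euler.hilbPoly_unique hpG (H25Euler.hilbPoly_congr (asIso z).symm hpK), cross_self] at h₅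
      exact not_pos_zero h₅
  refine ⟨M, m, hm, hM, hM0, fun G g hg hG hG0 pM' pG hpM' hpG => ?_⟩
  obtain rfl := H25Euler.hilbPoly_unique hpM hpM'
  haveI := hg
  obtain ⟨S, K, s, a, b, c, κ, pK, hs, hS, has, hbs, hc, hκ, hK, hcκ, -, hpK, hpS⟩ :=
    exists_sum hL hp hE m g hM hG hpM hpG
  haveI := hs
  by_cases hae : Epi a
  · haveI : Mono (a ≫ s) := by rw [has]; infer_instance
    haveI := mono_of_mono a s
    haveI := isIso_of_mono_of_epi a
    have hφ : (b ≫ inv a) ≫ m = g := by rw [← has, Category.assoc, IsIso.inv_hom_id_assoc, hbs]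
    exact ⟨keyA G g _ pG hg hG hG0 hφ hpG, fun _ => ⟨_, hφ⟩⟩
  · haveI := hc
    have hK' : Nonneg (cross d pK pM) := by
      by_cases hK0 : IsZero K
      · rw [H25Euler.hilbPoly_unique hpK (H25Euler.hilbPoly_zero hK0), cross_zero_left]
        exact ⟨0, fun m _ => by simp⟩
      · exact redLE_iff.1 (keyA K (c ≫ m) c pK (mono_comp c m) hK hK0 rfl hpK)
    have h₁ : Pos (cross d (pM + pG - pK) pM) := redLT_iff.1 (hmax S s a _ hs hS has hpS hae)
    rw [cross_sub, cross_add, cross_self, zero_add] at h₁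
    have h₂ : Pos (cross d pG pM) := by simpa using h₁.add hK'
    refine ⟨redLE_iff.2 h₂.nonneg, fun heq => absurd (redEq_iff.1 heq) fun h => ?_⟩
    rw [h] at h₂
    exact not_pos_zero h₂

end Groth.Agent.H10Coh.Stab
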