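import Groth.Agent.H10Coh.Stab.JH
import Groth.Agent.H10Coh.Stab.MaxDestab

/-!
# Harder–Narasimhan filtrations
-/

set_option autoImplicit false
set_option linter.style.haveILetI false
set_option linter.unusedSectionVars false

universe u

open CategoryTheory CategoryTheory.Limits AlgebraicGeometry Opposite TopologicalSpace Polynomial
open scoped ZeroObject

namespace Groth.Agent.H10Coh.Stab

open StabCat

/-- A submodule containing `F` gives a submodule of the quotient by `F`. -/
theorem exists_mono_cokernel {C : Type*} [Category C] [Abelian C] {F V E : C} (f : F ⟶ E) (v : V ⟶ E) [Mono v]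
    (c : F ⟶ V) (hc : c ≫ v = f) :
    ∃ w : cokernel c ⟶ cokernel f, Mono w ∧ cokernel.π c ≫ w = v ≫ cokernel.π f := by
  have hpb : IsPullback c (𝟙 F) v f := by
    refine IsPullback.of_isLimit (PullbackCone.IsLimit.mk (by rw [Category.id_comp, hc])
      (fun s => s.snd) (fun s => ?_) (fun s => Category.comp_id _) (fun s m _ h => ?_))
    · rw [← cancel_mono v, Category.assoc, hc, s.condition]
    · rwa [Category.comp_id] at h
  exact ⟨cokernel.map c f (𝟙 F) v hpb.w, Abelian.mono_cokernel_map_of_isPullback hpb, cokernel.π_desc _ _ _⟩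

theorem arrow_eq_zero {C : Type*} [Category C] [Abelian C] {E : C} {P : Subobject E} (h : P = ⊥) : P.arrow = 0 := by
  subst h
  exact Subobject.bot_arrow

/-- If the map from a semistable quotient `A/N` to `C/B` vanishes then `A ≤ B`. -/
theorem le_of_hom_zero {C : Type*} [Category C] [Abelian C] {E : C} {N A B D : Subobject E} (hNA : N ≤ A)
    (hNB : N ≤ B) (hBD : B ≤ D) (hAD : A ≤ D)
    (h : ∀ φ : cokernel (Subobject.ofLE N A hNA) ⟶ cokernel (Subobject.ofLE B D hBD), φ = 0) : A ≤ B := by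
  have hzero : Subobject.ofLE N A hNA ≫ Subobject.ofLE A D hAD ≫ cokernel.π (Subobject.ofLE B D hBD) = 0 := by
    rw [← Category.assoc, Subobject.ofLE_comp_ofLE, ← Subobject.ofLE_comp_ofLE N B D hNB hBD, Category.assoc,
      cokernel.condition, Limits.comp_zero]
  have hA : Subobject.ofLE A D hAD ≫ cokernel.π (Subobject.ofLE B D hBD) = 0 := by
    rw [← cokernel.π_desc _ _ hzero, h (cokernel.desc _ _ hzero), Limits.comp_zero]
  have hker : IsLimit (KernelFork.ofι (Subobject.ofLE B D hBD) (cokernel.condition _)) :=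
    Abelian.monoIsKernelOfCokernel (CokernelCofork.ofπ (cokernel.π _) (cokernel.condition _)) (cokernelIsCokernel _)
  obtain ⟨l, hl⟩ := KernelFork.IsLimit.lift' hker (Subobject.ofLE A D hAD) hA
  replace hl : l ≫ Subobject.ofLE B D hBD = Subobject.ofLE A D hAD := hl
  exact Subobject.le_of_comm l (by rw [← Subobject.ofLE_arrow hBD, ← Category.assoc, hl, Subobject.ofLE_arrow])

variable {k : Type u} [Field k] {Z : Scheme.{u}} [Z.Over (Spec (CommRingCat.of k))]
  [IsProper (Z ↘ Spec (CommRingCat.of k))] {L E : Z.Modules} {d : ℕ}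

theorem isSemistable_congr {G G' : Z.Modules} (e : G ≅ G') (h : ShStab.IsSemistable k Z L G d) :
    ShStab.IsSemistable k Z L G' d := by
  obtain ⟨hc, h0, hp, hss⟩ := h
  refine ⟨H10Coh.isCoh_of_iso e hc, fun h => h0 (h.of_iso e), fun F ι hι hF hF0 => ?_,
    fun F ι hι hF hF0 hi pF pG hpF hpG => ?_⟩
  · haveI := hι
    exact hp F (ι ≫ e.inv) (mono_comp _ _) hF hF0
  · haveI := hι
    exact hss F (ι ≫ e.inv) (mono_comp _ _) hF hF0
      (fun hi' => hi (by
        haveI := hi'
        exact IsIso.of_isIso_comp_right ι e.inv)) pF pG hpF (H25Euler.hilbPoly_congr e.symm hpG)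

theorem exists_hn (hL : CohB1.IsAmple L) (hE : Coh.IsCoh E) (h0 : ¬ IsZero E) (hp : ShStab.IsPure Z E d) :
    ∃ s : LTSeries (Subobject E), ShStab.IsHNFiltration k Z L E d s := by
  haveI := isNoetherian_of_ample (Z := Z) k hL
  let Q : ∀ N : Z.Modules, (N ⟶ E) → Prop := fun N f =>
    Mono f ∧ Coh.IsCoh N ∧ ShStab.IsPure Z (cokernel f) d ∧
      ∀ _ : Mono f, ∃ s : LTSeries (Subobject E), s.head = ⊥ ∧ s.last = Subobject.mk f ∧
        (∀ i : Fin s.length, ShStab.IsSemistable k Z L (factor s i) d) ∧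
        (∀ (i j : Fin s.length), i.val + 1 = j.val → ∀ p q : ℚ[X],
          ShStab.IsHilbPoly k Z L (factor s i) p → ShStab.IsHilbPoly k Z L (factor s j) q → RedLT d q p) ∧
        ∀ (i : Fin s.length), i.val + 1 = s.length → ∀ (U : Z.Modules) (u : U ⟶ cokernel f) (pU p : ℚ[X]),
          Mono u → Coh.IsCoh U → ¬ IsZero U → ShStab.IsHilbPoly k Z L U pU →
          ShStab.IsHilbPoly k Z L (factor s i) p → RedLT d pU p
  have hZ : IsZero (0 : Z.Modules) := isZero_zero _
  haveI h00 : Mono (0 : (0 : Z.Modules) ⟶ E) := ⟨fun g h _ => hZ.eq_of_tgt g h⟩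
  obtain ⟨N, f, ⟨hf, hN, hpure, hs⟩, hmax⟩ := LeadDev.exists_maximal_sub E hE Q
    (fun N f h => ⟨h.1, h.2.1⟩)
    ⟨0, 0, h00, LeadDev.isCoh_of_isZero hZ, fun F ι hι hF hF0 => by
      haveI := hι
      exact hp F (ι ≫ inv (cokernel.π (0 : (0 : Z.Modules) ⟶ E))) (mono_comp _ _) hF hF0,
      fun _ => ⟨RelSeries.singleton _ ⊥, rfl, (Subobject.mk_eq_bot_iff_zero.2 rfl).symm, fun i => i.elim0,
        fun i => i.elim0, fun i => i.elim0⟩⟩
  haveI := hf
  obtain ⟨s, hhead, hlast, hss, hdec, htop⟩ := hs hf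
  by_cases hz : IsZero (cokernel f)
  · haveI : Epi f := Preadditive.epi_of_isZero_cokernel f hz
    haveI := isIso_of_mono_of_epi f
    exact ⟨s, hhead, hlast.trans (Subobject.mk_eq_top_of_isIso f), hss, hdec⟩
  exfalso
  have hC : Coh.IsCoh (cokernel f) := H10Coh.isCoh_cokernel f hN.1 hE
  obtain ⟨T, t, ht, hT, hT0, hmd⟩ := exists_maxDestab (k := k) hL hC hz hpure
  haveI := ht
  obtain ⟨pT, hpT⟩ := exists_hilb_of_mono (k := k) hL hpure hC t hT
  obtain ⟨pN, hpN⟩ := exists_hilb_of_mono (k := k) hL hp hE f hN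
  obtain ⟨N', n, a, hn, hN', ha, ⟨iT⟩, hpN'⟩ := exists_preimage hL hp hE f hN t hT hpN hpT
  haveI := hn
  have hαT := alpha_pos_of_pure hL (isPure_of_mono hpure t) hT hT0 hpT
  have hTss : ShStab.IsSemistable k Z L T d := by
    refine ⟨hT, hT0, isPure_of_mono hpure t, fun F κ hκ hF hF0 _ pF pT' hpF hpT' => ?_⟩
    haveI := hκ
    exact (hmd F (κ ≫ t) (mono_comp _ _) hF hF0 pT' pF hpT' hpF).1
  -- submodules of the new quotient
  have key : ∀ (U : Z.Modules) (u : U ⟶ cokernel n) (pU : ℚ[X]), Mono u → Coh.IsCoh U →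
      ShStab.IsHilbPoly k Z L U pU → 0 ≤ alpha d pU →
      Nonneg (cross d pU pT) ∧ (0 < alpha d pU → Pos (cross d pU pT)) := by
    intro U u pU hu hU hpU hα
    haveI := hu
    obtain ⟨V, v, b, hv, hV, hb, -, hpV⟩ := exists_preimage hL hp hE n hN' u hU hpN' hpU
    haveI := hv
    have hab : (a ≫ b) ≫ v = f := by rw [Category.assoc, hb, ha]
    haveI : Mono ((a ≫ b) ≫ v) := by rw [hab]; infer_instance
    haveI := mono_of_mono (a ≫ b) v
    obtain ⟨w, hw, -⟩ := exists_mono_cokernel f v (a ≫ b) hab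
    haveI := hw
    have hW : Coh.IsCoh (cokernel (a ≫ b)) := H10Coh.isCoh_cokernel (a ≫ b) hN.1 hV
    have hpW : ShStab.IsHilbPoly k Z L (cokernel (a ≫ b)) (pT + pU) := by
      have h := (H25Euler.polyLE_of_mono hL hN hV (a ≫ b) hpN hpV).2
      rwa [show pN + pT + pU - pN = pT + pU by abel] at h
    have hW0 : ¬ IsZero (cokernel (a ≫ b)) :=
      not_isZero_of_alpha_pos (d := d) hpW (by rw [alpha_add]; linarith)
    obtain ⟨hle, hfac⟩ := hmd _ w hw hW hW0 pT _ hpT hpW
    rw [redLE_iff, cross_add, cross_self, zero_add] at hle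
    refine ⟨hle, fun hpos => hle.eq_zero_or_pos.resolve_left fun h => ?_⟩
    obtain ⟨z, hz⟩ := hfac (redEq_iff.2 (by rw [cross_add, cross_self, zero_add, h]))
    haveI : Mono (z ≫ t) := by rw [hz]; infer_instance
    haveI := mono_of_mono z t
    have := alpha_le_of_mono hL (isPure_of_mono hpure t) hT hW z hpW hpT
    rw [alpha_add] at this
    linarith
  have hC' : Coh.IsCoh (cokernel n) := H10Coh.isCoh_cokernel n hN'.1 hE
  have hpure' : ShStab.IsPure Z (cokernel n) d := by
    intro U u hu hU hU0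
    haveI := hu
    have hle : topologicalKrullDim (CohB1.support U) ≤ (d : WithBot ℕ∞) :=
      dim_self_of_pure hp hE h0 ▸ Topology.IsInducing.topologicalKrullDim_le
        (f := Set.inclusion ((H25Euler.support_subset_of_mono u).trans (H25Euler.support_cokernel_subset n)))
        (Topology.IsEmbedding.inclusion _).isInducing
    by_contra hne
    have hlt : topologicalKrullDim (CohB1.support U) < (d : WithBot ℕ∞) := lt_of_le_of_ne hle hne
    obtain ⟨pU, hpU⟩ := H25Euler.exists_hilbPoly (k := k) hL hU hlt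
    have hαU : alpha d pU = 0 := by rw [alpha, H25Euler.coeff_hilbPoly_eq_zero hL hU hpU hlt le_rfl, mul_zero]
    have h := (key U u pU hu hU hpU hαU.ge).1
    rw [cross, hαU, zero_smul, zero_sub] at h
    exact not_pos_of_nonneg_neg h ((hilbPoly_pos hL hU hU0 hpU).smul hαT)
  have hna : ¬ Epi a := fun h => hT0 ((isZero_cokernel_of_epi a).of_iso iT.symm)
  have hlt : Subobject.mk f < Subobject.mk n := lt_of_le_not_ge (Subobject.mk_le_mk_of_comm a ha) fun hge => hna (by
    have hb : Subobject.ofMkLEMk n f hge ≫ f = n := Subobject.ofMkLEMk_comp hge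
    haveI : IsSplitEpi a := IsSplitEpi.mk' ⟨Subobject.ofMkLEMk n f hge, by
      rw [← cancel_mono n, Category.assoc, ha, hb, Category.id_comp]⟩
    infer_instance)
  refine hna (hmax N' n a ⟨hn, hN', hpure', fun _ => ?_⟩ ha)
  have hlt' : s.last < Subobject.mk n := hlast ▸ hlt
  obtain ⟨e₀⟩ := cokernel_mk_iso f n a ha hlt.le
  let e' : factor (s.snoc (Subobject.mk n) hlt') (Fin.last s.length) ≅ T :=
    cokernelOfLEIso ((RelSeries.snoc_castSucc _ _ _ _).trans hlast) (RelSeries.last_snoc _ _ _) _ hlt.le ≪≫ e₀ ≪≫ iT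
  let e : ∀ j : Fin s.length, factor (s.snoc (Subobject.mk n) hlt') j.castSucc ≅ factor s j := fun j =>
    cokernelOfLEIso (RelSeries.snoc_castSucc _ _ _ _)
      ((congrArg _ (Fin.succ_castSucc j)).trans (RelSeries.snoc_castSucc _ _ _ _)) _ _
  refine ⟨s.snoc (Subobject.mk n) hlt', by rw [RelSeries.head_snoc, hhead], RelSeries.last_snoc _ _ _,
    fun j => ?_, fun i j hij p q hpi hpj => ?_, fun i hi U u pU p hu hU hU0 hpU hpi => ?_⟩
  · induction j using Fin.lastCases with
    | last => exact isSemistable_congr e'.symm hTss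
    | cast j => exact isSemistable_congr (e j).symm (hss j)
  · induction i using Fin.lastCases with
    | last =>
      have := j.isLt
      change s.length + 1 = j.val at hij
      change j.val < s.length + 1 at this
      omega
    | cast i =>
      induction j using Fin.lastCases with
      | last =>
        rw [H25Euler.hilbPoly_unique hpj (H25Euler.hilbPoly_congr e'.symm hpT)]
        exact htop i hij T t pT p ht hT hT0 hpT (H25Euler.hilbPoly_congr (e i) hpi)
      | cast j => exact hdec i j hij p q (H25Euler.hilbPoly_congr (e i) hpi) (H25Euler.hilbPoly_congr (e j) hpj)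
  · induction i using Fin.lastCases with
    | last =>
      rw [H25Euler.hilbPoly_unique hpi (H25Euler.hilbPoly_congr e'.symm hpT), redLT_iff]
      haveI := hu
      have hα := alpha_pos_of_pure hL (isPure_of_mono hpure' u) hU hU0 hpU
      exact (key U u pU hu hU hpU hα.le).2 hα
    | cast i =>
      have := i.isLt
      change i.val < s.length at this
      change i.val + 1 = s.length + 1 at hi
      omega

/-- The reduced polynomials of the factors of a Harder–Narasimhan filtration decrease. -/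
theorem hn_decreasing (hL : CohB1.IsAmple L) {s : LTSeries (Subobject E)}
    (hs : ShStab.IsHNFiltration k Z L E d s) :
    ∀ (m : ℕ) (i j : Fin s.length), i.val + m + 1 = j.val → ∀ p q : ℚ[X],
      ShStab.IsHilbPoly k Z L (factor s i) p → ShStab.IsHilbPoly k Z L (factor s j) q → RedLT d q p := by
  intro m
  induction m with
  | zero => exact fun i j h => hs.2.2.2 i j (by omega)
  | succ m ih =>
    intro i j h p q hp hq
    have hj := j.isLt
    let j' : Fin s.length := ⟨i.val + m + 1, by omega⟩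
    have hα : ∀ (l : Fin s.length) (r : ℚ[X]), ShStab.IsHilbPoly k Z L (factor s l) r → 0 < alpha d r :=
      fun l r hr => alpha_pos_of_pure hL (hs.2.2.1 l).2.2.1 (hs.2.2.1 l).1 (hs.2.2.1 l).2.1 hr
    obtain ⟨r, hr⟩ := exists_hilb_self (k := k) hL (hs.2.2.1 j').2.2.1 (hs.2.2.1 j').1
    exact redLT_of_le_of_lt (hα j q hq) (hα j' r hr) (hα i p hp).le
      (redLE_iff.2 (redLT_iff.1 (hs.2.2.2 j' j (by simp [j']; omega) r q hr hq)).nonneg) (ih i j' rfl p r hp hr)

theorem hn_redLT_of_lt (hL : CohB1.IsAmple L) {s : LTSeries (Subobject E)}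
    (hs : ShStab.IsHNFiltration k Z L E d s) {i j : Fin s.length} (hij : i.val < j.val) {p q : ℚ[X]}
    (hp : ShStab.IsHilbPoly k Z L (factor s i) p) (hq : ShStab.IsHilbPoly k Z L (factor s j) q) : RedLT d q p :=
  hn_decreasing hL hs (j.val - i.val - 1) i j (by omega) p q hp hq

/-- A step of the uniqueness proof. -/
theorem hn_step (hL : CohB1.IsAmple L) {s t : LTSeries (Subobject E)}
    (hs : ShStab.IsHNFiltration k Z L E d s) (ht : ShStab.IsHNFiltration k Z L E d t)
    (i : Fin s.length) (j : Fin t.length) (heq : s i.castSucc = t j.castSucc) {p q : ℚ[X]}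
    (hp : ShStab.IsHilbPoly k Z L (factor s i) p) (hq : ShStab.IsHilbPoly k Z L (factor t j) q)
    (hle : RedLE d q p) : s i.succ ≤ t j.succ ∧ RedLE d p q := by
  have hS := hs.2.2.1 i
  have hαq := alpha_pos_of_pure hL (ht.2.2.1 j).2.2.1 (ht.2.2.1 j).1 (ht.2.2.1 j).2.1 hq
  have hαp := alpha_pos_of_pure hL hS.2.2.1 hS.1 hS.2.1 hp
  have hdown : ∀ l : Fin (t.length + 1), j.val < l.val → s i.succ ≤ t l := by
    intro l
    induction l using Fin.reverseInduction with
    | last => exact fun _ => (le_top : s i.succ ≤ ⊤).trans (ht.2.1 ▸ le_rfl : (⊤ : Subobject E) ≤ t.last)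
    | cast l ih =>
      intro hl
      change j.val < l.val at hl
      have hD := ih (by simp; omega)
      refine le_of_hom_zero (le_of_lt (s.step i)) (heq.trans_le (show t j.castSucc ≤ t l.castSucc from t.monotone (show j.val ≤ l.val from hl.le))) (le_of_lt (t.step l))
        hD fun φ => ?_
      obtain ⟨r, hr⟩ := exists_hilb_self (k := k) hL (ht.2.2.1 l).2.2.1 (ht.2.2.1 l).1
      exact eq_zero_of_redLT hL hS (ht.2.2.1 l) hp hr (redLT_of_lt_of_le
        (alpha_pos_of_pure hL (ht.2.2.1 l).2.2.1 (ht.2.2.1 l).1 (ht.2.2.1 l).2.1 hr).le hαq hαp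
        (hn_redLT_of_lt hL ht hl hq hr) hle) φ
  have hA := hdown j.succ (by simp)
  refine ⟨hA, ?_⟩
  -- the induced map of quotients
  have hNB : s i.castSucc ≤ t j.succ := (le_of_lt (s.step i)).trans hA
  obtain ⟨w, hw, -⟩ := exists_mono_cokernel (Subobject.ofLE _ _ hNB) (Subobject.ofLE _ _ hA)
    (Subobject.ofLE _ _ (le_of_lt (s.step i))) (Subobject.ofLE_comp_ofLE _ _ _ _ _)
  haveI := hw
  let w' : factor s i ⟶ factor t j := w ≫ (cokernelOfLEIso heq rfl hNB (le_of_lt (t.step j))).hom
  haveI : Mono w' := @mono_comp _ _ _ _ _ w hw _ (inferInstance)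
  by_cases hi : IsIso w'
  · rw [H25Euler.hilbPoly_unique hp (H25Euler.hilbPoly_congr (asIso w').symm hq)]
    exact redLE_of_redEq (redEq_refl _ _)
  · exact (ht.2.2.1 j).2.2.2 _ w' inferInstance hS.1 hS.2.1 hi p q hp hq

theorem hn_unique (hL : CohB1.IsAmple L) {s t : LTSeries (Subobject E)}
    (hs : ShStab.IsHNFiltration k Z L E d s) (ht : ShStab.IsHNFiltration k Z L E d t) : s = t := by
  have key : ∀ (n : ℕ) (h₁ : n ≤ s.length) (h₂ : n ≤ t.length),
      s ⟨n, Nat.lt_succ_of_le h₁⟩ = t ⟨n, Nat.lt_succ_of_le h₂⟩ := by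
    intro n
    induction n with
    | zero => exact fun _ _ => hs.1.trans ht.1.symm
    | succ n ih =>
      intro h₁ h₂
      let i : Fin s.length := ⟨n, h₁⟩
      let j : Fin t.length := ⟨n, h₂⟩
      have heq : s i.castSucc = t j.castSucc := ih (Nat.le_of_succ_le h₁) (Nat.le_of_succ_le h₂)
      obtain ⟨p, hp⟩ := exists_hilb_self (k := k) hL (hs.2.2.1 i).2.2.1 (hs.2.2.1 i).1
      obtain ⟨q, hq⟩ := exists_hilb_self (k := k) hL (ht.2.2.1 j).2.2.1 (ht.2.2.1 j).1
      by_cases hle : RedLE d q p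
      · obtain ⟨h, hle'⟩ := hn_step hL hs ht i j heq hp hq hle
        exact le_antisymm h (hn_step hL ht hs j i heq.symm hq hp hle').1
      · have hle' : RedLE d p q := redLE_iff.2 (redLT_iff.1 (redLT_of_not_redLE hle)).nonneg
        obtain ⟨h, hle''⟩ := hn_step hL ht hs j i heq.symm hq hp hle'
        exact absurd hle'' hle
  have hlen : s.length = t.length := by
    rcases lt_trichotomy s.length t.length with h | h | h
    · have e := key s.length le_rfl h.le
      have : (⊤ : Subobject E) = t ⟨s.length, by omega⟩ := hs.2.1.symm.trans e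
      exact absurd (this.trans_lt (t.strictMono (show (⟨s.length, by omega⟩ : Fin (t.length + 1)) < Fin.last _ from h))) not_top_lt
    · exact h
    · have e := key t.length h.le le_rfl
      have : (⊤ : Subobject E) = s ⟨t.length, by omega⟩ := ht.2.1.symm.trans e.symm
      exact absurd (this.trans_lt (s.strictMono (show (⟨t.length, by omega⟩ : Fin (s.length + 1)) < Fin.last _ from h))) not_top_lt
  exact RelSeries.ext hlen (funext fun i => key i.val (Nat.le_of_lt_succ i.isLt)
    (hlen ▸ Nat.le_of_lt_succ i.isLt))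

/-- Morphisms from a semistable sheaf to a sheaf with smaller Harder–Narasimhan slopes vanish. -/
theorem hom_eq_zero_of_hn (hL : CohB1.IsAmple L) {T : Z.Modules} (hT : ShStab.IsSemistable k Z L T d) {pT : ℚ[X]}
    (hpT : ShStab.IsHilbPoly k Z L T pT) {t : LTSeries (Subobject E)} (ht : ShStab.IsHNFiltration k Z L E d t)
    (h : ∀ (l : Fin t.length) (r : ℚ[X]), ShStab.IsHilbPoly k Z L (factor t l) r → RedLT d r pT) (φ : T ⟶ E) :
    φ = 0 := by
  have hfac : ∀ l : Fin (t.length + 1), ∃ x, x ≫ (t l).arrow = φ := by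
    intro l
    induction l using Fin.reverseInduction with
    | last =>
      haveI : IsIso (t (Fin.last t.length)).arrow := by
        rw [show t (Fin.last t.length) = ⊤ from ht.2.1]; infer_instance
      exact ⟨φ ≫ inv (t (Fin.last t.length)).arrow, by simp⟩
    | cast l ih =>
      obtain ⟨x, hx⟩ := ih
      obtain ⟨r, hr⟩ := exists_hilb_self (k := k) hL (ht.2.2.1 l).2.2.1 (ht.2.2.1 l).1
      have hle : t l.castSucc ≤ t l.succ := le_of_lt (t.step l)
      have h0 : x ≫ cokernel.π (Subobject.ofLE _ _ hle) = 0 :=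
        eq_zero_of_redLT hL hT (ht.2.2.1 l) hpT hr (h l r hr) _
      obtain ⟨y, hy⟩ := KernelFork.IsLimit.lift' (Abelian.monoIsKernelOfCokernel
        (CokernelCofork.ofπ (cokernel.π (Subobject.ofLE _ _ hle)) (cokernel.condition _)) (cokernelIsCokernel _)) x h0
      replace hy : y ≫ Subobject.ofLE _ _ hle = x := hy
      exact ⟨y, by rw [← Subobject.ofLE_arrow hle, ← Category.assoc, hy, hx]⟩
  obtain ⟨x, hx⟩ := hfac 0
  rw [← hx, arrow_eq_zero (show t 0 = ⊥ from ht.1), Limits.comp_zero]

theorem hom_eq_zero_of_pmin_gt (hL : CohB1.IsAmple L) {F : Z.Modules} {s : LTSeries (Subobject F)}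
    (hs : ShStab.IsHNFiltration k Z L F d s) {t : LTSeries (Subobject E)} (ht : ShStab.IsHNFiltration k Z L E d t)
    (i : Fin s.length) (hi : i.val + 1 = s.length) (j : Fin t.length) (hj : j.val = 0)
    (pmin pmax : ℚ[X]) (hpmin : ShStab.IsHilbPoly k Z L (factor s i) pmin)
    (hpmax : ShStab.IsHilbPoly k Z L (factor t j) pmax) (hlt : RedLT d pmax pmin) (φ : F ⟶ E) : φ = 0 := by
  have hα : ∀ {F' : Z.Modules} {r : ℚ[X]}, ShStab.IsSemistable k Z L F' d → ShStab.IsHilbPoly k Z L F' r →
      0 < alpha d r := fun h hr => alpha_pos_of_pure hL h.2.2.1 h.1 h.2.1 hr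
  have key : ∀ l : Fin (s.length + 1), (s l).arrow ≫ φ = 0 := by
    intro l
    induction l using Fin.induction with
    | zero => rw [arrow_eq_zero (show s 0 = ⊥ from hs.1), Limits.zero_comp]
    | succ l ih =>
      have hle : s l.castSucc ≤ s l.succ := le_of_lt (s.step l)
      have h0 : Subobject.ofLE _ _ hle ≫ (s l.succ).arrow ≫ φ = 0 := by
        rw [← Category.assoc, Subobject.ofLE_arrow]; exact ih
      obtain ⟨p, hp⟩ := exists_hilb_self (k := k) hL (hs.2.2.1 l).2.2.1 (hs.2.2.1 l).1
      have hψ : cokernel.desc _ _ h0 = 0 := by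
        refine hom_eq_zero_of_hn hL (hs.2.2.1 l) hp ht (fun m r hr => ?_) _
        have h₁ : RedLE d r pmax := by
          by_cases hm : m = j
          · subst hm
            rw [H25Euler.hilbPoly_unique hr hpmax]
            exact redLE_of_redEq (redEq_refl _ _)
          · exact redLE_iff.2 (redLT_iff.1 (hn_redLT_of_lt hL ht (by omega) hpmax hr)).nonneg
        have h₂ : RedLE d pmin p := by
          by_cases hm : l = i
          · subst hm
            rw [H25Euler.hilbPoly_unique hp hpmin]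
            exact redLE_of_redEq (redEq_refl _ _)
          · exact redLE_iff.2 (redLT_iff.1 (hn_redLT_of_lt hL hs (by omega) hp hpmin)).nonneg
        exact redLT_of_le_of_lt (hα (ht.2.2.1 m) hr) (hα (ht.2.2.1 j) hpmax) (hα (hs.2.2.1 l) hp).le h₁
          (redLT_of_lt_of_le (hα (ht.2.2.1 j) hpmax).le (hα (hs.2.2.1 i) hpmin) (hα (hs.2.2.1 l) hp) hlt h₂)
      rw [← cokernel.π_desc _ _ h0, hψ, Limits.comp_zero]
  have h := key (Fin.last s.length)
  haveI : IsIso (s (Fin.last s.length)).arrow := by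
    rw [show s (Fin.last s.length) = ⊤ from hs.2.1]; infer_instance
  rwa [← cancel_epi (s (Fin.last s.length)).arrow, Limits.comp_zero]

end Groth.Agent.H10Coh.Stab
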