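import Groth.Agent.H10Coh.Stab.Mu
import Groth.Agent.H29Ref.Hartogs
import Groth.Agent.H8Props.FieldDimEquidim
import Groth.Agent.H16Derived.KFlat.SheafStalk
import Groth.Agent.H10Coh.StabBC.Alg

/-!
# Morphisms between slope stable reflexive sheaves
-/

set_option autoImplicit false
set_option linter.style.haveILetI false
set_option linter.unusedSectionVars false
set_option backward.isDefEq.respectTransparency.types false

universe u

open CategoryTheory CategoryTheory.Limits AlgebraicGeometry Opposite TopologicalSpace Polynomial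

namespace Groth.Agent.H10Coh.Stab

open StabCat

variable {k : Type u} [Field k] {Z : Scheme.{u}} [Z.Over (Spec (CommRingCat.of k))]
  [IsProper (Z ↘ Spec (CommRingCat.of k))] {L F G : Z.Modules} {n : ℕ}

omit [IsProper (Z ↘ Spec (CommRingCat.of k))] in
/-- The local rings at points of a closed set of small dimension have large dimension. -/
theorem two_le_dim_stalk [IsIntegral Z] [LocallyOfFiniteType (Z ↘ Spec (CommRingCat.of k))]
    (hZ : topologicalKrullDim Z = (n : WithBot ℕ∞)) {S : Set Z} (hS : IsClosed S) {d : ℕ}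
    (hd : topologicalKrullDim S ≤ (d : WithBot ℕ∞)) (hdn : d + 2 ≤ n) {x : Z} (hx : x ∈ S) :
    (2 : WithBot ℕ∞) ≤ ringKrullDim (Z.presheaf.stalk x) := by
  have h := H8Props.FieldDim.localDim_eq_stalk_add_cdim (Z ↘ Spec (CommRingCat.of k)) x
  rw [H8Props.FieldDim.localDim_eq_dim_of_irreducible (Z ↘ Spec (CommRingCat.of k)) x, hZ] at h
  have hc : H8Props.FieldDim.cdim x ≤ (d : WithBot ℕ∞) :=
    (Topology.IsEmbedding.inclusion (closure_minimal (Set.singleton_subset_iff.2 hx) hS)).isInducing.topologicalKrullDim_le.trans hd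
  by_contra hlt
  push Not at hlt
  have h1 : ringKrullDim (Z.presheaf.stalk x) ≤ ((1 : ℕ) : WithBot ℕ∞) := by
    rw [Nat.cast_one]
    exact Order.le_of_lt_succ (by exact_mod_cast hlt)
  have h2 : (n : WithBot ℕ∞) ≤ ((1 + d : ℕ) : WithBot ℕ∞) := by
    rw [h, Nat.cast_add]
    exact add_le_add h1 hc
  have : n ≤ 1 + d := by exact_mod_cast h2
  omega

/-- A nonzero morphism from a slope stable reflexive sheaf to one of at most its slope is an isomorphism. -/
theorem isIso_of_isMuStable_of_isReflexive [IsIntegral Z] (hn : 1 ≤ n)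
    (hX : topologicalKrullDim Z = (n : WithBot ℕ∞)) (hnor : Pi1.IsNormalScheme Z) (hL : CohB1.IsAmple L)
    (hFr : RefHull.IsReflexive F) (hGr : RefHull.IsReflexive G)
    (hF : ShStab.IsMuStable k Z L F n) (hG : ShStab.IsMuStable k Z L G n) {pF pG : ℚ[X]}
    (hpF : ShStab.IsHilbPoly k Z L F pF) (hpG : ShStab.IsHilbPoly k Z L G pG)
    (hle : hatSlope n pG ≤ hatSlope n pF) (φ : F ⟶ G) (hφ : φ ≠ 0) : IsIso φ := by
  haveI := isLocallyNoetherian_of_proper (Z := Z) k
  have hFp := isPure_of_isReflexive k hFr hX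
  have hGp := isPure_of_isReflexive k hGr hX
  haveI := mono_of_isMuStable hL hn hFp hGp hF (isMuSemistable_of_isMuStable hG) hpF hpG hle φ hφ
  have hαF := alpha_pos_of_pure hL hFp hF.1 hF.2.1 hpF
  have hαG := alpha_pos_of_pure hL hGp hG.1 hG.2.1 hpG
  have heq : alpha n pF = alpha n pG :=
    (alpha_le_of_mono hL hGp hG.1 hF.1 φ hpF hpG).antisymm (not_lt.1 fun h =>
      absurd hle (not_le_of_gt (hG.2.2.2.2 F φ inferInstance hF.1 pF pG hpF hpG hαF h)))
  have heq₁ : alpha (n - 1) pF = alpha (n - 1) pG := by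
    refine (alpha_pred_le_of_eq hL hn hGp hG.1 hF.1 φ hpF hpG heq).antisymm ?_
    rw [hatSlope, hatSlope, heq, div_le_div_iff_of_pos_right hαG] at hle
    exact hle
  have hC := H10Coh.isCoh_cokernel φ hF.1.1 hG.1
  have hQ := (H25Euler.polyLE_of_mono hL hF.1 hG.1 φ hpF hpG).2
  by_cases h0 : IsZero (cokernel φ)
  · haveI : Epi φ := Preadditive.epi_of_isZero_cokernel _ h0
    exact isIso_of_mono_of_epi φ
  obtain ⟨d, hd⟩ := StabBC.exists_dim_eq h0 (m := n + 1) ((topologicalKrullDim_subspace_le Z _).trans_lt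
    (lt_succ_of_dim_eq hX))
  obtain ⟨-, -, hpos⟩ := degree_hilbPoly hL hC hd hQ
  have hdn : d + 2 ≤ n := by
    by_contra hlt
    have hd' : d ≤ n := by
      have : (d : WithBot ℕ∞) ≤ (n : WithBot ℕ∞) := hd ▸ (topologicalKrullDim_subspace_le Z _).trans hX.le
      exact_mod_cast this
    rw [coeff_sub, sub_pos] at hpos
    rcases (show d = n ∨ d = n - 1 by omega) with rfl | rfl
    · simp only [alpha] at heq
      exact hpos.ne (mul_left_cancel₀ (Nat.cast_ne_zero.2 d.factorial_ne_zero) heq)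
    · simp only [alpha] at heq₁
      exact hpos.ne (mul_left_cancel₀ (Nat.cast_ne_zero.2 (n - 1).factorial_ne_zero) heq₁)
  have hS := H10Coh.isClosed_support (cokernel φ) hC.2
  -- the stalk maps off the support
  have hbij : ∀ x : Z, x ∉ CohB1.support (cokernel φ) → Function.Bijective
      ((TopCat.Presheaf.stalkFunctor Ab.{u} x).map φ.mapPresheaf) := by
    intro x hx
    let Φ := DerSch.stalkFunctor Z x
    have hz : IsZero (Φ.obj (cokernel φ)) := by
      haveI : Subsingleton (Φ.obj (cokernel φ)) := not_not.1 hx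
      exact ModuleCat.isZero_of_subsingleton _
    haveI : Mono (Φ.map φ) := Functor.map_mono Φ φ
    haveI : Epi (Φ.map φ) := Preadditive.epi_of_isZero_cokernel _ (hz.of_iso (PreservesCokernel.iso Φ φ).symm)
    haveI := isIso_of_mono_of_epi (Φ.map φ)
    exact ConcreteCategory.bijective_of_isIso ((forget₂ (ModuleCat.{u} (Z.presheaf.stalk x)) AddCommGrpCat.{u}).map (Φ.map φ))
  refine Scheme.Modules.Hom.isIso_iff_isIso_app.2 fun U => ?_
  let V : Z.Opens := U ⊓ ⟨(CohB1.support (cokernel φ))ᶜ, hS.isOpen_compl⟩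
  have hVU : V ≤ U := inf_le_left
  have hV : Function.Bijective (φ.app V) :=
    TopCat.Presheaf.app_bijective_of_stalkFunctor_map_bijective ((H10Coh.shF Z).map φ) V fun x hx => hbij x hx.2
  have h2 : ∀ x : Z, x ∈ U → x ∉ V → (2 : WithBot ℕ∞) ≤ ringKrullDim (Z.presheaf.stalk x) := fun x hxU hxV =>
    two_le_dim_stalk (k := k) hX hS hd.le hdn (not_not.1 fun h => hxV ⟨hxU, h⟩)
  have hbF := H29Ref.bijective_res hnor F hF.1 hFr hVU h2
  have hbG := H29Ref.bijective_res hnor G hG.1 hGr hVU h2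
  refine (ConcreteCategory.isIso_iff_bijective _).2 (Function.Bijective.of_comp_left (f := G.presheaf.map (homOfLE hVU).op) ?_ hbG.1)
  have hnat : (G.presheaf.map (homOfLE hVU).op) ∘ (φ.app U) = (φ.app V) ∘ (F.presheaf.map (homOfLE hVU).op) :=
    funext fun s => (congr($(φ.mapPresheaf.naturality (homOfLE hVU).op) s)).symm
  exact hnat ▸ hV.comp hbF

end Groth.Agent.H10Coh.Stab
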