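import Groth.Agent.H10Coh.Stab.Criteria
import Groth.Agent.H28Int.FieldExt
import Groth.Agent.H16Derived.KFlat.RestrictD
import Groth.Agent.H16Derived.KFlat.SheafAssoc
import Groth.Agent.H11Ample.Converse
import Groth.Agent.LeadProper.Supp
import Groth.Agent.H17.ConsModModels
import Groth.Agent.H25Euler.Mult

/-!
# Hilbert polynomials and semistability under extensions of the ground field
-/

set_option autoImplicit false
set_option linter.style.haveILetI false
set_option linter.unusedSectionVars false

universe u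

open CategoryTheory CategoryTheory.Limits AlgebraicGeometry Opposite TopologicalSpace Polynomial

namespace Groth.Agent.H10Coh.Stab

variable {k : Type u} [Field k] {X : Scheme.{u}} [X.Over (Spec (CommRingCat.of k))]
  [IsProper (X ↘ Spec (CommRingCat.of k))] {L E F : X.Modules} {d : ℕ} (K : Type u) [Field K] [Algebra k K]

theorem hilbPoly_bc (hL : CohB1.IsAmple L) (hF : Coh.IsCoh F) {P : ℚ[X]} (hP : ShStab.IsHilbPoly k X L F P) :
    ShStab.IsHilbPoly K (Curv2.bc k X K) ((Scheme.Modules.pullback (Curv2.bcFst k X K)).obj L)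
      ((Scheme.Modules.pullback (Curv2.bcFst k X K)).obj F) P := by
  intro m
  obtain ⟨e₁⟩ := H11Ample.exists_iso_pullback_tensorPow (Curv2.bcFst k X K) hL.1 m
  let e : ShStab.twist (Curv2.bc k X K) ((Scheme.Modules.pullback (Curv2.bcFst k X K)).obj L)
      ((Scheme.Modules.pullback (Curv2.bcFst k X K)).obj F) m ≅
      (Scheme.Modules.pullback (Curv2.bcFst k X K)).obj (ShStab.twist X L F m) :=
    eqToIso (H25Euler.tensorBi_obj_obj _ _).symm ≪≫
      ((DCoh.tensorBi (X := Curv2.bc k X K)).obj ((Scheme.Modules.pullback (Curv2.bcFst k X K)).obj F)).mapIso e₁.symm ≪≫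
      ((H16Derived.KFlat.Stalk.pullTensorLIso (Curv2.bcFst k X K) (CohB1.tensorPow L m)).app F).symm ≪≫
      eqToIso (congrArg (Scheme.Modules.pullback (Curv2.bcFst k X K)).obj (H25Euler.tensorBi_flip_obj F (CohB1.tensorPow L m)))
  rw [H25Euler.euler_congr e]
  have h := H28Int.FieldExt.euler_bc (k := k) K (X' := Curv2.bc k X K) (q := Curv2.bcFst k X K) (IsPullback.of_hasPullback _ _)
    (F := ShStab.twist X L F m) (H11Ample.isCoh_tensor hF (H11Ample.isInvertible_tensorPow hL.1 m))
  exact (congrArg (fun z : ℤ => (z : ℚ)) h).trans (hP m)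

theorem isProper_bc : IsProper (Curv2.bc k X K ↘ Spec (CommRingCat.of K)) := by
  show IsProper (Curv2.bcSnd k X K)
  infer_instance

theorem surjective_bcFst : Function.Surjective (Curv2.bcFst k X K).base := by
  haveI : Surjective (Spec.map (CommRingCat.ofHom (algebraMap k K))) :=
    ⟨fun p => ⟨⟨⊥, Ideal.isPrime_bot⟩, Subsingleton.elim (α := PrimeSpectrum k) _ _⟩⟩
  exact (inferInstance : Surjective (Curv2.bcFst k X K)).surj

theorem not_isZero_bc (hF : Coh.IsCoh F) (h0 : ¬ IsZero F) :
    ¬ IsZero ((Scheme.Modules.pullback (Curv2.bcFst k X K)).obj F) := fun h => by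
  obtain ⟨x, hx⟩ := H25Euler.support_nonempty h0
  obtain ⟨y, rfl⟩ := surjective_bcFst (k := k) K x
  have hy : y ∈ CohB1.support ((Scheme.Modules.pullback (Curv2.bcFst k X K)).obj F) := by
    rw [LeadProper.support_pullback (hF := hF.1) (hft := hF.2)]; exact hx
  rw [support_eq_empty_of_isZero h] at hy
  exact hy

theorem mono_bc (ι : F ⟶ E) [Mono ι] : Mono ((Scheme.Modules.pullback (Curv2.bcFst k X K)).map ι) := by
  haveI : AlgebraicGeometry.Flat (Spec.map (CommRingCat.ofHom (algebraMap k K))) :=
    (HasRingHomProperty.Spec_iff (P := @AlgebraicGeometry.Flat)).2 (RingHom.flat_algebraMap_iff.2 inferInstance)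
  haveI : AlgebraicGeometry.Flat (Curv2.bcFst k X K) := inferInstance
  haveI := H16Derived.KFlat.Stalk.preservesFiniteLimits_pullback_of_flat (Curv2.bcFst k X K)
  infer_instance

/-- Semistability descends along extensions of the ground field. -/
theorem isSemistable_of_bc (hL : CohB1.IsAmple L) (hE : Coh.IsCoh E) (hp : ShStab.IsPure X E d)
    (hK : ShStab.IsSemistable K (Curv2.bc k X K) ((Scheme.Modules.pullback (Curv2.bcFst k X K)).obj L)
      ((Scheme.Modules.pullback (Curv2.bcFst k X K)).obj E) d) :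
    ShStab.IsSemistable k X L E d := by
  refine ⟨hE, fun h => hK.2.1 ((Scheme.Modules.pullback (Curv2.bcFst k X K)).map_isZero h), hp,
    fun G ι hι hG hG0 _ pG pE hpG hpE => ?_⟩
  haveI := hι
  haveI : IsProper (Curv2.bc k X K ↘ Spec (CommRingCat.of K)) := isProper_bc (k := k) K
  haveI := mono_bc (k := k) K ι
  have hG' := hilbPoly_bc K hL hG hpG
  have hE' := hilbPoly_bc K hL hE hpE
  by_cases hi : IsIso ((Scheme.Modules.pullback (Curv2.bcFst k X K)).map ι)
  · rw [H25Euler.hilbPoly_unique hG'
      (H25Euler.hilbPoly_congr (asIso ((Scheme.Modules.pullback (Curv2.bcFst k X K)).map ι)).symm hE')]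
    exact redLE_of_redEq (redEq_refl _ _)
  · exact hK.2.2.2 _ _ inferInstance (H17.ConsProp.isCoh_pullback _ hG) (not_isZero_bc K hG hG0) hi pG pE hG' hE'

end Groth.Agent.H10Coh.Stab
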