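import Groth.Agent.H10Coh.Stab.Criteria
import Mathlib.FieldTheory.IsAlgClosed.Basic
import Mathlib.RingTheory.Jacobson.Ring
import Mathlib.LinearAlgebra.Eigenspace.Minpoly

/-!
# Stable sheaves over an algebraically closed field are simple
-/

set_option autoImplicit false
set_option linter.style.haveILetI false
set_option linter.unusedSectionVars false

universe u

open CategoryTheory CategoryTheory.Limits AlgebraicGeometry Opposite TopologicalSpace Polynomial

namespace Groth.Agent.H10Coh.Stab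

variable {X : Scheme.{u}}

theorem exists_affine_nontrivial {E : X.Modules} (h0 : ¬ IsZero E) :
    ∃ U : X.Opens, IsAffineOpen U ∧ Nontrivial Γ(E, U) := by
  by_contra h
  push Not at h
  refine h0 (H10Coh.isZero_of_sections E fun W => subsingleton_of_forall_eq 0 fun s => ?_)
  refine TopCat.Sheaf.eq_of_locally_eq' (H10Coh.sheafOf E)
    (fun V : {V : X.Opens // IsAffineOpen V ∧ V ≤ W} => V.1) W (fun V => homOfLE V.2.2) ?_ _ _ fun V => ?_
  · intro x hx
    obtain ⟨V, hV, hxV, hle⟩ := exists_isAffineOpen_mem_and_subset (U := W) (x := x) hx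
    exact Opens.mem_iSup.2 ⟨⟨V, hV, hle⟩, hxV⟩
  · haveI := h V.1 V.2.1
    exact Subsingleton.elim (α := Γ(E, V.1)) _ _

theorem exists_scalar_not_isIso (k : Type u) [Field k] [IsAlgClosed k] [X.Over (Spec (CommRingCat.of k))]
    [IsProper (X ↘ Spec (CommRingCat.of k))] {E : X.Modules} (hE : Coh.IsCoh E) (h0 : ¬ IsZero E) (φ : E ⟶ E) :
    ∃ c : k, ¬ IsIso (φ - Formal.smulMod k E c) := by
  haveI := isLocallyNoetherian_of_proper (Z := X) k
  obtain ⟨U, hU, hnt⟩ := exists_affine_nontrivial h0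
  let f := X ↘ Spec (CommRingCat.of k)
  let a : k →+* Γ(X, U) := (X.presheaf.map (homOfLE (le_top : U ≤ ⊤)).op).hom.comp (Coh.toGlobal f)
  algebraize [a]
  haveI hft : Algebra.FiniteType k Γ(X, U) := by
    have h := LocallyOfFiniteType.finiteType_appLE f (isAffineOpen_top _) hU (show U ≤ f ⁻¹ᵁ ⊤ from le_top)
    exact h.comp (RingHom.FiniteType.of_surjective _
      (Scheme.ΓSpecIso (CommRingCat.of k)).commRingCatIsoToRingEquiv.symm.surjective)
  haveI : Module.Finite Γ(X, U) Γ(E, U) := ((H10Coh.isCoh_iff_finite_sections E).1 hE).2 _ hU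
  obtain ⟨m, hm, hle⟩ := Ideal.exists_le_maximal (Module.annihilator Γ(X, U) Γ(E, U)) (fun h => by
    have := Module.mem_annihilator.1 (h ▸ Submodule.mem_top (x := (1 : Γ(X, U))))
    obtain ⟨x, hx⟩ := exists_ne (0 : Γ(E, U))
    exact hx (by simpa using this x))
  haveI := hm
  -- the residue field is `k`
  letI : Field (Γ(X, U) ⧸ m) := Ideal.Quotient.field m
  haveI : Module.Finite k (Γ(X, U) ⧸ m) := finite_of_finite_type_of_isJacobsonRing k (Γ(X, U) ⧸ m)
  letI : Module k Γ(E, U) := Module.compHom _ a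
  haveI : IsScalarTower k Γ(X, U) Γ(E, U) := IsScalarTower.of_algebraMap_smul fun _ _ => rfl
  let p : Submodule Γ(X, U) Γ(E, U) := m • ⊤
  have hp : p ≠ ⊤ := fun h => by
    obtain ⟨r, hr, hr0⟩ := Submodule.exists_sub_one_mem_and_smul_eq_zero_of_fg_of_le_smul m ⊤
      Module.Finite.fg_top h.ge
    refine hm.ne_top (Ideal.eq_top_of_isUnit_mem m ?_ isUnit_one)
    rw [show (1 : Γ(X, U)) = r - (r - 1) by ring]
    exact m.sub_mem (hle (Module.mem_annihilator.2 fun x => hr0 x Submodule.mem_top)) hr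
  let V := Γ(E, U) ⧸ p
  haveI : Nontrivial V := Submodule.Quotient.nontrivial_iff.2 hp
  haveI : Module.Finite k V := Module.Finite.trans (Γ(X, U) ⧸ m) V
  let g : Γ(E, U) →ₗ[Γ(X, U)] Γ(E, U) :=
    { toFun := φ.app U, map_add' := map_add _, map_smul' := fun r x => φ.app_smul r x }
  have hgp : p ≤ p.comap g := by
    rw [← Submodule.map_le_iff_le_comap, Submodule.map_smul'']
    exact Submodule.smul_mono le_rfl le_top
  obtain ⟨c, hc⟩ := Module.End.exists_eigenvalue ((p.mapQ p g hgp).restrictScalars k : Module.End k V)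
  obtain ⟨v, hv⟩ := hc.exists_hasEigenvector
  refine ⟨c, fun hi => hv.2 ?_⟩
  haveI := hi
  have hsurj : Function.Surjective ((φ - Formal.smulMod k E c).app U) :=
    (ConcreteCategory.bijective_of_isIso ((φ - Formal.smulMod k E c).app U)).2
  let T : Module.End k V := (p.mapQ p g hgp).restrictScalars k - c • LinearMap.id
  have hT : Function.Surjective T := fun w => by
    obtain ⟨w, rfl⟩ := Submodule.Quotient.mk_surjective p w
    obtain ⟨z, rfl⟩ := hsurj w
    refine ⟨Submodule.Quotient.mk z, ?_⟩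
    show Submodule.Quotient.mk (g z) - c • Submodule.Quotient.mk z =
      Submodule.Quotient.mk (p := p) ((φ - Formal.smulMod k E c).app U z)
    rw [← Submodule.Quotient.mk_smul, ← Submodule.Quotient.mk_sub]
    rfl
  refine (LinearMap.injective_iff_surjective.2 hT) ?_
  rw [map_zero]
  show (p.mapQ p g hgp) v - c • v = 0
  rw [sub_eq_zero]
  exact hv.apply_eq_smul

theorem simple_of_isStable {k : Type u} [Field k] [IsAlgClosed k] [X.Over (Spec (CommRingCat.of k))]
    [IsProper (X ↘ Spec (CommRingCat.of k))] {L E : X.Modules} {d : ℕ} (hL : CohB1.IsAmple L)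
    (hE : ShStab.IsStable k X L E d) (φ : E ⟶ E) : ∃ c : k, φ = Formal.smulMod k E c := by
  obtain ⟨c, hc⟩ := exists_scalar_not_isIso k hE.1 hE.2.1 φ
  refine ⟨c, sub_eq_zero.1 (by_contra fun h => hc ?_)⟩
  obtain ⟨P, hP⟩ := exists_hilb_self (k := k) hL hE.2.2.1 hE.1
  have hss := isSemistable_of_isStable hE
  exact isIso_of_isStable hL hss hss (Or.inl hE) hP hP _ h

end Groth.Agent.H10Coh.Stab
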