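import Groth.Agent.H10Coh.Stab.HN
import Groth.Agent.H10Coh.Stab.Mu

/-!
# Truncated reduced polynomials and `ℓ`-semistability
-/

set_option autoImplicit false
set_option linter.style.haveILetI false
set_option linter.unusedSectionVars false

universe u

open CategoryTheory CategoryTheory.Limits AlgebraicGeometry Opposite TopologicalSpace Polynomial

namespace Groth.Agent.H10Coh.Stab

open StabCat

/-- The cross difference of the `ℓ`-truncations. -/
noncomputable def ecross (ℓ d : ℕ) (P Q : ℚ[X]) : ℚ[X] := cross d (topPart ℓ d P) (topPart ℓ d Q)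

theorem topPart_zero (ℓ d : ℕ) : topPart ℓ d 0 = 0 := by simp [topPart]

theorem topPart_add (ℓ d : ℕ) (P Q : ℚ[X]) : topPart ℓ d (P + Q) = topPart ℓ d P + topPart ℓ d Q := by
  simp [topPart, Finset.sum_add_distrib]

theorem topPart_sub (ℓ d : ℕ) (P Q : ℚ[X]) : topPart ℓ d (P - Q) = topPart ℓ d P - topPart ℓ d Q := by
  simp [topPart, Finset.sum_sub_distrib]

theorem ecross_self (ℓ d : ℕ) (P : ℚ[X]) : ecross ℓ d P P = 0 := cross_self _ _

theorem ecross_zero_left (ℓ d : ℕ) (P : ℚ[X]) : ecross ℓ d 0 P = 0 := by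
  rw [ecross, topPart_zero, cross_zero_left]

theorem ecross_swap (ℓ d : ℕ) (P Q : ℚ[X]) : ecross ℓ d Q P = -ecross ℓ d P Q := cross_swap _ _ _

theorem ecross_add (ℓ d : ℕ) (P Q R : ℚ[X]) : ecross ℓ d (P + Q) R = ecross ℓ d P R + ecross ℓ d Q R := by
  rw [ecross, topPart_add, cross_add]; rfl

theorem ecross_sub (ℓ d : ℕ) (P Q R : ℚ[X]) : ecross ℓ d (P - Q) R = ecross ℓ d P R - ecross ℓ d Q R := by
  rw [ecross, topPart_sub, cross_sub]; rfl

theorem ecross_trans (ℓ d : ℕ) (P Q R : ℚ[X]) :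
    alpha d Q • ecross ℓ d P R = alpha d R • ecross ℓ d P Q + alpha d P • ecross ℓ d Q R := by
  simpa [ecross, alpha_topPart] using cross_trans d (topPart ℓ d P) (topPart ℓ d Q) (topPart ℓ d R)

theorem ecross_sub_right (ℓ d : ℕ) (K E : ℚ[X]) : ecross ℓ d E (E - K) = ecross ℓ d K E := by
  rw [ecross_swap ℓ d (E - K) E, ecross_sub, ecross_self]
  abel

theorem ecross_alpha_zero {ℓ d : ℕ} {P Q : ℚ[X]} (h : alpha d P = 0) :
    ecross ℓ d P Q = -(alpha d Q • topPart ℓ d P) := by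
  rw [ecross, cross, alpha_topPart, alpha_topPart, h, zero_smul, zero_sub]

theorem Nonneg.ecross_trans {ℓ d : ℕ} {P Q R : ℚ[X]} (hP : 0 ≤ alpha d P) (hQ : 0 < alpha d Q) (hR : 0 ≤ alpha d R)
    (h₁ : Nonneg (ecross ℓ d P Q)) (h₂ : Nonneg (ecross ℓ d Q R)) : Nonneg (ecross ℓ d P R) :=
  Nonneg.of_smul (by rw [Stab.ecross_trans]; exact (h₁.smul hR).add (h₂.smul hP)) hQ

theorem Pos.ecross_trans_le_lt {ℓ d : ℕ} {P Q R : ℚ[X]} (hP : 0 < alpha d P) (hQ : 0 < alpha d Q) (hR : 0 ≤ alpha d R)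
    (h₁ : Nonneg (ecross ℓ d P Q)) (h₂ : Pos (ecross ℓ d Q R)) : Pos (ecross ℓ d P R) :=
  Pos.of_smul (by rw [Stab.ecross_trans]; exact Pos.add_right (h₁.smul hR) (h₂.smul hP)) hQ

theorem Pos.ecross_trans_lt_le {ℓ d : ℕ} {P Q R : ℚ[X]} (hP : 0 ≤ alpha d P) (hQ : 0 < alpha d Q) (hR : 0 < alpha d R)
    (h₁ : Pos (ecross ℓ d P Q)) (h₂ : Nonneg (ecross ℓ d Q R)) : Pos (ecross ℓ d P R) :=
  Pos.of_smul (by rw [Stab.ecross_trans]; exact (h₁.smul hR).add (h₂.smul hP)) hQ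

theorem not_pos_of_nonneg_swap {ℓ d : ℕ} {P Q : ℚ[X]} (h : Nonneg (ecross ℓ d P Q)) : ¬ Pos (ecross ℓ d Q P) := by
  refine not_pos_of_nonneg_neg ?_
  rwa [ecross_swap ℓ d P Q, neg_neg]

theorem pos_swap_of_not_nonneg {ℓ d : ℕ} {P Q : ℚ[X]} (h : ¬ Nonneg (ecross ℓ d P Q)) : Pos (ecross ℓ d Q P) :=
  redLT_iff.1 (redLT_of_not_redLE fun h' => h (redLE_iff.1 h'))

theorem nonneg_ecross_one_iff {d : ℕ} (hd : 1 ≤ d) {P Q : ℚ[X]} (hP : 0 < alpha d P) (hQ : 0 < alpha d Q) :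
    (Nonneg (ecross 1 d P Q) ↔ hatSlope d P ≤ hatSlope d Q) ∧
      (Pos (ecross 1 d P Q) ↔ hatSlope d P < hatSlope d Q) := by
  set c : ℚ := alpha d P * Q.coeff (d - 1) - alpha d Q * P.coeff (d - 1) with hc
  have e : ecross 1 d P Q = monomial (d - 1) c := by
    ext n
    rw [ecross, cross_topPart, coeff_topPart, coeff_monomial]
    simp only [cross, coeff_sub, coeff_smul, smul_eq_mul]
    rcases eq_or_ne (d - 1) n with rfl | hne
    · rw [if_pos (Finset.mem_Icc.2 ⟨le_rfl, by omega⟩), if_pos rfl, hc]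
    · rw [if_neg hne]
      split_ifs with hn
      · obtain rfl : n = d := by have := Finset.mem_Icc.1 hn; omega
        simp only [alpha]; ring
      · rfl
  have hf : (0 : ℚ) < ((d - 1).factorial : ℚ) := by exact_mod_cast (d - 1).factorial_pos
  have h₁ : hatSlope d P ≤ hatSlope d Q ↔ 0 ≤ c := by
    rw [hatSlope, hatSlope, div_le_div_iff₀ hP hQ, hc,
      show alpha (d - 1) P = ((d - 1).factorial : ℚ) * P.coeff (d - 1) from rfl,
      show alpha (d - 1) Q = ((d - 1).factorial : ℚ) * Q.coeff (d - 1) from rfl]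
    constructor
    · intro h; exact le_of_mul_le_mul_left (by linarith) hf
    · intro h; nlinarith [mul_nonneg hf.le h]
  have h₂ : hatSlope d P < hatSlope d Q ↔ 0 < c := by
    rw [hatSlope, hatSlope, div_lt_div_iff₀ hP hQ, hc,
      show alpha (d - 1) P = ((d - 1).factorial : ℚ) * P.coeff (d - 1) from rfl,
      show alpha (d - 1) Q = ((d - 1).factorial : ℚ) * Q.coeff (d - 1) from rfl]
    constructor
    · intro h; exact lt_of_mul_lt_mul_left (a := ((d - 1).factorial : ℚ)) (by linarith) hf.le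
    · intro h; nlinarith [mul_pos hf h]
  have hpos : Pos (ecross 1 d P Q) ↔ 0 < c := by rw [pos_iff, e, leadingCoeff_monomial]
  refine ⟨?_, hpos.trans h₂.symm⟩
  rw [h₁]
  constructor
  · intro h
    rcases h.eq_zero_or_pos with h0 | h0
    · rw [e, monomial_eq_zero_iff] at h0; exact h0.ge
    · exact (hpos.1 h0).le
  · intro h
    rcases h.eq_or_lt with h0 | h0
    · exact Nonneg.of_eq_zero (by rw [e, ← h0, monomial_zero_right])
    · exact (hpos.2 h0).nonneg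

variable {k : Type u} [Field k] {Z : Scheme.{u}} [Z.Over (Spec (CommRingCat.of k))]
  [IsProper (Z ↘ Spec (CommRingCat.of k))] {L E : Z.Modules} {d ℓ : ℕ}

theorem nonneg_topPart_hilb (hL : CohB1.IsAmple L) {F : Z.Modules} (hF : Coh.IsCoh F)
    (hd : topologicalKrullDim (CohB1.support F) < ((d + 1 : ℕ) : WithBot ℕ∞)) {P : ℚ[X]}
    (hP : ShStab.IsHilbPoly k Z L F P) : Nonneg (topPart ℓ d P) :=
  Nonneg.topPart (H25Euler.eval_nonneg hL hF hP) fun _ hn => H25Euler.coeff_hilbPoly_eq_zero hL hF hP hd hn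

/-- A submodule of full multiplicity has at most the same truncated reduced polynomial. -/
theorem nonneg_ecross_of_alpha_eq (hL : CohB1.IsAmple L) (hp : ShStab.IsPure Z E d) (hE : Coh.IsCoh E)
    {F : Z.Modules} (hF : Coh.IsCoh F) (ι : F ⟶ E) [Mono ι] {pF pE : ℚ[X]} (hpF : ShStab.IsHilbPoly k Z L F pF)
    (hpE : ShStab.IsHilbPoly k Z L E pE) (h : alpha d pF = alpha d pE) : Nonneg (ecross ℓ d pF pE) := by
  haveI := isLocallyNoetherian_of_proper (Z := Z) k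
  obtain ⟨-, hC⟩ := H25Euler.polyLE_of_mono hL hF hE ι hpF hpE
  have hn : Nonneg (topPart ℓ d (pE - pF)) := nonneg_topPart_hilb hL (H10Coh.isCoh_cokernel ι hF.1 hE)
    (H25Euler.dim_lt_of_subset (H25Euler.support_cokernel_subset ι) (dim_lt_succ_of_pure hp hE)) hC
  rw [ecross, cross, alpha_topPart, alpha_topPart, ← h, ← smul_sub, ← topPart_sub]
  exact hn.smul (alpha_nonneg hL (isPure_of_mono hp ι) hF hpF)

/-- In an `ℓ`-semistable sheaf every submodule has at most the truncated reduced polynomial. -/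
theorem nonneg_ecross_sub (hL : CohB1.IsAmple L) (hE : ShStab.IsEllSemistable k Z L E d ℓ) {F : Z.Modules}
    (hF : Coh.IsCoh F) (ι : F ⟶ E) [Mono ι] {pF pE : ℚ[X]} (hpF : ShStab.IsHilbPoly k Z L F pF)
    (hpE : ShStab.IsHilbPoly k Z L E pE) : Nonneg (ecross ℓ d pF pE) := by
  by_cases h0 : IsZero F
  · rw [H25Euler.hilbPoly_unique hpF (H25Euler.hilbPoly_zero h0), ecross_zero_left]
    exact Nonneg.of_eq_zero rfl
  obtain ⟨hc, -, hp, hss⟩ := hE
  rcases (alpha_le_of_mono hL hp hc hF ι hpF hpE).lt_or_eq with h | h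
  · exact redLE_iff.1 (hss F ι inferInstance hF pF pE hpF hpE (alpha_pos_of_pure hL (isPure_of_mono hp ι) hF h0 hpF) h)
  · exact nonneg_ecross_of_alpha_eq hL hp hc hF ι hpF hpE h

/-- In an `ℓ`-semistable sheaf every quotient has at least the truncated reduced polynomial. -/
theorem nonneg_ecross_quot (hL : CohB1.IsAmple L) (hE : ShStab.IsEllSemistable k Z L E d ℓ) {G : Z.Modules}
    (hG : Coh.IsCoh G) (φ : E ⟶ G) {pI pE : ℚ[X]} (hpI : ShStab.IsHilbPoly k Z L (Abelian.image φ) pI)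
    (hpE : ShStab.IsHilbPoly k Z L E pE) : Nonneg (ecross ℓ d pE pI) := by
  obtain ⟨pK, hK, -, hpK, hpI'⟩ := exists_image_data hL hE.1 hG φ hpE (dim_lt_succ_of_pure hE.2.2.1 hE.1)
  rw [H25Euler.hilbPoly_unique hpI hpI', ecross_sub_right]
  exact nonneg_ecross_sub hL hE hK (kernel.ι φ) hpK hpE

theorem ell_eq_zero_of_lt (hL : CohB1.IsAmple L) {F G : Z.Modules} (hF : ShStab.IsEllSemistable k Z L F d ℓ)
    (hG : ShStab.IsEllSemistable k Z L G d ℓ) {pF pG : ℚ[X]} (hpF : ShStab.IsHilbPoly k Z L F pF)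
    (hpG : ShStab.IsHilbPoly k Z L G pG) (hlt : Pos (ecross ℓ d pG pF)) (φ : F ⟶ G) : φ = 0 := by
  by_contra hφ
  obtain ⟨pK, hK, hI, hpK, hpI⟩ := exists_image_data hL hF.1 hG.1 φ hpF (dim_lt_succ_of_pure hF.2.2.1 hF.1)
  have hαI := alpha_pos_of_pure hL (isPure_of_mono hG.2.2.1 (Abelian.image.ι φ)) hI (not_isZero_image hφ) hpI
  exact not_pos_of_nonneg_swap (Nonneg.ecross_trans (alpha_pos_of_pure hL hF.2.2.1 hF.1 hF.2.1 hpF).le hαI
    (alpha_pos_of_pure hL hG.2.2.1 hG.1 hG.2.1 hpG).le (nonneg_ecross_quot hL hF hG.1 φ hpI hpF)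
    (nonneg_ecross_sub hL hG hI (Abelian.image.ι φ) hpI hpG)) hlt

theorem isEllSemistable_congr {G G' : Z.Modules} (e : G ≅ G') (h : ShStab.IsEllSemistable k Z L G d ℓ) :
    ShStab.IsEllSemistable k Z L G' d ℓ := by
  obtain ⟨hc, h0, hp, hss⟩ := h
  refine ⟨H10Coh.isCoh_of_iso e hc, fun h => h0 (h.of_iso e), fun F ι hι hF hF0 => ?_,
    fun F ι hι hF pF pG hpF hpG => ?_⟩
  · haveI := hι
    exact hp F (ι ≫ e.inv) (mono_comp _ _) hF hF0
  · haveI := hι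
    exact hss F (ι ≫ e.inv) (mono_comp _ _) hF pF pG hpF (H25Euler.hilbPoly_congr e.symm hpG)

theorem exists_maximal_above_ell (hL : CohB1.IsAmple L) (hp : ShStab.IsPure Z E d) (hE : Coh.IsCoh E)
    {G : Z.Modules} (g : G ⟶ E) [Mono g] (hG : Coh.IsCoh G) (h0 : ¬ IsZero G) {pG : ℚ[X]}
    (hpG : ShStab.IsHilbPoly k Z L G pG) :
    ∃ (M : Z.Modules) (m : M ⟶ E) (φ : G ⟶ M) (pM : ℚ[X]), Mono m ∧ Coh.IsCoh M ∧ ¬ IsZero M ∧ φ ≫ m = g ∧
      ShStab.IsHilbPoly k Z L M pM ∧ Nonneg (ecross ℓ d pG pM) ∧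
      ∀ (N : Z.Modules) (n : N ⟶ E) (ψ : M ⟶ N) (pN : ℚ[X]), Mono n → Coh.IsCoh N → ψ ≫ n = m →
        ShStab.IsHilbPoly k Z L N pN → ¬ Epi ψ → Pos (ecross ℓ d pN pM) := by
  haveI := isNoetherian_of_ample (Z := Z) k hL
  obtain ⟨M, m, ⟨hm, hM, φ, hφ, pM, hpM, hle⟩, hmax⟩ := LeadDev.exists_maximal_sub E hE
    (fun M m => Mono m ∧ Coh.IsCoh M ∧ ∃ φ : G ⟶ M, φ ≫ m = g ∧ ∃ pM, ShStab.IsHilbPoly k Z L M pM ∧
      Nonneg (ecross ℓ d pG pM))
    (fun N f h => ⟨h.1, h.2.1⟩)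
    ⟨G, g, inferInstance, hG, 𝟙 G, Category.id_comp g, pG, hpG, Nonneg.of_eq_zero (ecross_self _ _ _)⟩
  haveI := hm
  haveI : Mono (φ ≫ m) := by rw [hφ]; infer_instance
  haveI := mono_of_mono φ m
  have hM0 : ¬ IsZero M := fun h => h0 (h.of_mono φ)
  refine ⟨M, m, φ, pM, hm, hM, hM0, hφ, hpM, hle, fun N n ψ pN hn hN hψ hpN hepi => ?_⟩
  haveI := hn
  haveI : Mono (ψ ≫ n) := by rw [hψ]; infer_instance
  haveI := mono_of_mono ψ n
  refine pos_swap_of_not_nonneg fun hle' => hepi (hmax N n ψ ⟨hn, hN, φ ≫ ψ, by rw [Category.assoc, hψ, hφ], pN, hpN,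
    Nonneg.ecross_trans ?_ ?_ ?_ hle hle'⟩ hψ)
  · exact (alpha_pos_of_pure hL (isPure_of_mono hp g) hG h0 hpG).le
  · exact alpha_pos_of_pure hL (isPure_of_mono hp m) hM hM0 hpM
  · exact (alpha_pos_of_pure hL (isPure_of_mono hp n) hN (fun h => hM0 (h.of_mono ψ)) hpN).le

/-- The maximal `ℓ`-destabilising submodule. -/
theorem exists_ellMaxDestab (ℓ : ℕ) (hL : CohB1.IsAmple L) (hE : Coh.IsCoh E) (h0 : ¬ IsZero E)
    (hp : ShStab.IsPure Z E d) :
    ∃ (F : Z.Modules) (ι : F ⟶ E) (pF : ℚ[X]), Mono ι ∧ Coh.IsCoh F ∧ ¬ IsZero F ∧ ShStab.IsHilbPoly k Z L F pF ∧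
      ∀ (G : Z.Modules) (κ : G ⟶ E) (pG : ℚ[X]), Mono κ → Coh.IsCoh G → ShStab.IsHilbPoly k Z L G pG →
        Nonneg (ecross ℓ d pG pF) ∧ (ecross ℓ d pG pF = 0 → ∃ φ : G ⟶ F, φ ≫ ι = κ) := by
  classical
  haveI := isNoetherian_of_ample (Z := Z) k hL
  let Max : ∀ M : Z.Modules, (M ⟶ E) → ℚ[X] → Prop := fun M m pM =>
    Mono m ∧ Coh.IsCoh M ∧ ¬ IsZero M ∧ ShStab.IsHilbPoly k Z L M pM ∧
      ∀ (N : Z.Modules) (n : N ⟶ E) (ψ : M ⟶ N) (pN : ℚ[X]), Mono n → Coh.IsCoh N → ψ ≫ n = m →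
        ShStab.IsHilbPoly k Z L N pN → ¬ Epi ψ → Pos (ecross ℓ d pN pM)
  have hnat : ∀ M m pM, Max M m pM → ∃ n : ℕ, alpha d pM = n := by
    rintro M m pM ⟨hm, hM, hM0, hpM, -⟩
    haveI := hm
    obtain ⟨z, hz⟩ := exists_int_alpha_hilb hL (isPure_of_mono hp m) hM hpM
    have hpos := alpha_pos_of_pure hL (isPure_of_mono hp m) hM hM0 hpM
    rw [hz, Int.cast_pos] at hpos
    obtain ⟨n, rfl⟩ := Int.eq_ofNat_of_zero_le hpos.le
    exact ⟨n, by rw [hz]; norm_cast⟩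
  have hex : ∃ n : ℕ, ∃ M m pM, Max M m pM ∧ alpha d pM = n := by
    obtain ⟨pE, hpE⟩ := exists_hilb_self (k := k) hL hp hE
    obtain ⟨M, m, φ, pM, hm, hM, hM0, -, hpM, -, hmax⟩ := exists_maximal_above_ell (ℓ := ℓ) hL hp hE (𝟙 E) hE h0 hpE
    obtain ⟨n, hn⟩ := hnat M m pM ⟨hm, hM, hM0, hpM, hmax⟩
    exact ⟨n, M, m, pM, ⟨hm, hM, hM0, hpM, hmax⟩, hn⟩
  obtain ⟨M, m, pM, ⟨hm, hM, hM0, hpM, hmax⟩, hαM⟩ := Nat.find_spec hex
  haveI := hm
  have hMp := isPure_of_mono hp m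
  have hαpos := alpha_pos_of_pure hL hMp hM hM0 hpM
  have keyA : ∀ (G : Z.Modules) (g : G ⟶ E) (φ : G ⟶ M) (pG : ℚ[X]), Mono g → Coh.IsCoh G →
      φ ≫ m = g → ShStab.IsHilbPoly k Z L G pG → Nonneg (ecross ℓ d pG pM) := by
    by_contra hbad
    push Not at hbad
    obtain ⟨G, g, ⟨hg, hG, hG0, φ, hφ, pG, hpG, hlt⟩, hGmax⟩ := LeadDev.exists_maximal_sub E hE
      (fun G g => Mono g ∧ Coh.IsCoh G ∧ ¬ IsZero G ∧ ∃ φ : G ⟶ M, φ ≫ m = g ∧ ∃ pG,
        ShStab.IsHilbPoly k Z L G pG ∧ Pos (ecross ℓ d pM pG)) (fun G g h => ⟨h.1, h.2.1⟩)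
      (by
        obtain ⟨G, g, φ, pG, hg, hG, hφ, hpG, hn⟩ := hbad
        refine ⟨G, g, hg, hG, fun h => hn ?_, φ, hφ, pG, hpG, pos_swap_of_not_nonneg hn⟩
        rw [H25Euler.hilbPoly_unique hpG (H25Euler.hilbPoly_zero h), ecross_zero_left]
        exact Nonneg.of_eq_zero rfl)
    haveI := hg
    obtain ⟨G', g', ξ, pG', hg', hG', hG'0, hξ, hpG', hle, hG'max⟩ :=
      exists_maximal_above_ell (ℓ := ℓ) hL hp hE g hG hG0 hpG
    haveI := hg'
    have hαG := alpha_pos_of_pure hL (isPure_of_mono hp g) hG hG0 hpG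
    have hαG' := alpha_pos_of_pure hL (isPure_of_mono hp g') hG' hG'0 hpG'
    have hlt' : Pos (ecross ℓ d pM pG') := Pos.ecross_trans_lt_le hαpos.le hαG hαG' hlt hle
    obtain ⟨S, K, s, a, b, c, κ, pK, hs, hS, has, hbs, hc, hκ, hK, hcκ, huniv, hpK, hpS⟩ :=
      exists_sum hL hp hE m g' hM hG' hpM hpG'
    haveI := hs
    by_cases hae : Epi a
    · haveI : Mono (a ≫ s) := by rw [has]; infer_instance
      haveI := mono_of_mono a s
      haveI := isIso_of_mono_of_epi a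
      let φ' : G' ⟶ M := b ≫ inv a
      have hφ' : φ' ≫ m = g' := by rw [← has, Category.assoc, IsIso.inv_hom_id_assoc, hbs]
      haveI : Mono (φ' ≫ m) := by rw [hφ']; infer_instance
      haveI := mono_of_mono φ' m
      have hle' := alpha_le_of_mono hL hMp hM hG' φ' hpG' hpM
      obtain ⟨n, hn⟩ := hnat G' g' pG' ⟨hg', hG', hG'0, hpG', hG'max⟩
      have hge := Nat.find_min' hex ⟨G', g', pG', ⟨hg', hG', hG'0, hpG', hG'max⟩, hn⟩
      have heq : alpha d pG' = alpha d pM := le_antisymm hle' (by rw [hαM, hn]; exact_mod_cast hge)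
      exact not_pos_of_nonneg_swap (nonneg_ecross_of_alpha_eq hL hMp hM hG' φ' hpG' hpM heq) hlt'
    · have h₁ : Pos (ecross ℓ d (pM + pG' - pK) pM) := hmax S s a _ hs hS has hpS hae
      rw [ecross_sub, ecross_add, ecross_self, zero_add] at h₁
      have h₃ : Pos (ecross ℓ d pM pK) := by
        have e : ecross ℓ d pM pK = ecross ℓ d pG' pM - ecross ℓ d pK pM + ecross ℓ d pM pG' := by
          rw [ecross_swap ℓ d pM pG', ecross_swap ℓ d pM pK]
          abel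
        exact e ▸ h₁.add hlt'.nonneg
      have hK0 : ¬ IsZero K := fun h => by
        rw [H25Euler.hilbPoly_unique hpK (H25Euler.hilbPoly_zero h), ecross_swap, ecross_zero_left, neg_zero] at h₃
        exact not_pos_zero h₃
      haveI := hc
      haveI := hκ
      haveI : Mono (c ≫ m) := mono_comp c m
      have hαK := alpha_pos_of_pure hL (isPure_of_mono hp (c ≫ m)) hK hK0 hpK
      have hαle := alpha_le_of_mono hL (isPure_of_mono hp g') hG' hK κ hpK hpG'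
      have h₄ : Pos (ecross ℓ d pG' pK) := by
        refine Pos.of_smul ?_ hαpos
        have e : alpha d pM • ecross ℓ d pG' pK =
            (alpha d pG' - alpha d pK) • ecross ℓ d pM pG' +
              alpha d pG' • (ecross ℓ d pG' pM - ecross ℓ d pK pM) := by
          rw [Stab.ecross_trans ℓ d pG' pM pK, ecross_swap ℓ d pM pG', ecross_swap ℓ d pM pK, sub_smul, smul_sub,
            smul_neg, smul_neg, smul_neg]
          abel
        rw [e]
        exact Pos.add_right (hlt'.nonneg.smul (sub_nonneg.2 hαle)) (h₁.smul hαG')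
      have h₅ : Pos (ecross ℓ d pG pK) := Pos.ecross_trans_le_lt hαG hαG' hαK.le hle h₄
      obtain ⟨z, -, hz⟩ := huniv G φ ξ (hφ.trans hξ.symm)
      have hzg : z ≫ (c ≫ m) = g := by rw [← Category.assoc, hz, hφ]
      have hepi : Epi z := hGmax K (c ≫ m) z ⟨inferInstance, hK, hK0, c, rfl, pK, hpK, h₃⟩ hzg
      haveI : Mono (z ≫ (c ≫ m)) := by rw [hzg]; infer_instance
      haveI := mono_of_mono z (c ≫ m)
      haveI := isIso_of_mono_of_epi z
      rw [H25Euler.hilbPoly_unique hpG (H25Euler.hilbPoly_congr (asIso z).symm hpK), ecross_self] at h₅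
      exact not_pos_zero h₅
  refine ⟨M, m, pM, hm, hM, hM0, hpM, fun G g pG hg hG hpG => ?_⟩
  haveI := hg
  obtain ⟨S, K, s, a, b, c, κ, pK, hs, hS, has, hbs, hc, hκ, hK, hcκ, -, hpK, hpS⟩ :=
    exists_sum hL hp hE m g hM hG hpM hpG
  haveI := hs
  by_cases hae : Epi a
  · haveI : Mono (a ≫ s) := by rw [has]; infer_instance
    haveI := mono_of_mono a s
    haveI := isIso_of_mono_of_epi a
    have hφ : (b ≫ inv a) ≫ m = g := by rw [← has, Category.assoc, IsIso.inv_hom_id_assoc, hbs]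
    exact ⟨keyA G g _ pG hg hG hφ hpG, fun _ => ⟨_, hφ⟩⟩
  · haveI := hc
    have hK' : Nonneg (ecross ℓ d pK pM) := keyA K (c ≫ m) c pK (mono_comp c m) hK rfl hpK
    have h₁ : Pos (ecross ℓ d (pM + pG - pK) pM) := hmax S s a _ hs hS has hpS hae
    rw [ecross_sub, ecross_add, ecross_self, zero_add] at h₁
    have h₂ : Pos (ecross ℓ d pG pM) := by simpa using h₁.add hK'
    exact ⟨h₂.nonneg, fun h => absurd h₂ (not_pos_of_eq_zero h)⟩

end Groth.Agent.H10Coh.Stab
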