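import Groth.Agent.H10Coh.Stab.JHUnique

/-!
# Kernels and cokernels between semistable sheaves with the same reduced polynomial
-/

set_option autoImplicit false
set_option linter.style.haveILetI false
set_option linter.unusedSectionVars false

universe u

open CategoryTheory CategoryTheory.Limits AlgebraicGeometry Opposite TopologicalSpace Polynomial

namespace Groth.Agent.H10Coh.Stab

open StabCat

variable {k : Type u} [Field k] {Z : Scheme.{u}} [Z.Over (Spec (CommRingCat.of k))]
  [IsProper (Z ↘ Spec (CommRingCat.of k))] {L E F : Z.Modules} {d : ℕ}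

theorem kernel_cokernel_isSemistable (hL : CohB1.IsAmple L) (hE : ShStab.IsSemistable k Z L E d)
    (hF : ShStab.IsSemistable k Z L F d) {pE pF : ℚ[X]} (hpE : ShStab.IsHilbPoly k Z L E pE)
    (hpF : ShStab.IsHilbPoly k Z L F pF) (hred : RedEq d pE pF) (f : E ⟶ F) :
    (IsZero (kernel f) ∨ (ShStab.IsSemistable k Z L (kernel f) d ∧
        ∀ pK : ℚ[X], ShStab.IsHilbPoly k Z L (kernel f) pK → RedEq d pK pE)) ∧
    (IsZero (cokernel f) ∨ (ShStab.IsSemistable k Z L (cokernel f) d ∧
        ∀ pQ : ℚ[X], ShStab.IsHilbPoly k Z L (cokernel f) pQ → RedEq d pQ pE)) := by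
  obtain ⟨pK, hK, hI, hpK, hpI⟩ := exists_image_data hL hE.1 hF.1 f hpE (dim_lt_succ_of_pure hE.2.2.1 hE.1)
  have hαF := alpha_pos_of_pure hL hF.2.2.1 hF.1 hF.2.1 hpF
  have hαE := alpha_pos_of_pure hL hE.2.2.1 hE.1 hE.2.1 hpE
  have hEF : cross d pE pF = 0 := redEq_iff.1 hred
  have h₁ := nonneg_cross_sub hL hE hpE (kernel.ι f) hK hpK
  have h₂ : Nonneg (cross d (pE - pK) pF) := nonneg_cross_sub hL hF hpF (Abelian.image.ι f) hI hpI
  have h₃ : Nonneg (-(cross d pK pF)) := by rwa [cross_sub, hEF, zero_sub] at h₂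
  have htr := cross_trans d pK pE pF
  rw [hEF, smul_zero, add_zero] at htr
  have h₄ : cross d pK pF = 0 := by
    refine eq_zero_of_nonneg_neg ((Nonneg.of_smul ?_ hαE)) h₃
    rw [htr]; exact h₁.smul hαF.le
  have h₅ : cross d pK pE = 0 := by
    rw [h₄, smul_zero] at htr
    exact (smul_eq_zero.1 htr.symm).resolve_left hαF.ne'
  constructor
  · by_cases h0 : IsZero (kernel f)
    · exact Or.inl h0
    · exact Or.inr ⟨isSemistable_sub hL hE (kernel.ι f) hK h0 hpK hpE h₅,
        fun p hp => redEq_iff.2 (H25Euler.hilbPoly_unique hpK hp ▸ h₅)⟩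
  · by_cases h0 : IsZero (cokernel f)
    · exact Or.inl h0
    · let e : cokernel (Abelian.image.ι f) ≅ cokernel f :=
        (cokernelEpiComp (Abelian.factorThruImage f) (Abelian.image.ι f)).symm ≪≫ cokernelIsoOfEq (Abelian.image.fac f)
      obtain ⟨hQ, hxQ⟩ := isSemistable_quot hL hF (Abelian.image.ι f) hI (fun h => h0 (h.of_iso e.symm)) hpI hpF
        (by rw [cross_sub, hEF, h₄, sub_zero])
      refine Or.inr ⟨isSemistable_congr e hQ, fun p hp => redEq_iff.2 (cross_eq_zero_trans hαF.ne' ?_ ?_)⟩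
      · rw [H25Euler.hilbPoly_unique hp (H25Euler.hilbPoly_congr e
          (H25Euler.polyLE_of_mono hL hI hF.1 (Abelian.image.ι f) hpI hpF).2)]
        exact hxQ
      · rw [cross_swap, hEF, neg_zero]

end Groth.Agent.H10Coh.Stab
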