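import Groth.Prelude.Def_StabCat
import Groth.Agent.H25Euler.ParSh

/-!
# Cross-multiplied comparison of reduced polynomials
-/

set_option autoImplicit false

open Polynomial Filter

namespace Groth.Agent.H10Coh.Stab

open StabCat

/-- Eventually nonnegative at natural numbers. -/
def Nonneg (P : ℚ[X]) : Prop := ∃ N : ℕ, ∀ m, N ≤ m → 0 ≤ P.eval (m : ℚ)

/-- Eventually positive at natural numbers. -/
def Pos (P : ℚ[X]) : Prop := ∃ N : ℕ, ∀ m, N ≤ m → 0 < P.eval (m : ℚ)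

theorem pos_of_leadingCoeff_pos {P : ℚ[X]} (h : 0 < P.leadingCoeff) : Pos P := by
  rcases Nat.eq_zero_or_pos P.natDegree with hd | hd
  · refine ⟨0, fun m _ => ?_⟩
    rw [eq_C_of_natDegree_eq_zero hd, eval_C]
    rwa [leadingCoeff, hd] at h
  · have ht := (Polynomial.tendsto_atTop_of_leadingCoeff_nonneg P
      (by rw [degree_eq_natDegree (by rintro rfl; simp at h)]; exact_mod_cast hd) h.le).comp tendsto_natCast_atTop_atTop
    obtain ⟨M, hM⟩ := eventually_atTop.1 (ht.eventually (eventually_gt_atTop (0 : ℚ)))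
    exact ⟨M, hM⟩

theorem Pos.nonneg {P : ℚ[X]} (h : Pos P) : Nonneg P := h.imp fun _ hN m hm => (hN m hm).le

theorem not_pos_zero : ¬ Pos 0 := fun ⟨N, hN⟩ => by simpa using hN N le_rfl

theorem Nonneg.eq_zero_or_pos {P : ℚ[X]} (h : Nonneg P) : P = 0 ∨ Pos P := by
  by_cases h0 : P = 0
  · exact .inl h0
  refine .inr (pos_of_leadingCoeff_pos (lt_of_le_of_ne ?_ (Ne.symm (leadingCoeff_ne_zero.2 h0))))
  exact H25Euler.coeff_nonneg_of_eventually (fun n hn => coeff_eq_zero_of_natDegree_lt hn) h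

theorem pos_iff {P : ℚ[X]} : Pos P ↔ 0 < P.leadingCoeff := by
  refine ⟨fun h => lt_of_le_of_ne ?_ (Ne.symm (leadingCoeff_ne_zero.2 fun h0 => not_pos_zero (h0 ▸ h))), pos_of_leadingCoeff_pos⟩
  exact H25Euler.coeff_nonneg_of_eventually (fun n hn => coeff_eq_zero_of_natDegree_lt hn) h.nonneg

theorem Nonneg.add {P Q : ℚ[X]} (hP : Nonneg P) (hQ : Nonneg Q) : Nonneg (P + Q) := by
  obtain ⟨N, hN⟩ := hP
  obtain ⟨M, hM⟩ := hQ
  exact ⟨max N M, fun m hm => by
    rw [eval_add]; exact add_nonneg (hN m ((le_max_left _ _).trans hm)) (hM m ((le_max_right _ _).trans hm))⟩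

theorem Pos.add {P Q : ℚ[X]} (hP : Pos P) (hQ : Nonneg Q) : Pos (P + Q) := by
  obtain ⟨N, hN⟩ := hP
  obtain ⟨M, hM⟩ := hQ
  exact ⟨max N M, fun m hm => by
    rw [eval_add]; exact add_pos_of_pos_of_nonneg (hN m ((le_max_left _ _).trans hm)) (hM m ((le_max_right _ _).trans hm))⟩

theorem Pos.add_right {P Q : ℚ[X]} (hP : Nonneg P) (hQ : Pos Q) : Pos (P + Q) := add_comm Q P ▸ hQ.add hP

theorem Nonneg.smul {P : ℚ[X]} (h : Nonneg P) {c : ℚ} (hc : 0 ≤ c) : Nonneg (c • P) :=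
  h.imp fun _ hN m hm => by rw [eval_smul, smul_eq_mul]; exact mul_nonneg hc (hN m hm)

theorem Pos.smul {P : ℚ[X]} (h : Pos P) {c : ℚ} (hc : 0 < c) : Pos (c • P) :=
  h.imp fun _ hN m hm => by rw [eval_smul, smul_eq_mul]; exact mul_pos hc (hN m hm)

theorem Nonneg.of_smul {P : ℚ[X]} {c : ℚ} (h : Nonneg (c • P)) (hc : 0 < c) : Nonneg P :=
  h.imp fun _ hN m hm => by
    have := hN m hm
    rw [eval_smul, smul_eq_mul] at this
    exact nonneg_of_mul_nonneg_right this hc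

theorem Pos.of_smul {P : ℚ[X]} {c : ℚ} (h : Pos (c • P)) (hc : 0 < c) : Pos P :=
  h.imp fun _ hN m hm => by
    have := hN m hm
    rw [eval_smul, smul_eq_mul] at this
    exact (mul_pos_iff_of_pos_left hc).1 this

theorem not_pos_of_nonneg_neg {P : ℚ[X]} (h : Nonneg (-P)) : ¬ Pos P := fun hp => by
  have := hp.add h
  rw [add_neg_cancel] at this
  exact not_pos_zero this

theorem eq_zero_of_nonneg_neg {P : ℚ[X]} (h : Nonneg P) (h' : Nonneg (-P)) : P = 0 :=
  h.eq_zero_or_pos.resolve_right (not_pos_of_nonneg_neg h')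

/-- The cross difference of two polynomials in dimension `d`. -/
noncomputable def cross (d : ℕ) (P Q : ℚ[X]) : ℚ[X] := alpha d P • Q - alpha d Q • P

theorem redLE_iff {d : ℕ} {P Q : ℚ[X]} : RedLE d P Q ↔ Nonneg (cross d P Q) := by
  simp only [RedLE, PolyLE, Nonneg, cross, eval_sub, sub_nonneg]

theorem redLT_iff {d : ℕ} {P Q : ℚ[X]} : RedLT d P Q ↔ Pos (cross d P Q) := by
  simp only [RedLT, PolyLT, Pos, cross, eval_sub, sub_pos]

theorem redEq_iff {d : ℕ} {P Q : ℚ[X]} : RedEq d P Q ↔ cross d P Q = 0 := by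
  rw [cross, sub_eq_zero, RedEq, eq_comm]

theorem cross_swap (d : ℕ) (P Q : ℚ[X]) : cross d Q P = -cross d P Q := (neg_sub _ _).symm

theorem cross_self (d : ℕ) (P : ℚ[X]) : cross d P P = 0 := sub_self _

theorem alpha_add (d : ℕ) (P Q : ℚ[X]) : alpha d (P + Q) = alpha d P + alpha d Q := by
  simp [alpha, mul_add]

theorem alpha_sub (d : ℕ) (P Q : ℚ[X]) : alpha d (P - Q) = alpha d P - alpha d Q := by
  simp [alpha, mul_sub]

/-- The seesaw identity. -/
theorem cross_add_left (d : ℕ) (K I : ℚ[X]) : cross d K (K + I) = -cross d I (K + I) := by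
  simp only [cross, alpha_add, add_smul, smul_add]
  abel

/-- The cocycle identity behind transitivity. -/
theorem cross_trans (d : ℕ) (P Q R : ℚ[X]) :
    alpha d Q • cross d P R = alpha d R • cross d P Q + alpha d P • cross d Q R := by
  simp only [cross, smul_sub, smul_smul]
  rw [mul_comm (alpha d Q) (alpha d P), mul_comm (alpha d R) (alpha d P), mul_comm (alpha d R) (alpha d Q)]
  abel

theorem redLE_trans {d : ℕ} {P Q R : ℚ[X]} (hP : 0 ≤ alpha d P) (hQ : 0 < alpha d Q) (hR : 0 ≤ alpha d R)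
    (h₁ : RedLE d P Q) (h₂ : RedLE d Q R) : RedLE d P R := by
  rw [redLE_iff] at h₁ h₂ ⊢
  refine Nonneg.of_smul ?_ hQ
  rw [cross_trans]
  exact (h₁.smul hR).add (h₂.smul hP)

theorem redLT_of_le_of_lt {d : ℕ} {P Q R : ℚ[X]} (hP : 0 < alpha d P) (hQ : 0 < alpha d Q) (hR : 0 ≤ alpha d R)
    (h₁ : RedLE d P Q) (h₂ : RedLT d Q R) : RedLT d P R := by
  rw [redLE_iff] at h₁
  rw [redLT_iff] at h₂ ⊢
  refine Pos.of_smul ?_ hQ
  rw [cross_trans]
  exact Pos.add_right (h₁.smul hR) (h₂.smul hP)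

theorem redLT_of_lt_of_le {d : ℕ} {P Q R : ℚ[X]} (hP : 0 ≤ alpha d P) (hQ : 0 < alpha d Q) (hR : 0 < alpha d R)
    (h₁ : RedLT d P Q) (h₂ : RedLE d Q R) : RedLT d P R := by
  rw [redLE_iff] at h₂
  rw [redLT_iff] at h₁ ⊢
  refine Pos.of_smul ?_ hQ
  rw [cross_trans]
  exact (h₁.smul hR).add (h₂.smul hP)

theorem not_redLT_of_redLE {d : ℕ} {P Q : ℚ[X]} (h : RedLE d P Q) : ¬ RedLT d Q P := by
  rw [redLT_iff, cross_swap]
  rw [redLE_iff] at h
  exact not_pos_of_nonneg_neg (by rwa [neg_neg])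

theorem redEq_of_redLE {d : ℕ} {P Q : ℚ[X]} (h : RedLE d P Q) (h' : RedLE d Q P) : RedEq d P Q := by
  rw [redLE_iff] at h h'
  rw [redEq_iff]
  exact eq_zero_of_nonneg_neg h (by rwa [← cross_swap])

theorem redLE_of_redEq {d : ℕ} {P Q : ℚ[X]} (h : RedEq d P Q) : RedLE d P Q := by
  rw [redLE_iff, redEq_iff.1 h]
  exact ⟨0, fun m _ => by simp⟩

theorem redEq_symm {d : ℕ} {P Q : ℚ[X]} (h : RedEq d P Q) : RedEq d Q P := by
  rw [redEq_iff, cross_swap, redEq_iff.1 h, neg_zero]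

theorem redEq_refl (d : ℕ) (P : ℚ[X]) : RedEq d P P := rfl

/-- The seesaw property. -/
theorem redLE_sub_left {d : ℕ} {K F : ℚ[X]} (h : RedLE d K F) : RedLE d F (F - K) := by
  rw [redLE_iff] at h ⊢
  have e := cross_add_left d K (F - K)
  rw [add_sub_cancel] at e
  rwa [cross_swap d (F - K) F, ← e]

theorem redLT_sub_left {d : ℕ} {K F : ℚ[X]} (h : RedLT d K F) : RedLT d F (F - K) := by
  rw [redLT_iff] at h ⊢
  have e := cross_add_left d K (F - K)
  rw [add_sub_cancel] at e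
  rwa [cross_swap d (F - K) F, ← e]

/-- The coefficients of a truncation. -/
theorem coeff_topPart (ℓ d : ℕ) (P : ℚ[X]) (n : ℕ) :
    (topPart ℓ d P).coeff n = if n ∈ Finset.Icc (d - ℓ) d then P.coeff n else 0 := by
  rw [topPart, finsetSum_coeff]
  simp only [coeff_monomial]
  rw [Finset.sum_ite_eq' (Finset.Icc (d - ℓ) d) n fun i => P.coeff i]

theorem alpha_topPart (ℓ d : ℕ) (P : ℚ[X]) : alpha d (topPart ℓ d P) = alpha d P := by
  rw [alpha, alpha, coeff_topPart, if_pos (Finset.mem_Icc.2 ⟨Nat.sub_le d ℓ, le_rfl⟩)]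

theorem topPart_self {d : ℕ} {P : ℚ[X]} (h : ∀ n, d < n → P.coeff n = 0) : topPart d d P = P := by
  ext n
  rw [coeff_topPart, Nat.sub_self]
  by_cases hn : n ≤ d
  · rw [if_pos (Finset.mem_Icc.2 ⟨Nat.zero_le n, hn⟩)]
  · rw [if_neg (fun hc => hn (Finset.mem_Icc.1 hc).2), h n (Nat.lt_of_not_le hn)]

theorem cross_topPart (ℓ d : ℕ) (P Q : ℚ[X]) :
    cross d (topPart ℓ d P) (topPart ℓ d Q) = topPart ℓ d (cross d P Q) := by
  ext n
  simp only [cross, coeff_sub, coeff_smul, alpha_topPart, coeff_topPart, smul_eq_mul]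
  split_ifs <;> ring

theorem coeff_cross_above {d : ℕ} {P Q : ℚ[X]} (hP : ∀ n, d < n → P.coeff n = 0) (hQ : ∀ n, d < n → Q.coeff n = 0)
    (n : ℕ) (hn : d ≤ n) : (cross d P Q).coeff n = 0 := by
  rcases hn.lt_or_eq with hn | rfl
  · simp [cross, hP n hn, hQ n hn]
  · simp [cross, alpha]; ring

/-- Truncation keeps a polynomial of degree at most `d` eventually nonnegative. -/
theorem Nonneg.topPart {ℓ d : ℕ} {R : ℚ[X]} (h : Nonneg R) (hR : ∀ n, d < n → R.coeff n = 0) :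
    Nonneg (StabCat.topPart ℓ d R) := by
  rcases h.eq_zero_or_pos with rfl | hp
  · exact ⟨0, fun m _ => by simp [StabCat.topPart]⟩
  have hl := pos_iff.1 hp
  have hd : R.natDegree ≤ d := natDegree_le_iff_coeff_eq_zero.2 hR
  by_cases hmem : d - ℓ ≤ R.natDegree
  · refine (pos_of_leadingCoeff_pos ?_).nonneg
    have hc : (StabCat.topPart ℓ d R).coeff R.natDegree = R.leadingCoeff := by
      rw [coeff_topPart, if_pos (Finset.mem_Icc.2 ⟨hmem, hd⟩)]; rfl
    have hdeg : (StabCat.topPart ℓ d R).natDegree = R.natDegree := by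
      refine le_antisymm (natDegree_le_iff_coeff_eq_zero.2 fun n hn => ?_) (le_natDegree_of_ne_zero (by rw [hc]; exact hl.ne'))
      rw [coeff_topPart, coeff_eq_zero_of_natDegree_lt hn]
      simp
    rwa [leadingCoeff, hdeg, hc]
  · refine ⟨0, fun m _ => ?_⟩
    rw [show StabCat.topPart ℓ d R = 0 from ext fun n => ?_, eval_zero]
    rw [coeff_topPart, coeff_zero]
    split_ifs with hn
    · exact coeff_eq_zero_of_natDegree_lt (lt_of_lt_of_le (not_le.1 hmem) (Finset.mem_Icc.1 hn).1)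
    · rfl

theorem redLE_topPart {ℓ d : ℕ} {P Q : ℚ[X]} (hP : ∀ n, d < n → P.coeff n = 0) (hQ : ∀ n, d < n → Q.coeff n = 0)
    (h : RedLE d P Q) : RedLE d (StabCat.topPart ℓ d P) (StabCat.topPart ℓ d Q) := by
  rw [redLE_iff] at h ⊢
  rw [cross_topPart]
  exact h.topPart fun n hn => coeff_cross_above hP hQ n hn.le

theorem hatSlope_le_of_redLE {d : ℕ} (hd : 1 ≤ d) {P Q : ℚ[X]} (hP : ∀ n, d < n → P.coeff n = 0)
    (hQ : ∀ n, d < n → Q.coeff n = 0) (hPa : 0 < alpha d P) (hQa : 0 < alpha d Q) (h : RedLE d P Q) :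
    hatSlope d P ≤ hatSlope d Q := by
  rw [redLE_iff] at h
  have hc := H25Euler.coeff_nonneg_of_eventually (e := d - 1)
    (fun n hn => coeff_cross_above hP hQ n (by omega)) h
  rw [hatSlope, hatSlope, div_le_div_iff₀ hPa hQa]
  simp only [cross, coeff_sub, coeff_smul, smul_eq_mul] at hc
  have h' := mul_nonneg (show (0 : ℚ) ≤ ((d - 1).factorial : ℚ) by positivity) hc
  rw [mul_sub] at h'
  simp only [alpha] at h' ⊢
  nlinarith

end Groth.Agent.H10Coh.Stab
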