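import Groth.Agent.H10Coh.Stab.Degree
import Groth.Agent.H10Coh.Stab.PolyOrder
import Groth.Agent.H25Euler.ParOne

/-!
# Morphisms between semistable sheaves
-/

set_option autoImplicit false
set_option linter.style.haveILetI false
set_option linter.unusedSectionVars false

universe u

open CategoryTheory CategoryTheory.Limits AlgebraicGeometry Opposite TopologicalSpace Polynomial

namespace Groth.Agent.H10Coh.Stab

open StabCat

variable {k : Type u} [Field k] {Z : Scheme.{u}} [Z.Over (Spec (CommRingCat.of k))]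
  [IsProper (Z ↘ Spec (CommRingCat.of k))] {L : Z.Modules}

theorem isLocallyNoetherian_of_proper (k : Type u) [Field k] [Z.Over (Spec (CommRingCat.of k))]
    [IsProper (Z ↘ Spec (CommRingCat.of k))] : IsLocallyNoetherian Z :=
  LocallyOfFiniteType.isLocallyNoetherian (Z ↘ Spec (CommRingCat.of k))

theorem support_eq_empty_of_isZero {M : Z.Modules} (hM : IsZero M) : CohB1.support M = ∅ :=
  Set.eq_empty_iff_forall_notMem.2 fun x =>
    (H25Euler.notMem_support_iff M x).2 ((DerSch.stalkFunctor Z x).map_isZero hM)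

theorem lt_succ_of_dim_eq {Y : Type*} [TopologicalSpace Y] {d : ℕ} (h : topologicalKrullDim Y = (d : WithBot ℕ∞)) :
    topologicalKrullDim Y < ((d + 1 : ℕ) : WithBot ℕ∞) := h ▸ (by exact_mod_cast Nat.lt_succ_self d)

section data

variable {E : Z.Modules} {d : ℕ}

theorem dim_self_of_pure (hp : ShStab.IsPure Z E d) (hE : Coh.IsCoh E) (h0 : ¬ IsZero E) :
    topologicalKrullDim (CohB1.support E) = (d : WithBot ℕ∞) :=
  hp E (𝟙 E) inferInstance hE h0

theorem isPure_of_mono (hp : ShStab.IsPure Z E d) {F : Z.Modules} (ι : F ⟶ E) [Mono ι] : ShStab.IsPure Z F d :=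
  fun G κ hκ hG h0 => haveI := hκ; hp G (κ ≫ ι) inferInstance hG h0

theorem dim_lt_succ_of_pure (hp : ShStab.IsPure Z E d) (hE : Coh.IsCoh E) :
    topologicalKrullDim (CohB1.support E) < ((d + 1 : ℕ) : WithBot ℕ∞) := by
  by_cases h0 : IsZero E
  · exact H25Euler.dim_support_of_isZero h0 _
  · exact lt_succ_of_dim_eq (dim_self_of_pure hp hE h0)

theorem coeff_above (hL : CohB1.IsAmple L) (hp : ShStab.IsPure Z E d) (hE : Coh.IsCoh E) {P : ℚ[X]}
    (hP : ShStab.IsHilbPoly k Z L E P) (n : ℕ) (hn : d < n) : P.coeff n = 0 :=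
  H25Euler.coeff_hilbPoly_eq_zero hL hE hP (dim_lt_succ_of_pure hp hE) hn

theorem alpha_pos (hL : CohB1.IsAmple L) (hE : Coh.IsCoh E)
    (hd : topologicalKrullDim (CohB1.support E) = (d : WithBot ℕ∞)) {P : ℚ[X]}
    (hP : ShStab.IsHilbPoly k Z L E P) : 0 < alpha d P :=
  mul_pos (by exact_mod_cast d.factorial_pos) (degree_hilbPoly hL hE hd hP).2.2

theorem alpha_pos_of_pure (hL : CohB1.IsAmple L) (hp : ShStab.IsPure Z E d) (hE : Coh.IsCoh E) (h0 : ¬ IsZero E)
    {P : ℚ[X]} (hP : ShStab.IsHilbPoly k Z L E P) : 0 < alpha d P :=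
  alpha_pos hL hE (dim_self_of_pure hp hE h0) hP

theorem exists_hilb_of_mono (hL : CohB1.IsAmple L) (hp : ShStab.IsPure Z E d) (hE : Coh.IsCoh E) {F : Z.Modules}
    (ι : F ⟶ E) [Mono ι] (hF : Coh.IsCoh F) : ∃ P : ℚ[X], ShStab.IsHilbPoly k Z L F P :=
  H25Euler.exists_hilbPoly hL hF (H25Euler.dim_lt_of_subset (H25Euler.support_subset_of_mono ι)
    (dim_lt_succ_of_pure hp hE))

theorem hilbPoly_pos (hL : CohB1.IsAmple L) (hE : Coh.IsCoh E) (h0 : ¬ IsZero E) {P : ℚ[X]}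
    (hP : ShStab.IsHilbPoly k Z L E P) : Pos P :=
  (Nonneg.eq_zero_or_pos (H25Euler.eval_nonneg hL hE hP)).resolve_left (hilbPoly_ne_zero hL hE h0 hP)

theorem isZero_of_hilbPoly_zero (hL : CohB1.IsAmple L) (hE : Coh.IsCoh E)
    (hP : ShStab.IsHilbPoly k Z L E 0) : IsZero E :=
  by_contra fun h => hilbPoly_ne_zero hL hE h hP rfl

/-- A monomorphism with equal Hilbert polynomials is an isomorphism. -/
theorem isIso_of_mono_of_eq (hL : CohB1.IsAmple L) {F : Z.Modules} (hF : Coh.IsCoh F) (hE : Coh.IsCoh E) (ι : F ⟶ E)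
    [Mono ι] {P : ℚ[X]} (hPF : ShStab.IsHilbPoly k Z L F P) (hPE : ShStab.IsHilbPoly k Z L E P) : IsIso ι := by
  have hC := (H25Euler.polyLE_of_mono hL hF hE ι hPF hPE).2
  rw [sub_self] at hC
  haveI := isLocallyNoetherian_of_proper (Z := Z) k
  haveI : Epi ι := Preadditive.epi_of_isZero_cokernel _ (isZero_of_hilbPoly_zero hL (H10Coh.isCoh_cokernel ι hF.1 hE) hC)
  exact isIso_of_mono_of_epi ι

/-- The Hilbert polynomials of the kernel and image of a morphism. -/
theorem exists_image_data (hL : CohB1.IsAmple L) {F G : Z.Modules} (hF : Coh.IsCoh F) (hG : Coh.IsCoh G) (φ : F ⟶ G)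
    {pF : ℚ[X]} (hpF : ShStab.IsHilbPoly k Z L F pF) {n : ℕ}
    (hn : topologicalKrullDim (CohB1.support F) < (n : WithBot ℕ∞)) :
    ∃ pK : ℚ[X], Coh.IsCoh (kernel φ) ∧ Coh.IsCoh (Abelian.image φ) ∧
      ShStab.IsHilbPoly k Z L (kernel φ) pK ∧ ShStab.IsHilbPoly k Z L (Abelian.image φ) (pF - pK) := by
  haveI := isLocallyNoetherian_of_proper (Z := Z) k
  have hK : Coh.IsCoh (kernel φ) := H10Coh.isCoh_kernel φ hF hG.1
  obtain ⟨pK, hpK⟩ := H25Euler.exists_hilbPoly (k := k) hL hK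
    (H25Euler.dim_lt_of_subset (H25Euler.support_subset_of_mono (kernel.ι φ)) hn)
  have hC := H10Coh.isCoh_cokernel φ hF.1 hG
  exact ⟨pK, hK, H10Coh.isCoh_kernel (cokernel.π φ) hG hC.1, hpK,
    H25Euler.hilbPoly_congr (Abelian.coimageIsoImage φ) (H25Euler.polyLE_of_mono hL hK hF (kernel.ι φ) hpK hpF).2⟩

theorem not_isZero_image {F G : Z.Modules} {φ : F ⟶ G} (hφ : φ ≠ 0) : ¬ IsZero (Abelian.image φ) := fun h =>
  hφ (by rw [← Abelian.image.fac φ, h.eq_of_src (Abelian.image.ι φ) 0, Limits.comp_zero])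

theorem not_isIso_kernel_ι {F G : Z.Modules} {φ : F ⟶ G} (hφ : φ ≠ 0) : ¬ IsIso (kernel.ι φ) := fun _ =>
  hφ (by rw [← cancel_epi (kernel.ι φ), kernel.condition, Limits.comp_zero])

end data

variable {F G : Z.Modules} {d : ℕ} {pF pG : ℚ[X]}

/-- The comparisons attached to a nonzero morphism out of a semistable sheaf into a pure one. -/
theorem morphism_data (hL : CohB1.IsAmple L) (hF : ShStab.IsSemistable k Z L F d) (hG : ShStab.IsSemistable k Z L G d)
    (hpF : ShStab.IsHilbPoly k Z L F pF) (hpG : ShStab.IsHilbPoly k Z L G pG) (φ : F ⟶ G) (hφ : φ ≠ 0) :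
    ∃ pK pI : ℚ[X], pI = pF - pK ∧ Coh.IsCoh (kernel φ) ∧ Coh.IsCoh (Abelian.image φ) ∧
      ShStab.IsHilbPoly k Z L (kernel φ) pK ∧ ShStab.IsHilbPoly k Z L (Abelian.image φ) pI ∧
      0 < alpha d pF ∧ 0 < alpha d pI ∧ 0 < alpha d pG ∧ RedLE d pF pI ∧ RedLE d pI pG := by
  obtain ⟨hFc, hF0, hFp, hFss⟩ := hF
  obtain ⟨hGc, hG0, hGp, hGss⟩ := hG
  obtain ⟨pK, hK, hI, hpK, hpI⟩ := exists_image_data hL hFc hGc φ hpF (dim_lt_succ_of_pure hFp hFc)
  have hI0 := not_isZero_image hφ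
  refine ⟨pK, _, rfl, hK, hI, hpK, hpI, alpha_pos_of_pure hL hFp hFc hF0 hpF,
    alpha_pos_of_pure hL (isPure_of_mono hGp (Abelian.image.ι φ)) hI hI0 hpI, alpha_pos_of_pure hL hGp hGc hG0 hpG, ?_, ?_⟩
  · by_cases hK0 : IsZero (kernel φ)
    · rw [H25Euler.hilbPoly_unique hpK (H25Euler.hilbPoly_zero hK0), sub_zero]
      exact redLE_of_redEq (redEq_refl _ _)
    · exact redLE_sub_left (hFss _ (kernel.ι φ) inferInstance hK hK0 (not_isIso_kernel_ι hφ) pK pF hpK hpF)
  · by_cases hι : IsIso (Abelian.image.ι φ)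
    · rw [H25Euler.hilbPoly_unique hpG (H25Euler.hilbPoly_congr (asIso (Abelian.image.ι φ)) hpI)]
      exact redLE_of_redEq (redEq_refl _ _)
    · exact hGss _ (Abelian.image.ι φ) inferInstance hI hI0 hι _ pG hpI hpG

theorem isSemistable_of_isStable {k : Type u} [Field k] [Z.Over (Spec (CommRingCat.of k))] {E : Z.Modules}
    (h : ShStab.IsStable k Z L E d) : ShStab.IsSemistable k Z L E d :=
  ⟨h.1, h.2.1, h.2.2.1, fun F ι hm hc h0 hi pF pE hF hE => by
    rw [redLE_iff]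
    exact (redLT_iff.1 (h.2.2.2 F ι hm hc h0 hi pF pE hF hE)).nonneg⟩

/-- No nonzero morphisms to a sheaf with smaller reduced polynomial. -/
theorem eq_zero_of_redLT (hL : CohB1.IsAmple L) (hF : ShStab.IsSemistable k Z L F d) (hG : ShStab.IsSemistable k Z L G d)
    (hpF : ShStab.IsHilbPoly k Z L F pF) (hpG : ShStab.IsHilbPoly k Z L G pG) (hlt : RedLT d pG pF) (φ : F ⟶ G) :
    φ = 0 := by
  by_contra hφ
  obtain ⟨pK, pI, -, -, -, -, -, a, b, c, h₁, h₂⟩ := morphism_data hL hF hG hpF hpG φ hφ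
  exact not_redLT_of_redLE (redLE_trans a.le b c.le h₁ h₂) hlt

/-- Nonzero morphisms out of a stable sheaf are injective. -/
theorem mono_of_isStable (hL : CohB1.IsAmple L) (hF : ShStab.IsStable k Z L F d) (hG : ShStab.IsSemistable k Z L G d)
    (hpF : ShStab.IsHilbPoly k Z L F pF) (hpG : ShStab.IsHilbPoly k Z L G pG) (heq : RedEq d pF pG) (φ : F ⟶ G)
    (hφ : φ ≠ 0) : Mono φ := by
  obtain ⟨pK, pI, rfl, hK, -, hpK, -, a, b, c, -, h₂⟩ := morphism_data hL (isSemistable_of_isStable hF) hG hpF hpG φ hφ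
  refine Preadditive.mono_of_isZero_kernel _ (by_contra fun hK0 => ?_)
  have h₁ : RedLT d pF (pF - pK) :=
    redLT_sub_left (hF.2.2.2 _ (kernel.ι φ) inferInstance hK hK0 (not_isIso_kernel_ι hφ) pK pF hpK hpF)
  exact not_redLT_of_redLE (redLE_of_redEq (redEq_symm heq)) (redLT_of_lt_of_le a.le b c h₁ h₂)

/-- Nonzero morphisms into a stable sheaf are surjective. -/
theorem epi_of_isStable (hL : CohB1.IsAmple L) (hF : ShStab.IsSemistable k Z L F d) (hG : ShStab.IsStable k Z L G d)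
    (hpF : ShStab.IsHilbPoly k Z L F pF) (hpG : ShStab.IsHilbPoly k Z L G pG) (heq : RedEq d pF pG) (φ : F ⟶ G)
    (hφ : φ ≠ 0) : Epi φ := by
  obtain ⟨pK, pI, -, -, hI, -, hpI, a, b, c, h₁, -⟩ := morphism_data hL hF (isSemistable_of_isStable hG) hpF hpG φ hφ
  by_cases hι : IsIso (Abelian.image.ι φ)
  · rw [← Abelian.image.fac φ]
    infer_instance
  · have h₂ : RedLT d pI pG := hG.2.2.2 _ (Abelian.image.ι φ) inferInstance hI (not_isZero_image hφ) hι pI pG hpI hpG
    exact absurd (redLT_of_le_of_lt a b c.le h₁ h₂) (not_redLT_of_redLE (redLE_of_redEq (redEq_symm heq)))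

/-- Nonzero morphisms between semistable sheaves with the same polynomial, one stable, are isomorphisms. -/
theorem isIso_of_isStable (hL : CohB1.IsAmple L) (hF : ShStab.IsSemistable k Z L F d) (hG : ShStab.IsSemistable k Z L G d)
    (hst : ShStab.IsStable k Z L F d ∨ ShStab.IsStable k Z L G d) {P : ℚ[X]} (hpF : ShStab.IsHilbPoly k Z L F P)
    (hpG : ShStab.IsHilbPoly k Z L G P) (φ : F ⟶ G) (hφ : φ ≠ 0) : IsIso φ := by
  rcases hst with h | h
  · haveI := mono_of_isStable hL h hG hpF hpG (redEq_refl _ _) φ hφ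
    exact isIso_of_mono_of_eq hL hF.1 hG.1 φ hpF hpG
  · haveI := epi_of_isStable hL hF h hpF hpG (redEq_refl _ _) φ hφ
    haveI := isLocallyNoetherian_of_proper (Z := Z) k
    obtain ⟨pK, hK, -, hpK, hpI⟩ := exists_image_data hL hF.1 hG.1 φ hpF (dim_lt_succ_of_pure hF.2.2.1 hF.1)
    haveI : IsIso (Abelian.image.ι φ) := by
      haveI : Epi (Abelian.image.ι φ) := epi_of_epi_fac (Abelian.image.fac φ)
      exact isIso_of_mono_of_epi _
    have h0 := H25Euler.hilbPoly_unique hpG (H25Euler.hilbPoly_congr (asIso (Abelian.image.ι φ)) hpI)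
    rw [eq_comm, sub_eq_self] at h0
    haveI : Mono φ := Preadditive.mono_of_isZero_kernel _ (isZero_of_hilbPoly_zero hL hK (h0 ▸ hpK))
    exact isIso_of_mono_of_epi φ

end Groth.Agent.H10Coh.Stab
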