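import Mathlib.Order.RelSeries
import Mathlib.Order.Preorder.Chain
import Mathlib.Data.Finset.Sort
import Mathlib.Data.Fintype.Basic

/-!
# Finite chains and strictly increasing series
-/

set_option autoImplicit false

namespace Groth.Agent.H10Coh.Stab

variable {α : Type*} [PartialOrder α]

/-- The set of terms of a series. -/
noncomputable def termSet (s : LTSeries α) : Finset α :=
  haveI := Classical.decEq α
  Finset.univ.image s.toFun

theorem mem_termSet {s : LTSeries α} {a : α} : a ∈ termSet s ↔ ∃ i, s i = a := by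
  simp [termSet]

theorem isChain_termSet (s : LTSeries α) : IsChain (fun a b : α => a ≤ b) (↑(termSet s) : Set α) := by
  intro a ha b hb _
  obtain ⟨i, rfl⟩ := mem_termSet.1 ha
  obtain ⟨j, rfl⟩ := mem_termSet.1 hb
  exact (le_total i j).imp (fun h => s.monotone h) (fun h => s.monotone h)

/-- Covering pairs of the set of terms are consecutive terms. -/
theorem exists_index_of_cover {s : LTSeries α} {a b : α} (ha : a ∈ termSet s) (hb : b ∈ termSet s) (hab : a < b)
    (h : ∀ c ∈ termSet s, ¬ (a < c ∧ c < b)) : ∃ i : Fin s.length, s i.castSucc = a ∧ s i.succ = b := by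
  obtain ⟨p, rfl⟩ := mem_termSet.1 ha
  obtain ⟨q, rfl⟩ := mem_termSet.1 hb
  have hpq : p < q := s.strictMono.lt_iff_lt.1 hab
  have hp : p.val < s.length := lt_of_lt_of_le (show p.val < q.val from hpq) (Nat.le_of_lt_succ q.isLt)
  refine ⟨⟨p.val, hp⟩, rfl, ?_⟩
  by_contra hne
  refine h (s (Fin.succ ⟨p.val, hp⟩)) (mem_termSet.2 ⟨_, rfl⟩) ⟨s.strictMono (Nat.lt_succ_self _), s.strictMono ?_⟩
  refine lt_of_le_of_ne (show p.val + 1 ≤ q.val from hpq) fun e => hne ?_
  exact congrArg s (Fin.ext (congrArg Fin.val e))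

theorem not_between {s : LTSeries α} (i : Fin s.length) (c : α) (hc : c ∈ termSet s) :
    ¬ (s i.castSucc < c ∧ c < s i.succ) := by
  obtain ⟨j, rfl⟩ := mem_termSet.1 hc
  rintro ⟨h₁, h₂⟩
  have a : i.val < j.val := s.strictMono.lt_iff_lt.1 h₁
  have b : j.val < i.val + 1 := s.strictMono.lt_iff_lt.1 h₂
  omega

theorem exists_series_of_chain (C : Finset α) (hne : C.Nonempty)
    (hC : IsChain (fun a b : α => a ≤ b) (↑C : Set α)) : ∃ s : LTSeries α, termSet s = C := by
  classical
  letI : LinearOrder {x // x ∈ C} :=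
    { (Subtype.partialOrder (fun x => x ∈ C)) with
      le_total := fun a b => by
        rcases eq_or_ne a.1 b.1 with h | h
        · exact Or.inl h.le
        · exact hC a.2 b.2 h
      toDecidableLE := Classical.decRel _ }
  obtain ⟨n, hn⟩ : ∃ n, Fintype.card {x // x ∈ C} = n + 1 :=
    Nat.exists_eq_succ_of_ne_zero (by
      rw [Fintype.card_coe]; exact Finset.card_ne_zero.2 hne)
  let e := (Finset.univ : Finset {x // x ∈ C}).orderEmbOfFin (k := n + 1) (by rw [Finset.card_univ, hn])
  refine ⟨⟨n, fun i => (e i).1, fun i => e.strictMono Fin.castSucc_lt_succ⟩, ?_⟩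
  ext a
  rw [mem_termSet]
  constructor
  · rintro ⟨i, rfl⟩; exact (e i).2
  · intro ha
    have h := Finset.range_orderEmbOfFin (Finset.univ : Finset {x // x ∈ C}) (k := n + 1) (by rw [Finset.card_univ, hn])
    obtain ⟨i, hi⟩ : (⟨a, ha⟩ : {x // x ∈ C}) ∈ Set.range e := by
      rw [h]; exact Finset.mem_coe.2 (Finset.mem_univ _)
    exact ⟨i, congrArg Subtype.val hi⟩

theorem head_eq_bot [OrderBot α] {s : LTSeries α} (h : ⊥ ∈ termSet s) : s.head = ⊥ := by
  obtain ⟨i, hi⟩ := mem_termSet.1 h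
  exact eq_bot_iff.2 (hi ▸ s.monotone (Fin.zero_le i))

theorem last_eq_top [OrderTop α] {s : LTSeries α} (h : ⊤ ∈ termSet s) : s.last = ⊤ := by
  obtain ⟨i, hi⟩ := mem_termSet.1 h
  exact eq_top_iff.2 (hi ▸ s.monotone (Fin.le_last i))

end Groth.Agent.H10Coh.Stab
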