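import Groth.Agent.H10Coh.Stab.Basic

/-!
# Criteria for (semi)stability
-/

set_option autoImplicit false
set_option linter.style.haveILetI false
set_option linter.unusedSectionVars false

universe u

open CategoryTheory CategoryTheory.Limits AlgebraicGeometry Opposite TopologicalSpace Polynomial

namespace Groth.Agent.H10Coh.Stab

open StabCat

variable {k : Type u} [Field k] {Z : Scheme.{u}} [Z.Over (Spec (CommRingCat.of k))]
  [IsProper (Z ↘ Spec (CommRingCat.of k))] {L E : Z.Modules} {d : ℕ}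

theorem exists_hilb_self (hL : CohB1.IsAmple L) (hp : ShStab.IsPure Z E d) (hE : Coh.IsCoh E) :
    ∃ P : ℚ[X], ShStab.IsHilbPoly k Z L E P :=
  exists_hilb_of_mono hL hp hE (𝟙 E) hE

theorem isIso_of_alpha_lt {F : Z.Modules} {ι : F ⟶ E} {pF pE : ℚ[X]} (hpF : ShStab.IsHilbPoly k Z L F pF)
    (hpE : ShStab.IsHilbPoly k Z L E pE) (h : alpha d pF < alpha d pE) : ¬ IsIso ι := fun hi => by
  rw [H25Euler.hilbPoly_unique hpE (H25Euler.hilbPoly_congr (@asIso _ _ _ _ ι hi) hpF)] at h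
  exact lt_irrefl _ h

theorem not_isZero_of_alpha_pos {F : Z.Modules} {pF : ℚ[X]} (hpF : ShStab.IsHilbPoly k Z L F pF)
    (h : 0 < alpha d pF) : ¬ IsZero F := fun h0 => by
  rw [H25Euler.hilbPoly_unique hpF (H25Euler.hilbPoly_zero h0), alpha, coeff_zero, mul_zero] at h
  exact lt_irrefl _ h

/-- Purity follows from the inequalities. -/
theorem isPure_of_redLE (hL : CohB1.IsAmple L) (hE : Coh.IsCoh E)
    (hdim : topologicalKrullDim (CohB1.support E) = (d : WithBot ℕ∞))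
    (h : StabCat.IsSS Coh.IsCoh (ShStab.IsHilbPoly k Z L) d E) : ShStab.IsPure Z E d := by
  intro F ι hι hF h0
  haveI := hι
  have hle : topologicalKrullDim (CohB1.support F) ≤ (d : WithBot ℕ∞) :=
    hdim ▸ Topology.IsInducing.topologicalKrullDim_le (f := Set.inclusion (H25Euler.support_subset_of_mono ι))
      (Topology.IsEmbedding.inclusion _).isInducing
  by_contra hne
  have hlt : topologicalKrullDim (CohB1.support F) < (d : WithBot ℕ∞) := lt_of_le_of_ne hle hne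
  have hi : ¬ IsIso ι := fun hi => by
    refine hne (le_antisymm hle ?_)
    have hs : CohB1.support E ⊆ CohB1.support F := H25Euler.support_subset_of_mono (inv ι)
    exact hdim.symm.trans_le (Topology.IsInducing.topologicalKrullDim_le (f := Set.inclusion hs)
      (Topology.IsEmbedding.inclusion _).isInducing)
  obtain ⟨pF, hpF⟩ := H25Euler.exists_hilbPoly (k := k) hL hF hlt
  obtain ⟨pE, hpE⟩ := H25Euler.exists_hilbPoly (k := k) hL hE (lt_succ_of_dim_eq hdim)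
  have hαF : alpha d pF = 0 := by rw [alpha, H25Euler.coeff_hilbPoly_eq_zero hL hF hpF hlt le_rfl, mul_zero]
  have h1 := redLE_iff.1 (h F ι hι hF h0 hi pF pE hpF hpE)
  rw [cross, hαF, zero_smul, zero_sub] at h1
  exact not_pos_of_nonneg_neg h1 ((hilbPoly_pos hL hF h0 hpF).smul (alpha_pos hL hE hdim hpE))

theorem isSt_imp_isSS {k : Type u} [Field k] [Z.Over (Spec (CommRingCat.of k))]
    (h : StabCat.IsSt Coh.IsCoh (ShStab.IsHilbPoly k Z L) d E) :
    StabCat.IsSS Coh.IsCoh (ShStab.IsHilbPoly k Z L) d E := fun F ι hm hc h0 hi pF pE hF hE => by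
  rw [redLE_iff]
  exact (redLT_iff.1 (h F ι hm hc h0 hi pF pE hF hE)).nonneg

theorem isSemistable_iff (hL : CohB1.IsAmple L) (hE : Coh.IsCoh E) (h0 : ¬ IsZero E)
    (hdim : topologicalKrullDim (CohB1.support E) = (d : WithBot ℕ∞)) :
    ShStab.IsSemistable k Z L E d ↔ StabCat.IsSS Coh.IsCoh (ShStab.IsHilbPoly k Z L) d E :=
  ⟨fun h => h.2.2.2, fun h => ⟨hE, h0, isPure_of_redLE hL hE hdim h, h⟩⟩

theorem isStable_iff (hL : CohB1.IsAmple L) (hE : Coh.IsCoh E) (h0 : ¬ IsZero E)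
    (hdim : topologicalKrullDim (CohB1.support E) = (d : WithBot ℕ∞)) :
    ShStab.IsStable k Z L E d ↔ StabCat.IsSt Coh.IsCoh (ShStab.IsHilbPoly k Z L) d E :=
  ⟨fun h => h.2.2.2, fun h => ⟨hE, h0, isPure_of_redLE hL hE hdim (isSt_imp_isSS h), h⟩⟩

theorem isMuSemistable_of_isSemistable (hL : CohB1.IsAmple L) (hd : 1 ≤ d) (hE : ShStab.IsSemistable k Z L E d) :
    ShStab.IsMuSemistable k Z L E d := by
  obtain ⟨hc, h0, hp, hss⟩ := hE
  refine ⟨hc, h0, dim_self_of_pure hp hc h0, fun F ι hι hF heq => ?_, ?_⟩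
  · by_cases hF0 : IsZero F
    · rw [topologicalKrullDim, Order.krullDim_eq_bot_iff.2 ?_, WithBot.bot_add] at heq
      · exact WithBot.bot_ne_natCast _ heq
      · exact ⟨fun W => by
          obtain ⟨x, -⟩ := W.isIrreducible.nonempty
          exact (Set.eq_empty_iff_forall_notMem.1 (support_eq_empty_of_isZero hF0)) x.1 x.2⟩
    · rw [hp F ι hι hF hF0] at heq
      exact absurd heq (by exact_mod_cast Nat.succ_ne_self d)
  · intro F ι hι hF pF pE hpF hpE hpos hlt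
    haveI := hι
    exact hatSlope_le_of_redLE hd (coeff_above hL (isPure_of_mono hp ι) hF hpF) (coeff_above hL hp hc hpE) hpos
      (hpos.trans hlt) (hss F ι hι hF (not_isZero_of_alpha_pos hpF hpos) (isIso_of_alpha_lt hpF hpE hlt) pF pE hpF hpE)

theorem isEllSemistable_of_isSemistable (hL : CohB1.IsAmple L) (ℓ : ℕ) (hE : ShStab.IsSemistable k Z L E d) :
    ShStab.IsEllSemistable k Z L E d ℓ := by
  obtain ⟨hc, h0, hp, hss⟩ := hE
  refine ⟨hc, h0, hp, fun F ι hι hF pF pE hpF hpE hpos hlt => ?_⟩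
  haveI := hι
  exact redLE_topPart (coeff_above hL (isPure_of_mono hp ι) hF hpF) (coeff_above hL hp hc hpE)
    (hss F ι hι hF (not_isZero_of_alpha_pos hpF hpos) (isIso_of_alpha_lt hpF hpE hlt) pF pE hpF hpE)

/-- A proper submodule of full multiplicity has strictly smaller reduced polynomial. -/
theorem redLT_of_alpha_eq (hL : CohB1.IsAmple L) (hE : Coh.IsCoh E) {F : Z.Modules} (hF : Coh.IsCoh F) (ι : F ⟶ E)
    [Mono ι] (hi : ¬ IsIso ι) {pF pE : ℚ[X]} (hpF : ShStab.IsHilbPoly k Z L F pF)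
    (hpE : ShStab.IsHilbPoly k Z L E pE) (hpos : 0 < alpha d pF) (heq : alpha d pF = alpha d pE) : RedLT d pF pE := by
  obtain ⟨-, hC⟩ := H25Euler.polyLE_of_mono hL hF hE ι hpF hpE
  haveI := isLocallyNoetherian_of_proper (Z := Z) k
  have hC0 : ¬ IsZero (cokernel ι) := fun h => hi
    (haveI := Preadditive.epi_of_isZero_cokernel ι h; isIso_of_mono_of_epi ι)
  rw [redLT_iff, cross, ← heq, ← smul_sub]
  exact (hilbPoly_pos hL (H10Coh.isCoh_cokernel ι hF.1 hE) hC0 hC).smul hpos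

theorem alpha_le_of_mono (hL : CohB1.IsAmple L) (hp : ShStab.IsPure Z E d) (hE : Coh.IsCoh E) {F : Z.Modules}
    (hF : Coh.IsCoh F) (ι : F ⟶ E) [Mono ι] {pF pE : ℚ[X]} (hpF : ShStab.IsHilbPoly k Z L F pF)
    (hpE : ShStab.IsHilbPoly k Z L E pE) : alpha d pF ≤ alpha d pE := by
  obtain ⟨-, hC⟩ := H25Euler.polyLE_of_mono hL hF hE ι hpF hpE
  haveI := isLocallyNoetherian_of_proper (Z := Z) k
  have h := H25Euler.coeff_nonneg_of_eventually (P := pE - pF) (e := d) (fun n hn => by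
    rw [coeff_sub, coeff_above hL (isPure_of_mono hp ι) hF hpF n hn, coeff_above hL hp hE hpE n hn, sub_zero])
    (H25Euler.eval_nonneg hL (H10Coh.isCoh_cokernel ι hF.1 hE) hC)
  rw [coeff_sub, sub_nonneg] at h
  exact mul_le_mul_of_nonneg_left h (by positivity)

theorem isSemistable_iff_ell (hL : CohB1.IsAmple L) :
    ShStab.IsSemistable k Z L E d ↔ ShStab.IsEllSemistable k Z L E d d := by
  refine ⟨isEllSemistable_of_isSemistable hL d, fun ⟨hc, h0, hp, h⟩ => ⟨hc, h0, hp, fun F ι hι hF hF0 hi pF pE hpF hpE => ?_⟩⟩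
  haveI := hι
  have hpos := alpha_pos_of_pure hL (isPure_of_mono hp ι) hF hF0 hpF
  rcases (alpha_le_of_mono hL hp hc hF ι hpF hpE).lt_or_eq with hlt | heq
  · have := h F ι hι hF pF pE hpF hpE hpos hlt
    rwa [topPart_self (coeff_above hL (isPure_of_mono hp ι) hF hpF), topPart_self (coeff_above hL hp hc hpE)] at this
  · rw [redLE_iff]
    exact (redLT_iff.1 (redLT_of_alpha_eq hL hc hF ι hi hpF hpE hpos heq)).nonneg

theorem isStable_iff_ell (hL : CohB1.IsAmple L) :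
    ShStab.IsStable k Z L E d ↔ ShStab.IsEllStable k Z L E d d := by
  constructor
  · rintro ⟨hc, h0, hp, h⟩
    refine ⟨hc, h0, hp, fun F ι hι hF pF pE hpF hpE hpos hlt => ?_⟩
    haveI := hι
    rw [topPart_self (coeff_above hL (isPure_of_mono hp ι) hF hpF), topPart_self (coeff_above hL hp hc hpE)]
    exact h F ι hι hF (not_isZero_of_alpha_pos hpF hpos) (isIso_of_alpha_lt hpF hpE hlt) pF pE hpF hpE
  · rintro ⟨hc, h0, hp, h⟩
    refine ⟨hc, h0, hp, fun F ι hι hF hF0 hi pF pE hpF hpE => ?_⟩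
    haveI := hι
    have hpos := alpha_pos_of_pure hL (isPure_of_mono hp ι) hF hF0 hpF
    rcases (alpha_le_of_mono hL hp hc hF ι hpF hpE).lt_or_eq with hlt | heq
    · have := h F ι hι hF pF pE hpF hpE hpos hlt
      rwa [topPart_self (coeff_above hL (isPure_of_mono hp ι) hF hpF), topPart_self (coeff_above hL hp hc hpE)] at this
    · exact redLT_of_alpha_eq hL hc hF ι hi hpF hpE hpos heq

theorem exists_iso_of_isMaxDestab (hL : CohB1.IsAmple L) (hE : Coh.IsCoh E) (hp : ShStab.IsPure Z E d)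
    {F₁ F₂ : Z.Modules} {ι₁ : F₁ ⟶ E} {ι₂ : F₂ ⟶ E} (h₁ : ShStab.IsMaxDestab k Z L E d F₁ ι₁)
    (h₂ : ShStab.IsMaxDestab k Z L E d F₂ ι₂) : ∃ e : F₁ ≅ F₂, e.hom ≫ ι₂ = ι₁ := by
  obtain ⟨m₁, c₁, z₁, M₁⟩ := h₁
  obtain ⟨m₂, c₂, z₂, M₂⟩ := h₂
  haveI := m₁
  haveI := m₂
  obtain ⟨p₁, hp₁⟩ := exists_hilb_of_mono (k := k) hL hp hE ι₁ c₁
  obtain ⟨p₂, hp₂⟩ := exists_hilb_of_mono (k := k) hL hp hE ι₂ c₂
  obtain ⟨le₁, f₁⟩ := M₁ F₂ ι₂ m₂ c₂ z₂ p₁ p₂ hp₁ hp₂
  obtain ⟨le₂, f₂⟩ := M₂ F₁ ι₁ m₁ c₁ z₁ p₂ p₁ hp₂ hp₁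
  obtain ⟨φ, hφ⟩ := f₁ (redEq_of_redLE le₁ le₂)
  obtain ⟨ψ, hψ⟩ := f₂ (redEq_of_redLE le₂ le₁)
  exact ⟨⟨ψ, φ, by rw [← cancel_mono ι₁, Category.assoc, hφ, hψ, Category.id_comp],
    by rw [← cancel_mono ι₂, Category.assoc, hψ, hφ, Category.id_comp]⟩, hψ⟩

end Groth.Agent.H10Coh.Stab
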