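import Groth.Agent.H10Coh.Stab.JHConcat
import Groth.Agent.H10Coh.Stab.KerCoker
import Groth.Agent.H10Coh.Support
import Groth.Agent.H22Alg.KLFRes
import Groth.Agent.H22Alg.PullVb
import Groth.Agent.H4Conn.Top
import Groth.Agent.H16Derived.KFlat.PerfSummand
import Groth.Agent.H16Derived.KFlat.RestrictD

/-!
# Maps of semistable sheaves vanishing at a point
-/

set_option autoImplicit false
set_option linter.style.haveILetI false
set_option linter.unusedSectionVars false
set_option backward.isDefEq.respectTransparency.types false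

noncomputable section

universe u

open CategoryTheory CategoryTheory.Limits AlgebraicGeometry Opposite TopologicalSpace

namespace Groth.Agent.H10Coh.Stab

open StabCat

/-- A finitely filtered module with finite locally free graded module is finite locally free. -/
theorem isFinLocFree_of_grObj {X : Scheme.{0}} [IsLocallyNoetherian X] {M : X.Modules}
    (t : LTSeries (Subobject M)) (h₀ : t.head = ⊥) (h₁ : t.last = ⊤) (U : X.Opens)
    (h : FlatMod.IsFinLocFree ((grObj t).restrict U.ι)) : FlatMod.IsFinLocFree (M.restrict U.ι) := by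
  classical
  haveI : IsLocallyNoetherian (U : Scheme.{0}) := isLocallyNoetherian_of_isOpenImmersion U.ι
  let R := Scheme.Modules.restrictFunctor U.ι
  haveI := (Scheme.Modules.restrictAdjunction U.ι).isLeftAdjoint
  haveI := H16Derived.KFlat.Stalk.preservesFiniteLimits_pullback_of_flat U.ι
  haveI : PreservesFiniteLimits R :=
    preservesFiniteLimits_of_natIso (Scheme.Modules.restrictFunctorIsoPullback U.ι).symm
  have key : ∀ i, FlatMod.IsFinLocFree (R.obj (t i : X.Modules)) := by
    intro i
    induction i using Fin.induction with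
    | zero =>
      rw [show t 0 = ⊥ from h₀]
      exact H16Derived.KFlat.Stalk.isFinLocFree_of_isZero (R.map_isZero
        ((IsZero.iff_id_eq_zero _).2 (by rw [← cancel_mono (⊥ : Subobject M).arrow, Limits.zero_comp,
          Category.id_comp, Subobject.bot_arrow])))
    | succ i ih =>
      let a : factor t i ⟶ grObj t := Sigma.ι (fun l => factor t l) i
      let b : grObj t ⟶ factor t i :=
        Sigma.desc (fun l => if hl : l = i then eqToHom (by rw [hl]) else 0)
      have hab : a ≫ b = 𝟙 _ := by
        dsimp only [a, b, grObj]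
        rw [Sigma.ι_desc, dif_pos rfl, eqToHom_refl]
      have h₃ : FlatMod.IsFinLocFree (R.obj (factor t i)) :=
        H23KS.isFinLocFree_of_retract h (R.map a) (R.map b) (by rw [← R.map_comp, hab, R.map_id])
      have hS : (ShortComplex.mk (Subobject.ofLE _ _ (t.step i).le) (cokernel.π _) (cokernel.condition _)).ShortExact :=
        { exact := ShortComplex.exact_cokernel _ }
      haveI : PreservesFiniteColimits R :=
        @PreservesColimitsOfSize.preservesFiniteColimits.{0, 0} _ _ _ _ _
          (Scheme.Modules.restrictAdjunction U.ι).leftAdjoint_preservesColimits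
      exact H22Alg.KLFRes.finLocFree_mid (hS.map_of_exact R) ih h₃
  have := key (Fin.last _)
  rw [show t (Fin.last _) = ⊤ from h₁] at this
  exact H16Derived.KFlat.Stalk.isFinLocFree_of_iso (R.mapIso (asIso (⊤ : Subobject M).arrow)) this

/-- A finite locally free module vanishing at a point is zero there. -/
theorem subsingleton_stalk_of_isZero_pullback {S T : Scheme.{u}} (g : T ⟶ S) (z : T) {M : S.Modules}
    (hM : FlatMod.IsFinLocFree M) (h : IsZero ((Scheme.Modules.pullback g).obj M)) :
    Subsingleton (M.presheaf.stalk (g.base z)) := by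
  letI := H06Mod.stalkAlgebra g z
  haveI := H8Props.FinLocFree.free_stalk M hM (g.base z)
  haveI : Subsingleton (((Scheme.Modules.pullback g).obj M).presheaf.stalk z) :=
    AddCommGrpCat.subsingleton_of_isZero
      ((TopCat.Presheaf.stalkFunctor AddCommGrpCat.{u} z).map_isZero ((Scheme.Modules.toPresheaf T).map_isZero h))
  haveI : Subsingleton (TensorProduct (S.presheaf.stalk (g.base z)) (T.presheaf.stalk z) (M.presheaf.stalk (g.base z))) :=
    (H06Mod.pullStalkEquiv g M z).injective.subsingleton
  let b := Module.Free.chooseBasis (S.presheaf.stalk (g.base z)) (M.presheaf.stalk (g.base z))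
  haveI : IsEmpty (Module.Free.ChooseBasisIndex (S.presheaf.stalk (g.base z)) (M.presheaf.stalk (g.base z))) :=
    ⟨fun i => (b.baseChange (T.presheaf.stalk z)).ne_zero i (Subsingleton.elim _ _)⟩
  exact b.repr.toEquiv.subsingleton

variable {k : Type} [Field k] {Z : Scheme.{0}} [Z.Over (Spec (CommRingCat.of k))]
  [IsProper (Z ↘ Spec (CommRingCat.of k))] {L E F : Z.Modules} {d : ℕ}

theorem eq_zero_of_pullback_eq_zero [IrreducibleSpace Z] (hZ : topologicalKrullDim Z = (d : WithBot ℕ∞))
    (hL : CohB1.IsAmple L) (hE : ShStab.IsSemistable k Z L E d) (hF : ShStab.IsSemistable k Z L F d)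
    {pE pF : Polynomial ℚ} (hpE : ShStab.IsHilbPoly k Z L E pE) (hpF : ShStab.IsHilbPoly k Z L F pF)
    (hred : RedEq d pE pF) (ξ : Spec (CommRingCat.of k) ⟶ Z) (sF : LTSeries (Subobject F))
    (hsF : ShStab.IsJHFiltration k Z L F d sF)
    (hgr : ∀ x ∈ Set.range ξ.base, ∃ U : Z.Opens, x ∈ U ∧ FlatMod.IsFinLocFree ((grObj sF).restrict U.ι))
    (f : E ⟶ F) (hf : (Scheme.Modules.pullback ξ).map f = 0) : f = 0 := by
  by_contra hne
  haveI := isNoetherian_of_ample (Z := Z) k hL
  obtain ⟨pK, hK, hI, hpK, hpI⟩ := exists_image_data hL hE.1 hF.1 f hpE (dim_lt_succ_of_pure hE.2.2.1 hE.1)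
  have hαF := alpha_pos_of_pure hL hF.2.2.1 hF.1 hF.2.1 hpF
  have hαE := alpha_pos_of_pure hL hE.2.2.1 hE.1 hE.2.1 hpE
  have hx : cross d (pE - pK) pF = 0 := by
    rw [cross_sub, redEq_iff.1 hred, zero_sub, neg_eq_zero]
    rcases (kernel_cokernel_isSemistable hL hE hF hpE hpF hred f).1 with h | h
    · rw [H25Euler.hilbPoly_unique hpK (H25Euler.hilbPoly_zero h), cross_zero_left]
    · exact cross_eq_zero_trans hαE.ne' (redEq_iff.1 (h.2 pK hpK)) (redEq_iff.1 hred)
  let ι := Abelian.image.ι f
  obtain ⟨sI, sQ, s, hsI, hsQ, hs, hfI, hfQ⟩ := exists_jh_sub_quot_whole hL hF ι hI hpI hpF hx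
  obtain ⟨-, ⟨e⟩⟩ := jh_unique hL hF hs hsF
  let z : Spec (CommRingCat.of k) := IsLocalRing.closedPoint k
  obtain ⟨U, hxU, hU⟩ := hgr (ξ.base z) ⟨z, rfl⟩
  have hIU := isFinLocFree_of_grObj sI hsI.1 hsI.2.1 U (isFinLocFree_grObj_of_forall e U hU hfI)
  have hQU := isFinLocFree_of_grObj sQ hsQ.1 hsQ.2.1 U (isFinLocFree_grObj_of_forall e U hU hfQ)
  have hrange : Set.range ξ.base ⊆ Set.range U.ι.base := by
    rintro _ ⟨w, rfl⟩
    rw [Scheme.Opens.range_ι, show w = z from Subsingleton.elim _ _]
    exact hxU
  let η := IsOpenImmersion.lift U.ι ξ hrange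
  have hη : η ≫ U.ι = ξ := IsOpenImmersion.lift_fac _ _ _
  let P := Scheme.Modules.pullback U.ι
  let σ : P ⋙ Scheme.Modules.pullback η ≅ Scheme.Modules.pullback ξ :=
    Scheme.Modules.pullbackComp η U.ι ≪≫ Scheme.Modules.pullbackCongr hη
  haveI : PreservesFiniteLimits P := H16Derived.KFlat.Stalk.preservesFiniteLimits_pullback_of_flat U.ι
  haveI : PreservesFiniteColimits P :=
    @PreservesColimitsOfSize.preservesFiniteColimits.{0, 0} _ _ _ _ _
      (Scheme.Modules.pullbackPushforwardAdjunction U.ι).leftAdjoint_preservesColimits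
  have hS : (ShortComplex.mk ι (cokernel.π ι) (cokernel.condition ι)).ShortExact :=
    { exact := ShortComplex.exact_cokernel _ }
  have hS' := H22Alg.KModel.shortExact_pullback η (hS.map_of_exact P)
    (H16Derived.KFlat.Stalk.isFinLocFree_of_iso
      ((Scheme.Modules.restrictFunctorIsoPullback U.ι).app (cokernel ι)) hQU)
  haveI : Mono ((Scheme.Modules.pullback η).map (P.map ι)) := hS'.mono_f
  haveI := (Scheme.Modules.pullbackPushforwardAdjunction ξ).isLeftAdjoint
  have hι0 : (Scheme.Modules.pullback ξ).map ι = 0 := by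
    rw [← cancel_epi ((Scheme.Modules.pullback ξ).map (Abelian.factorThruImage f)), ← Functor.map_comp,
      Abelian.image.fac, hf, comp_zero]
  have hι1 : (Scheme.Modules.pullback η).map (P.map ι) = 0 := by
    rw [← cancel_mono (σ.hom.app F), show (Scheme.Modules.pullback η).map (P.map ι) ≫ σ.hom.app F =
      σ.hom.app (Abelian.image f) ≫ (Scheme.Modules.pullback ξ).map ι from σ.hom.naturality ι, hι0, comp_zero,
      zero_comp]
  have hz : IsZero ((Scheme.Modules.pullback η).obj (P.obj (Abelian.image f))) :=
    (IsZero.iff_id_eq_zero _).2 (by rw [← cancel_mono ((Scheme.Modules.pullback η).map (P.map ι)), hι1, comp_zero, comp_zero])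
  have hsub := subsingleton_stalk_of_isZero_pullback η z hIU (hz.of_iso
    ((Scheme.Modules.pullback η).mapIso ((Scheme.Modules.restrictFunctorIsoPullback U.ι).app (Abelian.image f))))
  have hstalk : Subsingleton ((Abelian.image f).presheaf.stalk (ξ.base z)) := by
    haveI := hsub
    rw [show ξ.base z = U.ι.base (η.base z) by rw [← Scheme.Hom.comp_apply, hη]]
    exact (Equiv.subsingleton_congr ((Scheme.Modules.restrictStalkNatIso U.ι (η.base z)).app (Abelian.image f)).addCommGroupIsoToAddEquiv.toEquiv).1 hsub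
  have hpure : ShStab.IsPure Z (Abelian.image f) d := isPure_of_mono hF.2.2.1 ι
  have hdim := dim_self_of_pure hpure hI (not_isZero_image hne)
  have hcl := H10Coh.isClosed_support (Abelian.image f) hI.2
  have hne' : CohB1.support (Abelian.image f) ≠ Set.univ := fun h => by
    have : ξ.base z ∈ CohB1.support (Abelian.image f) := h ▸ Set.mem_univ _
    exact this hstalk
  have := H4Conn.topologicalKrullDim_add_one_le hcl hne'
  rw [hdim, hZ] at this
  exact absurd (by exact_mod_cast this : d + 1 ≤ d) (Nat.not_succ_le_self d)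

end Groth.Agent.H10Coh.Stab
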