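import Groth.Agent.H10Coh.Stab.SemiQuot

/-!
# Jordan–Hölder filtrations
-/

set_option autoImplicit false
set_option linter.style.haveILetI false
set_option linter.unusedSectionVars false

universe u

open CategoryTheory CategoryTheory.Limits AlgebraicGeometry Opposite TopologicalSpace Polynomial
open scoped ZeroObject

namespace Groth.Agent.H10Coh.Stab

open StabCat

/-- The cokernel of an inclusion only depends on the subobjects. -/
noncomputable def cokernelOfLEIso {C : Type*} [Category C] [Abelian C] {E : C} {A B A' B' : Subobject E}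
    (hA : A = A') (hB : B = B') (h : A ≤ B) (h' : A' ≤ B') :
    cokernel (Subobject.ofLE A B h) ≅ cokernel (Subobject.ofLE A' B' h') :=
  eqToIso (by subst hA; subst hB; rfl)

theorem cokernel_mk_iso {C : Type*} [Category C] [Abelian C] {E F N : C} (f : F ⟶ E) (n : N ⟶ E) [Mono f] [Mono n]
    (a : F ⟶ N) (ha : a ≫ n = f) (h : Subobject.mk f ≤ Subobject.mk n) :
    Nonempty (cokernel (Subobject.ofLE _ _ h) ≅ cokernel a) :=
  ⟨cokernel.mapIso _ _ (Subobject.underlyingIso f) (Subobject.underlyingIso n) (by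
    rw [← cancel_mono n]
    simp [ha])⟩

variable {k : Type u} [Field k] {Z : Scheme.{u}} [Z.Over (Spec (CommRingCat.of k))]
  [IsProper (Z ↘ Spec (CommRingCat.of k))] {L E : Z.Modules} {d : ℕ}

theorem isStable_congr {G G' : Z.Modules} (e : G ≅ G') (h : ShStab.IsStable k Z L G d) :
    ShStab.IsStable k Z L G' d := by
  obtain ⟨hc, h0, hp, hst⟩ := h
  refine ⟨H10Coh.isCoh_of_iso e hc, fun h => h0 (h.of_iso e), fun F ι hι hF hF0 => ?_,
    fun F ι hι hF hF0 hi pF pG hpF hpG => ?_⟩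
  · haveI := hι
    exact hp F (ι ≫ e.inv) (mono_comp _ _) hF hF0
  · haveI := hι
    exact hst F (ι ≫ e.inv) (mono_comp _ _) hF hF0
      (fun hi' => hi (by
        haveI := hi'
        exact IsIso.of_isIso_comp_right ι e.inv)) pF pG hpF (H25Euler.hilbPoly_congr e.symm hpG)

theorem exists_jh (hL : CohB1.IsAmple L) (hE : ShStab.IsSemistable k Z L E d) :
    ∃ s : LTSeries (Subobject E), ShStab.IsJHFiltration k Z L E d s := by
  haveI := isNoetherian_of_ample (Z := Z) k hL
  obtain ⟨pE, hpE⟩ := exists_hilb_self (k := k) hL hE.2.2.1 hE.1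
  let Q : ∀ N : Z.Modules, (N ⟶ E) → Prop := fun N f =>
    Mono f ∧ Coh.IsCoh N ∧ ∃ pN, ShStab.IsHilbPoly k Z L N pN ∧ cross d pN pE = 0 ∧
      ∀ _ : Mono f, ∃ s : LTSeries (Subobject E), s.head = ⊥ ∧ s.last = Subobject.mk f ∧
        ∀ i : Fin s.length, ShStab.IsStable k Z L (factor s i) d ∧
          ∀ p, ShStab.IsHilbPoly k Z L (factor s i) p → RedEq d p pE
  have hZ : IsZero (0 : Z.Modules) := isZero_zero _
  haveI h00 : Mono (0 : (0 : Z.Modules) ⟶ E) := ⟨fun g h _ => hZ.eq_of_tgt g h⟩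
  obtain ⟨N, f, ⟨hf, hN, pN, hpN, hx, hs⟩, hmax⟩ := LeadDev.exists_maximal_sub E hE.1 Q
    (fun N f h => ⟨h.1, h.2.1⟩)
    ⟨0, 0, h00, LeadDev.isCoh_of_isZero hZ, 0, H25Euler.hilbPoly_zero hZ, cross_zero_left _ _, fun _ =>
      ⟨RelSeries.singleton _ ⊥, rfl, (Subobject.mk_eq_bot_iff_zero.2 rfl).symm, fun i => i.elim0⟩⟩
  haveI := hf
  obtain ⟨s, hhead, hlast, hfac⟩ := hs hf
  by_cases hz : IsZero (cokernel f)
  · haveI : Epi f := Preadditive.epi_of_isZero_cokernel f hz
    haveI := isIso_of_mono_of_epi f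
    exact ⟨s, hhead, hlast.trans (Subobject.mk_eq_top_of_isIso f), fun i => ⟨(hfac i).1, fun p q hp hq =>
      H25Euler.hilbPoly_unique hpE hq ▸ (hfac i).2 p hp⟩⟩
  exfalso
  obtain ⟨hQ, hxQ⟩ := isSemistable_quot hL hE f hN hz hpN hpE hx
  have hpQ : ShStab.IsHilbPoly k Z L (cokernel f) (pE - pN) := (H25Euler.polyLE_of_mono hL hN hE.1 f hpN hpE).2
  obtain ⟨T, t, pT, ht, hT, hpT, hxT⟩ := exists_stable_sub hL hQ hpQ
  haveI := ht
  have hxT' : cross d pT pE = 0 :=
    cross_eq_zero_trans (alpha_pos_of_pure hL hQ.2.2.1 hQ.1 hQ.2.1 hpQ).ne' hxT hxQ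
  obtain ⟨N', n, a, hn, hN', ha, ⟨i⟩, hpN'⟩ := exists_preimage hL hE.2.2.1 hE.1 f hN t hT.1 hpN hpT
  haveI := hn
  have hna : ¬ Epi a := fun h => hT.2.1 ((isZero_cokernel_of_epi a).of_iso i.symm)
  have hlt : Subobject.mk f < Subobject.mk n := lt_of_le_not_ge (Subobject.mk_le_mk_of_comm a ha) fun hge => hna (by
    have hb : Subobject.ofMkLEMk n f hge ≫ f = n := Subobject.ofMkLEMk_comp hge
    haveI : IsSplitEpi a := IsSplitEpi.mk' ⟨Subobject.ofMkLEMk n f hge, by
      rw [← cancel_mono n, Category.assoc, ha, hb, Category.id_comp]⟩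
    infer_instance)
  refine hna (hmax N' n a ⟨hn, hN', pN + pT, hpN', by rw [cross_add, hx, hxT', add_zero], fun _ => ?_⟩ ha)
  refine ⟨s.snoc (Subobject.mk n) (show s.last < Subobject.mk n from hlast ▸ hlt), by rw [RelSeries.head_snoc, hhead],
    RelSeries.last_snoc _ _ _, fun j => ?_⟩
  induction j using Fin.lastCases with
  | last =>
    obtain ⟨e⟩ := cokernel_mk_iso f n a ha hlt.le
    let e' : factor (s.snoc (Subobject.mk n) (show s.last < Subobject.mk n from hlast ▸ hlt)) (Fin.last s.length) ≅ T :=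
      cokernelOfLEIso ((RelSeries.snoc_castSucc _ _ _ _).trans hlast) (RelSeries.last_snoc _ _ _) _ hlt.le ≪≫ e ≪≫ i
    exact ⟨isStable_congr e'.symm hT, fun p hp => redEq_iff.2 (by
      rw [H25Euler.hilbPoly_unique hp (H25Euler.hilbPoly_congr e'.symm hpT)]; exact hxT')⟩
  | cast j =>
    let e : factor (s.snoc (Subobject.mk n) (show s.last < Subobject.mk n from hlast ▸ hlt)) j.castSucc ≅ factor s j :=
      cokernelOfLEIso (RelSeries.snoc_castSucc _ _ _ _)
        ((congrArg _ (Fin.succ_castSucc j)).trans (RelSeries.snoc_castSucc _ _ _ _)) _ _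
    exact ⟨isStable_congr e.symm (hfac j).1, fun p hp => (hfac j).2 p (H25Euler.hilbPoly_congr e hp)⟩

end Groth.Agent.H10Coh.Stab
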