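import Groth.Agent.H10Coh.Stab.JHUnique
import Groth.Agent.H23KS.Isotypical
import Groth.Agent.H16Derived.KFlat.LocFreeOps

/-!
# Concatenating filtrations of a submodule and of the quotient
-/

set_option autoImplicit false
set_option linter.style.haveILetI false
set_option linter.unusedSectionVars false
set_option backward.isDefEq.respectTransparency.types false

universe v u w

open CategoryTheory CategoryTheory.Limits AlgebraicGeometry Opposite TopologicalSpace

namespace Groth.Agent.H10Coh.Stab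

open StabCat

section Lattice

variable {C : Type u} [Category.{v} C] [Abelian C]

theorem map_obj_eq_mk {G E : C} (ι : G ⟶ E) [Mono ι] (A : Subobject G) :
    (Subobject.map ι).obj A = Subobject.mk (A.arrow ≫ ι) := by
  conv_lhs => rw [← Subobject.mk_arrow A]
  rw [Subobject.map_mk]

/-- Factors do not change under the inclusion of a subobject. -/
theorem nonempty_mapFactorIso {G E : C} (ι : G ⟶ E) [Mono ι] {A B : Subobject G} (h : A ≤ B)
    (h' : (Subobject.map ι).obj A ≤ (Subobject.map ι).obj B) :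
    Nonempty (cokernel (Subobject.ofLE _ _ h') ≅ cokernel (Subobject.ofLE A B h)) := by
  obtain ⟨e⟩ := cokernel_mk_iso (A.arrow ≫ ι) (B.arrow ≫ ι) (Subobject.ofLE A B h)
    (Subobject.ofLE_arrow_assoc h ι) (map_obj_eq_mk ι A ▸ map_obj_eq_mk ι B ▸ h')
  exact ⟨cokernelOfLEIso (map_obj_eq_mk ι A) (map_obj_eq_mk ι B) h' _ ≪≫ e⟩

/-- Factors do not change under the preimage by an epimorphism. -/
theorem nonempty_pullbackFactorIso {E Q : C} (π : E ⟶ Q) [Epi π] {A B : Subobject Q} (h : A ≤ B)
    (h' : (Subobject.pullback π).obj A ≤ (Subobject.pullback π).obj B) :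
    Nonempty (cokernel (Subobject.ofLE _ _ h') ≅ cokernel (Subobject.ofLE A B h)) := by
  let a : pullback A.arrow π ⟶ pullback B.arrow π :=
    pullback.lift (pullback.fst _ _ ≫ Subobject.ofLE A B h) (pullback.snd _ _)
      (by rw [Category.assoc, Subobject.ofLE_arrow, pullback.condition])
  obtain ⟨e⟩ := cokernel_mk_iso (pullback.snd A.arrow π) (pullback.snd B.arrow π) a (pullback.lift_snd _ _ _)
    (Subobject.pullback_obj π A ▸ Subobject.pullback_obj π B ▸ h')
  haveI : Epi (pullback.fst A.arrow π) := inferInstance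
  haveI : Epi (pullback.fst B.arrow π) := inferInstance
  have hfst : a ≫ pullback.fst _ _ = pullback.fst _ _ ≫ Subobject.ofLE A B h := pullback.lift_fst _ _ _
  have hker : kernel.ι (pullback.fst B.arrow π) ≫ cokernel.π a = 0 := by
    let l : kernel (pullback.fst B.arrow π) ⟶ pullback A.arrow π :=
      pullback.lift 0 (kernel.ι (pullback.fst B.arrow π) ≫ pullback.snd _ _)
        (by rw [zero_comp, Category.assoc, ← pullback.condition, kernel.condition_assoc, zero_comp])
    have hl : l ≫ a = kernel.ι (pullback.fst B.arrow π) := by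
      apply pullback.hom_ext
      · rw [Category.assoc, hfst, pullback.lift_fst_assoc, zero_comp, kernel.condition]
      · rw [Category.assoc, pullback.lift_snd, pullback.lift_snd]
    rw [← hl, Category.assoc, cokernel.condition, comp_zero]
  let g : (B : C) ⟶ cokernel a := Abelian.epiDesc (pullback.fst B.arrow π) (cokernel.π a) hker
  have hg : pullback.fst B.arrow π ≫ g = cokernel.π a := Abelian.comp_epiDesc _ _ _
  have hg0 : Subobject.ofLE A B h ≫ g = 0 := by
    rw [← cancel_epi (pullback.fst A.arrow π), ← Category.assoc, ← hfst, Category.assoc, hg, cokernel.condition,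
      comp_zero]
  refine ⟨cokernelOfLEIso (Subobject.pullback_obj π A) (Subobject.pullback_obj π B) h' _ ≪≫ e ≪≫
    { hom := cokernel.desc a (pullback.fst _ _ ≫ cokernel.π _)
        (by rw [← Category.assoc, hfst, Category.assoc, cokernel.condition, comp_zero])
      inv := cokernel.desc _ g hg0
      hom_inv_id := by ext; simp [hg]
      inv_hom_id := by
        ext
        rw [← cancel_epi (pullback.fst B.arrow π)]
        simp [reassoc_of% hg] }⟩

theorem eq_of_isZero_cokernel_ofLE {E : C} {A B : Subobject E} (h : A ≤ B)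
    (h0 : IsZero (cokernel (Subobject.ofLE A B h))) : A = B := by
  haveI := Preadditive.epi_of_isZero_cokernel _ h0
  haveI := isIso_of_mono_of_epi (Subobject.ofLE A B h)
  exact le_antisymm h (Subobject.le_of_comm (inv (Subobject.ofLE A B h)) (by simp))

theorem pullback_obj_lt {E Q : C} (π : E ⟶ Q) [Epi π] {A B : Subobject Q} (h : A < B) :
    (Subobject.pullback π).obj A < (Subobject.pullback π).obj B := by
  have h' : (Subobject.pullback π).obj A ≤ (Subobject.pullback π).obj B := ((Subobject.pullback π).map h.le.hom).le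
  refine lt_of_le_of_ne h' fun he => h.ne (eq_of_isZero_cokernel_ofLE h.le ?_)
  obtain ⟨e⟩ := nonempty_pullbackFactorIso π h.le h'
  haveI : IsIso (Subobject.ofLE _ _ h') := ⟨Subobject.ofLE _ _ he.ge, by simp, by simp⟩
  exact (isZero_cokernel_of_epi _).of_iso e.symm

theorem pullback_cokernel_bot {G E : C} (ι : G ⟶ E) [Mono ι] :
    (Subobject.pullback (cokernel.π ι)).obj ⊥ = Subobject.mk ι := by
  rw [Subobject.pullback_obj]
  refine le_antisymm ?_ ?_
  · refine Subobject.mk_le_mk_of_comm (Abelian.monoLift ι (pullback.snd _ _) ?_) (Abelian.monoLift_comp _ _ _)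
    rw [← pullback.condition, Subobject.bot_arrow, comp_zero]
  · exact Subobject.mk_le_mk_of_comm (pullback.lift 0 ι (by rw [zero_comp, cokernel.condition]))
      (pullback.lift_snd _ _ _)

/-- A filtration of `G` followed by one of `E/G`. -/
theorem exists_concat {G E : C} (ι : G ⟶ E) [Mono ι] (sG : LTSeries (Subobject G))
    (sQ : LTSeries (Subobject (cokernel ι))) (hG₀ : sG.head = ⊥) (hG₁ : sG.last = ⊤) (hQ₀ : sQ.head = ⊥)
    (hQ₁ : sQ.last = ⊤) :
    ∃ s : LTSeries (Subobject E), s.head = ⊥ ∧ s.last = ⊤ ∧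
      (∀ i, ∃ j, Nonempty (factor s j ≅ factor sG i)) ∧ (∀ i, ∃ j, Nonempty (factor s j ≅ factor sQ i)) ∧
      (∀ j, (∃ i, Nonempty (factor s j ≅ factor sG i)) ∨ ∃ i, Nonempty (factor s j ≅ factor sQ i)) := by
  have hmG : StrictMono (Subobject.map ι).obj := fun A B h =>
    lt_of_le_of_ne ((Subobject.map ι).map h.le.hom).le fun he => h.ne (Subobject.map_obj_injective ι he)
  have hmQ : StrictMono (Subobject.pullback (cokernel.π ι)).obj := fun A B h => pullback_obj_lt _ h
  let p := sG.map _ hmG
  let q := sQ.map _ hmQ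
  have hc : p.last = q.head := by
    rw [LTSeries.last_map, LTSeries.head_map, hG₁, hQ₀, Subobject.map_top, pullback_cokernel_bot]
  refine ⟨p.smash q hc, ?_, ?_, ?_, ?_, ?_⟩
  · rw [RelSeries.head_smash, LTSeries.head_map, hG₀, Subobject.map_bot]
  · rw [RelSeries.last_smash, LTSeries.last_map, hQ₁, Subobject.pullback_top]
  all_goals
    have key₁ : ∀ i : Fin sG.length, Nonempty (factor (p.smash q hc) (i.castAdd sQ.length) ≅ factor sG i) := by
      intro i
      have h' : p i.castSucc ≤ p i.succ := (p.step i).le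
      obtain ⟨e⟩ := nonempty_mapFactorIso ι (sG.step i).le h'
      exact ⟨cokernelOfLEIso (RelSeries.smash_castAdd hc i) (RelSeries.smash_succ_castAdd hc i) _ h' ≪≫ e⟩
    have key₂ : ∀ i : Fin sQ.length, Nonempty (factor (p.smash q hc) (i.natAdd sG.length) ≅ factor sQ i) := by
      intro i
      have h' : q i.castSucc ≤ q i.succ := (q.step i).le
      obtain ⟨e⟩ := nonempty_pullbackFactorIso (cokernel.π ι) (sQ.step i).le h'
      exact ⟨cokernelOfLEIso (RelSeries.smash_natAdd hc i) (RelSeries.smash_succ_natAdd hc i) _ h' ≪≫ e⟩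
  · exact fun i => ⟨_, key₁ i⟩
  · exact fun i => ⟨_, key₂ i⟩
  · exact fun j => Fin.addCases (motive := fun j => (∃ i, Nonempty (factor (p.smash q hc) j ≅ factor sG i)) ∨
      ∃ i, Nonempty (factor (p.smash q hc) j ≅ factor sQ i)) (fun i => Or.inl ⟨i, key₁ i⟩)
      (fun i => Or.inr ⟨i, key₂ i⟩) j

end Lattice

section GrLocFree

/-- If every factor of `t` occurs in `s` and the graded module of `s` is finite locally free on `U`, so is that of `t`. -/
theorem isFinLocFree_grObj_of_forall {X : Scheme.{0}} [IsLocallyNoetherian X] {E M : X.Modules}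
    {s : LTSeries (Subobject E)} {t : LTSeries (Subobject M)} {F : X.Modules} (e : grObj s ≅ F) (U : X.Opens)
    (hU : FlatMod.IsFinLocFree (F.restrict U.ι))
    (h : ∀ i, ∃ j, Nonempty (factor s j ≅ factor t i)) :
    FlatMod.IsFinLocFree ((grObj t).restrict U.ι) := by
  classical
  haveI : IsLocallyNoetherian (U : Scheme.{0}) := isLocallyNoetherian_of_isOpenImmersion U.ι
  let R := Scheme.Modules.restrictFunctor U.ι
  have hfac : ∀ i, FlatMod.IsFinLocFree (R.obj (factor t i)) := by
    intro i
    obtain ⟨j, ⟨ej⟩⟩ := h i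
    let a : factor t i ⟶ F := ej.inv ≫ Sigma.ι (fun l => factor s l) j ≫ e.hom
    let b : F ⟶ factor t i := e.inv ≫
      Sigma.desc (fun l => if hl : l = j then eqToHom (by rw [hl]) ≫ ej.hom else 0)
    have hab : a ≫ b = 𝟙 _ := by simp [a, b, grObj]
    exact H23KS.isFinLocFree_of_retract hU (R.map a) (R.map b) (by rw [← R.map_comp, hab, R.map_id])
  haveI := preservesColimitsOfSize_shrink.{0, 0, 0, 0} (Scheme.Modules.pullback U.ι)
  haveI : PreservesColimit (Discrete.functor fun i => factor t i) R :=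
    preservesColimit_of_natIso _ (Scheme.Modules.restrictFunctorIsoPullback U.ι).symm
  exact H16Derived.KFlat.Stalk.isFinLocFree_of_iso (PreservesCoproduct.iso R _).symm
    (H16Derived.KFlat.Stalk.isFinLocFree_sigma _ hfac)

end GrLocFree

section JH

variable {k : Type w} [Field k] {Z : Scheme.{w}} [Z.Over (Spec (CommRingCat.of k))]
  [IsProper (Z ↘ Spec (CommRingCat.of k))] {L E : Z.Modules} {d : ℕ}

theorem exists_jh_or_zero (hL : CohB1.IsAmple L) {G : Z.Modules} (hG : IsZero G ∨ ShStab.IsSemistable k Z L G d) :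
    ∃ s : LTSeries (Subobject G), ShStab.IsJHFiltration k Z L G d s := by
  rcases hG with h | h
  · exact ⟨RelSeries.singleton _ ⊥, rfl,
      le_antisymm le_top (Subobject.le_of_comm 0 (h.eq_of_tgt _ _)), fun i => i.elim0⟩
  · exact exists_jh hL h

/-- Jordan–Hölder filtrations of a submodule with the reduced polynomial and of the quotient, and of the whole. -/
theorem exists_jh_sub_quot_whole (hL : CohB1.IsAmple L) (hE : ShStab.IsSemistable k Z L E d) {G : Z.Modules}
    (ι : G ⟶ E) [Mono ι] (hG : Coh.IsCoh G) {pG pE : Polynomial ℚ} (hpG : ShStab.IsHilbPoly k Z L G pG)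
    (hpE : ShStab.IsHilbPoly k Z L E pE) (hx : cross d pG pE = 0) :
    ∃ (sG : LTSeries (Subobject G)) (sQ : LTSeries (Subobject (cokernel ι))) (s : LTSeries (Subobject E)),
      ShStab.IsJHFiltration k Z L G d sG ∧ ShStab.IsJHFiltration k Z L (cokernel ι) d sQ ∧
      ShStab.IsJHFiltration k Z L E d s ∧
      (∀ i, ∃ j, Nonempty (factor s j ≅ factor sG i)) ∧ (∀ i, ∃ j, Nonempty (factor s j ≅ factor sQ i)) := by
  haveI := isNoetherian_of_ample (Z := Z) k hL
  have hsG : IsZero G ∨ ShStab.IsSemistable k Z L G d :=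
    or_iff_not_imp_left.2 fun h0 => isSemistable_sub hL hE ι hG h0 hpG hpE hx
  have hpQ : ShStab.IsHilbPoly k Z L (cokernel ι) (pE - pG) := (H25Euler.polyLE_of_mono hL hG hE.1 ι hpG hpE).2
  have hxQ : cross d (pE - pG) pE = 0 := by rw [cross_sub, cross_self, hx, sub_zero]
  have hsQ : IsZero (cokernel ι) ∨ ShStab.IsSemistable k Z L (cokernel ι) d :=
    or_iff_not_imp_left.2 fun h0 => (isSemistable_quot hL hE ι hG h0 hpG hpE hx).1
  obtain ⟨sG, hG'⟩ := exists_jh_or_zero hL hsG
  obtain ⟨sQ, hQ'⟩ := exists_jh_or_zero hL hsQ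
  obtain ⟨s, h₀, h₁, hfG, hfQ, hall⟩ := exists_concat ι sG sQ hG'.1 hG'.2.1 hQ'.1 hQ'.2.1
  refine ⟨sG, sQ, s, hG', hQ', ⟨h₀, h₁, fun j => ?_⟩, hfG, hfQ⟩
  have main : ∀ (M : Z.Modules) (pM : Polynomial ℚ), ShStab.IsHilbPoly k Z L M pM → cross d pM pE = 0 →
      (IsZero M ∨ ShStab.IsSemistable k Z L M d) → ∀ t : LTSeries (Subobject M),
      ShStab.IsJHFiltration k Z L M d t → ∀ i, Nonempty (factor s j ≅ factor t i) →
      ShStab.IsStable k Z L (factor s j) d ∧ ∀ p q : Polynomial ℚ, ShStab.IsHilbPoly k Z L (factor s j) p →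
        ShStab.IsHilbPoly k Z L E q → RedEq d p q := by
    intro M pM hpM hxM hM t ht i ⟨e⟩
    refine ⟨isStable_congr e.symm (ht.2.2 i).1, fun p q hp hq => redEq_iff.2 ?_⟩
    obtain rfl := H25Euler.hilbPoly_unique hq hpE
    rcases hM with h | h
    · have hall : ∀ A : Subobject M, A = ⊤ := fun A => le_antisymm le_top (Subobject.le_of_comm 0 (h.eq_of_tgt _ _))
      exact absurd ((hall _).trans (hall _).symm) (t.step i).ne
    · exact cross_eq_zero_trans (alpha_pos_of_pure hL h.2.2.1 h.1 h.2.1 hpM).ne'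
        (redEq_iff.1 ((ht.2.2 i).2 p pM (H25Euler.hilbPoly_congr e hp) hpM)) hxM
  rcases hall j with ⟨i, hi⟩ | ⟨i, hi⟩
  · exact main G pG hpG hx hsG sG hG' i hi
  · exact main _ _ hpQ hxQ hsQ sQ hQ' i hi

end JH

end Groth.Agent.H10Coh.Stab
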