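import Groth.Agent.H10Coh.Stab.HN
import Groth.Agent.H10Coh.FinType2
import Mathlib.Order.JordanHolder

/-!
# Uniqueness of the graded object of a Jordan–Hölder filtration
-/

set_option autoImplicit false
set_option linter.style.haveILetI false
set_option linter.unusedSectionVars false

universe u v w

open CategoryTheory CategoryTheory.Limits AlgebraicGeometry Opposite TopologicalSpace Polynomial

namespace Groth.Agent.H10Coh.Stab

open StabCat

section Lattice

variable {C : Type u} [Category.{v} C] [Abelian C] {E : C} (A B : Subobject E)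

/-- The intersection of two subobjects is the kernel of `B → E/A`. -/
theorem inf_eq_mk :
    A ⊓ B = Subobject.mk (kernel.ι (B.arrow ≫ cokernel.π A.arrow) ≫ B.arrow) := by
  have hker : IsLimit (KernelFork.ofι A.arrow (cokernel.condition A.arrow)) :=
    Abelian.monoIsKernelOfCokernel (CokernelCofork.ofπ (cokernel.π _) (cokernel.condition _)) (cokernelIsCokernel _)
  refine le_antisymm ?_ (le_inf ?_ ?_)
  · have h : (Subobject.ofLE (A ⊓ B) B inf_le_right) ≫ B.arrow ≫ cokernel.π A.arrow = 0 := by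
      rw [← Category.assoc, Subobject.ofLE_arrow, ← Subobject.ofLE_arrow (inf_le_left : A ⊓ B ≤ A), Category.assoc,
        cokernel.condition, Limits.comp_zero]
    exact Subobject.le_mk_of_comm (kernel.lift _ _ h) (by rw [kernel.lift_ι_assoc, Subobject.ofLE_arrow])
  · obtain ⟨l, hl⟩ := KernelFork.IsLimit.lift' hker (kernel.ι (B.arrow ≫ cokernel.π A.arrow) ≫ B.arrow)
      (by
        show (_ ≫ B.arrow) ≫ cokernel.π A.arrow = 0
        rw [Category.assoc]; exact kernel.condition _)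
    exact Subobject.mk_le_of_comm l hl
  · exact Subobject.mk_le_of_comm _ rfl

/-- The sum of two subobjects is the kernel of `E → (E/A)/B`. -/
theorem sup_eq_mk :
    A ⊔ B = Subobject.mk (kernel.ι (cokernel.π A.arrow ≫ cokernel.π (B.arrow ≫ cokernel.π A.arrow))) := by
  set u := B.arrow ≫ cokernel.π A.arrow with hu
  refine le_antisymm (sup_le ?_ ?_) ?_
  · exact Subobject.le_mk_of_comm (kernel.lift _ A.arrow (by rw [← Category.assoc, cokernel.condition,
      Limits.zero_comp])) (kernel.lift_ι _ _ _)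
  · exact Subobject.le_mk_of_comm (kernel.lift _ B.arrow (by rw [← Category.assoc, ← hu, cokernel.condition]))
      (kernel.lift_ι _ _ _)
  · let T := A ⊔ B
    have hker : IsLimit (KernelFork.ofι T.arrow (cokernel.condition T.arrow)) :=
      Abelian.monoIsKernelOfCokernel (CokernelCofork.ofπ (cokernel.π _) (cokernel.condition _)) (cokernelIsCokernel _)
    have h₁ : A.arrow ≫ cokernel.π T.arrow = 0 := by
      rw [← Subobject.ofLE_arrow (le_sup_left : A ≤ T), Category.assoc, cokernel.condition, Limits.comp_zero]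
    have h₂ : u ≫ cokernel.desc A.arrow (cokernel.π T.arrow) h₁ = 0 := by
      rw [hu, Category.assoc, cokernel.π_desc, ← Subobject.ofLE_arrow (le_sup_right : B ≤ T), Category.assoc,
        cokernel.condition, Limits.comp_zero]
    have hfac : (cokernel.π A.arrow ≫ cokernel.π u) ≫ cokernel.desc u _ h₂ = cokernel.π T.arrow := by
      rw [Category.assoc, cokernel.π_desc, cokernel.π_desc]
    obtain ⟨l, hl⟩ := KernelFork.IsLimit.lift' hker (kernel.ι (cokernel.π A.arrow ≫ cokernel.π u)) (by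
      show kernel.ι _ ≫ cokernel.π T.arrow = 0
      rw [← hfac, kernel.condition_assoc, Limits.zero_comp])
    exact Subobject.mk_le_of_comm l hl

/-- The second isomorphism theorem. -/
theorem nonempty_quot_iso :
    Nonempty (cokernel (Subobject.ofLE (A ⊓ B) A inf_le_left) ≅ cokernel (Subobject.ofLE B (A ⊔ B) le_sup_right)) := by
  have hc : Subobject.ofLE (A ⊓ B) A inf_le_left ≫ Subobject.ofLE A (A ⊔ B) le_sup_left =
      Subobject.ofLE (A ⊓ B) B inf_le_right ≫ Subobject.ofLE B (A ⊔ B) le_sup_right := by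
    simp [Subobject.ofLE_comp_ofLE]
  have hker : IsLimit (KernelFork.ofι (Subobject.ofLE B (A ⊔ B) le_sup_right) (cokernel.condition _)) :=
    Abelian.monoIsKernelOfCokernel (CokernelCofork.ofπ (cokernel.π _) (cokernel.condition _)) (cokernelIsCokernel _)
  let w := cokernel.map _ _ (Subobject.ofLE (A ⊓ B) B inf_le_right) (Subobject.ofLE A (A ⊔ B) le_sup_left) hc
  have hpb : IsPullback (Subobject.ofLE (A ⊓ B) A inf_le_left) (Subobject.ofLE (A ⊓ B) B inf_le_right)
      (Subobject.ofLE A (A ⊔ B) le_sup_left) (Subobject.ofLE B (A ⊔ B) le_sup_right) := by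
    have key : ∀ (s : PullbackCone (Subobject.ofLE A (A ⊔ B) le_sup_left) (Subobject.ofLE B (A ⊔ B) le_sup_right)),
        (A ⊓ B).Factors (s.fst ≫ A.arrow) := fun s =>
      (Subobject.inf_factors _).2 ⟨Subobject.factors_comp_arrow _, by
        have h : s.fst ≫ A.arrow = s.snd ≫ B.arrow := by
          simpa [Category.assoc] using congrArg (· ≫ (A ⊔ B).arrow) s.condition
        rw [h]; exact Subobject.factors_comp_arrow _⟩
    refine IsPullback.of_isLimit (PullbackCone.IsLimit.mk hc (fun s => (A ⊓ B).factorThru _ (key s))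
      (fun s => ?_) (fun s => ?_) (fun s m h₁ _ => ?_))
    · rw [← cancel_mono A.arrow, Category.assoc, Subobject.ofLE_arrow, Subobject.factorThru_arrow]
    · rw [← cancel_mono B.arrow, Category.assoc, Subobject.ofLE_arrow, Subobject.factorThru_arrow]
      simpa [Category.assoc] using congrArg (· ≫ (A ⊔ B).arrow) s.condition
    · rw [← cancel_mono (A ⊓ B).arrow, Subobject.factorThru_arrow, ← h₁, Category.assoc, Subobject.ofLE_arrow]
  haveI : Mono w := Abelian.mono_cokernel_map_of_isPullback hpb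
  haveI : Epi w := by
    refine Preadditive.epi_of_cancel_zero _ fun {W} g hg => ?_
    set h := cokernel.π (Subobject.ofLE B (A ⊔ B) le_sup_right) ≫ g with hh
    have hA : Subobject.ofLE A (A ⊔ B) le_sup_left ≫ h = 0 := by
      rw [hh, ← Category.assoc, ← cokernel.π_desc _ _ (show Subobject.ofLE (A ⊓ B) A inf_le_left ≫
        Subobject.ofLE A (A ⊔ B) le_sup_left ≫ cokernel.π (Subobject.ofLE B (A ⊔ B) le_sup_right) = 0 by
          rw [← Category.assoc, hc, Category.assoc, cokernel.condition, Limits.comp_zero]), Category.assoc]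
      exact (congrArg (cokernel.π _ ≫ ·) hg).trans Limits.comp_zero
    have hB : Subobject.ofLE B (A ⊔ B) le_sup_right ≫ h = 0 := by
      rw [hh, cokernel.condition_assoc, Limits.zero_comp]
    have hle : A ⊔ B ≤ Subobject.mk (kernel.ι h ≫ (A ⊔ B).arrow) :=
      sup_le (Subobject.le_mk_of_comm (kernel.lift h _ hA) (by rw [kernel.lift_ι_assoc, Subobject.ofLE_arrow]))
        (Subobject.le_mk_of_comm (kernel.lift h _ hB) (by rw [kernel.lift_ι_assoc, Subobject.ofLE_arrow]))
    obtain ⟨l, hl⟩ : ∃ l : Subobject.underlying.obj (A ⊔ B) ⟶ kernel h, l ≫ kernel.ι h = 𝟙 _ :=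
      ⟨Subobject.ofLE _ _ hle ≫ (Subobject.underlyingIso _).hom, by
        rw [← cancel_mono (A ⊔ B).arrow]
        simp⟩
    have h0 : h = 0 := by rw [← Category.id_comp h, ← hl, Category.assoc, kernel.condition, Limits.comp_zero]
    rw [← cancel_epi (cokernel.π (Subobject.ofLE B (A ⊔ B) le_sup_right)), Limits.comp_zero, ← hh, h0]
  haveI := isIso_of_mono_of_epi w
  exact ⟨asIso w⟩

end Lattice

variable {k : Type w} [Field k] {Z : Scheme.{w}} [Z.Over (Spec (CommRingCat.of k))]
  [IsProper (Z ↘ Spec (CommRingCat.of k))] {L E : Z.Modules} {d : ℕ}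

/-- A coherent submodule with the reduced polynomial of `E`, or zero. -/
def Good (k : Type w) [Field k] [Z.Over (Spec (CommRingCat.of k))] (L : Z.Modules) (d : ℕ) (pE : ℚ[X])
    (N : Subobject E) : Prop :=
  Coh.IsCoh (N : Z.Modules) ∧ ∀ p, ShStab.IsHilbPoly k Z L (N : Z.Modules) p → cross d p pE = 0

theorem nonneg_cross_sub (hL : CohB1.IsAmple L) (hE : ShStab.IsSemistable k Z L E d) {pE : ℚ[X]}
    (hpE : ShStab.IsHilbPoly k Z L E pE) {M : Z.Modules} (m : M ⟶ E) [Mono m] (hM : Coh.IsCoh M) {pM : ℚ[X]}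
    (hpM : ShStab.IsHilbPoly k Z L M pM) : Nonneg (cross d pM pE) := by
  by_cases h0 : IsZero M
  · rw [H25Euler.hilbPoly_unique hpM (H25Euler.hilbPoly_zero h0), cross_zero_left]
    exact Nonneg.of_eq_zero rfl
  by_cases hi : IsIso m
  · rw [H25Euler.hilbPoly_unique hpM (H25Euler.hilbPoly_congr (asIso m).symm hpE), cross_self]
    exact Nonneg.of_eq_zero rfl
  · exact redLE_iff.1 (hE.2.2.2 M m inferInstance hM h0 hi pM pE hpM hpE)

theorem good_bot (hL : CohB1.IsAmple L) (pE : ℚ[X]) : Good k L d pE (⊥ : Subobject E) := by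
  haveI := isNoetherian_of_ample (Z := Z) k hL
  have h0 : IsZero ((⊥ : Subobject E) : Z.Modules) :=
    (IsZero.iff_id_eq_zero _).2 (by rw [← cancel_mono (⊥ : Subobject E).arrow, Limits.zero_comp,
      Category.id_comp, Subobject.bot_arrow])
  exact ⟨LeadDev.isCoh_of_isZero h0, fun p hp => by
    rw [H25Euler.hilbPoly_unique hp (H25Euler.hilbPoly_zero h0), cross_zero_left]⟩

theorem good_sup_inf (hL : CohB1.IsAmple L) (hE : ShStab.IsSemistable k Z L E d) {pE : ℚ[X]}
    (hpE : ShStab.IsHilbPoly k Z L E pE) {A B : Subobject E} (hA : Good k L d pE A) (hB : Good k L d pE B) :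
    Good k L d pE (A ⊔ B) ∧ Good k L d pE (A ⊓ B) := by
  haveI := isLocallyNoetherian_of_proper (Z := Z) k
  have hC := H10Coh.isCoh_cokernel A.arrow hA.1.1 hE.1
  have hK : Coh.IsCoh ((A ⊓ B : Subobject E) : Z.Modules) := by
    rw [inf_eq_mk]
    exact H10Coh.isCoh_of_iso (Subobject.underlyingIso _).symm
      (H10Coh.isCoh_kernel (B.arrow ≫ cokernel.π A.arrow) hB.1 hC.1)
  have hS : Coh.IsCoh ((A ⊔ B : Subobject E) : Z.Modules) := by
    rw [sup_eq_mk]
    exact H10Coh.isCoh_of_iso (Subobject.underlyingIso _).symm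
      (H10Coh.isCoh_kernel (cokernel.π A.arrow ≫ cokernel.π (B.arrow ≫ cokernel.π A.arrow)) hE.1
        (H10Coh.isCoh_cokernel _ hB.1.1 hC).1)
  obtain ⟨pA, hpA⟩ := exists_hilb_of_mono (k := k) hL hE.2.2.1 hE.1 A.arrow hA.1
  obtain ⟨pB, hpB⟩ := exists_hilb_of_mono (k := k) hL hE.2.2.1 hE.1 B.arrow hB.1
  obtain ⟨pK, hpK⟩ := exists_hilb_of_mono (k := k) hL hE.2.2.1 hE.1 (A ⊓ B).arrow hK
  obtain ⟨pS, hpS⟩ := exists_hilb_of_mono (k := k) hL hE.2.2.1 hE.1 (A ⊔ B).arrow hS
  obtain ⟨e⟩ := nonempty_quot_iso A B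
  have h := H25Euler.hilbPoly_unique
    (H25Euler.hilbPoly_congr e (H25Euler.polyLE_of_mono hL hK hA.1 (Subobject.ofLE _ _ inf_le_left) hpK hpA).2)
    (H25Euler.polyLE_of_mono hL hB.1 hS (Subobject.ofLE _ _ le_sup_right) hpB hpS).2
  have hsum : cross d pS pE + cross d pK pE = 0 := by
    rw [← cross_add, show pS + pK = pA + pB by linear_combination -h, cross_add, hA.2 pA hpA, hB.2 pB hpB, add_zero]
  have hn₁ := nonneg_cross_sub hL hE hpE (A ⊔ B).arrow hS hpS
  have hn₂ := nonneg_cross_sub hL hE hpE (A ⊓ B).arrow hK hpK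
  have h₁ : cross d pS pE = 0 := eq_zero_of_nonneg_neg hn₁ (by rwa [neg_eq_of_add_eq_zero_right hsum])
  refine ⟨⟨hS, fun p hp => H25Euler.hilbPoly_unique hpS hp ▸ h₁⟩, ⟨hK, fun p hp => ?_⟩⟩
  rw [H25Euler.hilbPoly_unique hp hpK]
  rwa [h₁, zero_add] at hsum

/-- `A < B` with stable quotient, both with the reduced polynomial of `E`. -/
def IsStep (k : Type w) [Field k] [Z.Over (Spec (CommRingCat.of k))] (L : Z.Modules) (d : ℕ) (pE : ℚ[X])
    (A B : Subobject E) : Prop :=
  ∃ h : A < B, Good k L d pE A ∧ Good k L d pE B ∧ ShStab.IsStable k Z L (cokernel (Subobject.ofLE A B h.le)) d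

theorem eq_or_eq_of_isStep (hL : CohB1.IsAmple L) (hE : ShStab.IsSemistable k Z L E d) {pE : ℚ[X]}
    (hpE : ShStab.IsHilbPoly k Z L E pE) {A B W : Subobject E} (hs : IsStep k L d pE A B) (hW : Good k L d pE W)
    (hAW : A ≤ W) (hWB : W ≤ B) : W = A ∨ W = B := by
  obtain ⟨hlt, hA, hB, hst⟩ := hs
  haveI := isLocallyNoetherian_of_proper (Z := Z) k
  obtain ⟨w, hw, -⟩ := exists_mono_cokernel (Subobject.ofLE A B hlt.le) (Subobject.ofLE W B hWB)
    (Subobject.ofLE A W hAW) (Subobject.ofLE_comp_ofLE _ _ _ _ _)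
  haveI := hw
  have hQ : Coh.IsCoh (cokernel (Subobject.ofLE A W hAW)) := H10Coh.isCoh_cokernel _ hA.1.1 hW.1
  obtain ⟨pA, hpA⟩ := exists_hilb_of_mono (k := k) hL hE.2.2.1 hE.1 A.arrow hA.1
  obtain ⟨pB, hpB⟩ := exists_hilb_of_mono (k := k) hL hE.2.2.1 hE.1 B.arrow hB.1
  obtain ⟨pW, hpW⟩ := exists_hilb_of_mono (k := k) hL hE.2.2.1 hE.1 W.arrow hW.1
  by_cases h0 : IsZero (cokernel (Subobject.ofLE A W hAW))
  · haveI := Preadditive.epi_of_isZero_cokernel _ h0
    haveI := isIso_of_mono_of_epi (Subobject.ofLE A W hAW)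
    exact Or.inl (le_antisymm (Subobject.le_of_comm (inv (Subobject.ofLE A W hAW))
      (by rw [IsIso.inv_comp_eq, Subobject.ofLE_arrow])) hAW)
  by_cases hi : IsIso w
  · have h := H25Euler.hilbPoly_unique
      (H25Euler.hilbPoly_congr (asIso w) (H25Euler.polyLE_of_mono hL hA.1 hW.1 (Subobject.ofLE A W hAW) hpA hpW).2)
      (H25Euler.polyLE_of_mono hL hA.1 hB.1 (Subobject.ofLE A B hlt.le) hpA hpB).2
    rw [sub_left_inj] at h
    subst h
    haveI := isIso_of_mono_of_eq hL hW.1 hB.1 (Subobject.ofLE W B hWB) hpW hpB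
    exact Or.inr (le_antisymm hWB (Subobject.le_of_comm (inv (Subobject.ofLE W B hWB))
      (by rw [IsIso.inv_comp_eq, Subobject.ofLE_arrow])))
  · exfalso
    have hlt' := hst.2.2.2 _ w hw hQ h0 hi _ _ (H25Euler.polyLE_of_mono hL hA.1 hW.1 (Subobject.ofLE A W hAW) hpA hpW).2
      (H25Euler.polyLE_of_mono hL hA.1 hB.1 (Subobject.ofLE A B hlt.le) hpA hpB).2
    rw [redLT_iff] at hlt'
    have hαE := alpha_pos_of_pure hL hE.2.2.1 hE.1 hE.2.1 hpE
    have hz : cross d (pW - pA) (pB - pA) = 0 := by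
      refine cross_eq_zero_trans hαE.ne' (by rw [cross_sub, hW.2 pW hpW, hA.2 pA hpA, sub_zero]) ?_
      rw [cross_swap, cross_sub, hB.2 pB hpB, hA.2 pA hpA, sub_zero, neg_zero]
    rw [hz] at hlt'
    exact not_pos_zero hlt'

/-- The Jordan–Hölder lattice structure. -/
@[instance_reducible]
noncomputable def jhLattice (hL : CohB1.IsAmple L) (hE : ShStab.IsSemistable k Z L E d) {pE : ℚ[X]}
    (hpE : ShStab.IsHilbPoly k Z L E pE) : JordanHolderLattice (Subobject E) where
  IsMaximal := IsStep k L d pE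
  lt_of_isMaximal := fun h => h.1
  sup_eq_of_isMaximal := by
    intro x y z hx hy hne
    have hgood := (good_sup_inf hL hE hpE hx.2.1 hy.2.1).1
    rcases eq_or_eq_of_isStep hL hE hpE hx hgood le_sup_left (sup_le hx.1.le hy.1.le) with h | h
    · have hyx : y ≤ x := sup_eq_left.1 h
      rcases eq_or_eq_of_isStep hL hE hpE hy hx.2.1 hyx hx.1.le with h' | h'
      · exact absurd h' hne
      · exact absurd h' hx.1.ne
    · exact h
  isMaximal_inf_left_of_isMaximal_sup := by
    intro x y hx hy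
    obtain ⟨hlt, hyG, -, hst⟩ := hy
    have hgood := (good_sup_inf hL hE hpE hx.2.1 hyG).2
    have hlt' : x ⊓ y < x := lt_of_le_of_ne inf_le_left fun h => hlt.ne
      (le_antisymm le_sup_right (sup_le (inf_eq_left.1 h) le_rfl))
    obtain ⟨e⟩ := nonempty_quot_iso x y
    exact ⟨hlt', hgood, hx.2.1, isStable_congr e.symm hst⟩

theorem good_of_jh (hL : CohB1.IsAmple L) {pE : ℚ[X]} (hpE : ShStab.IsHilbPoly k Z L E pE)
    (hp : ShStab.IsPure Z E d) (hE : Coh.IsCoh E) {s : LTSeries (Subobject E)}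
    (hs : ShStab.IsJHFiltration k Z L E d s) : ∀ i, Good k L d pE (s i) := by
  intro i
  haveI := isLocallyNoetherian_of_proper (Z := Z) k
  induction i using Fin.induction with
  | zero => rw [show s 0 = ⊥ from hs.1]; exact good_bot hL pE
  | succ i ih =>
    have hle : s i.castSucc ≤ s i.succ := le_of_lt (s.step i)
    have hS : (ShortComplex.mk (Subobject.ofLE _ _ hle) (cokernel.π _) (cokernel.condition _)).ShortExact :=
      { exact := ShortComplex.exact_cokernel _ }
    have hN : Coh.IsCoh (s i.succ : Z.Modules) := H10Coh.isCoh_X₂ hS ih.1 (hs.2.2 i).1.1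
    refine ⟨hN, fun p hp' => ?_⟩
    obtain ⟨q, hq⟩ := exists_hilb_of_mono (k := k) hL hp hE (s i.castSucc).arrow ih.1
    have hfac := redEq_iff.1 ((hs.2.2 i).2 _ pE (H25Euler.polyLE_of_mono hL ih.1 hN (Subobject.ofLE _ _ hle) hq hp').2 hpE)
    rw [cross_sub, ih.2 q hq, sub_zero] at hfac
    exact hfac

theorem jh_unique (hL : CohB1.IsAmple L) (hE : ShStab.IsSemistable k Z L E d) {s t : LTSeries (Subobject E)}
    (hs : ShStab.IsJHFiltration k Z L E d s) (ht : ShStab.IsJHFiltration k Z L E d t) :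
    s.length = t.length ∧ Nonempty (grObj s ≅ grObj t) := by
  obtain ⟨pE, hpE⟩ := exists_hilb_self (k := k) hL hE.2.2.1 hE.1
  letI := jhLattice hL hE hpE
  have mkS : ∀ u : LTSeries (Subobject E), ShStab.IsJHFiltration k Z L E d u →
      ∀ i : Fin u.length, IsStep k L d pE (u i.castSucc) (u i.succ) := fun u hu i =>
    ⟨u.step i, good_of_jh hL hpE hE.2.2.1 hE.1 hu _, good_of_jh hL hpE hE.2.2.1 hE.1 hu _, (hu.2.2 i).1⟩
  let cs : CompositionSeries (Subobject E) := ⟨s.length, s, mkS s hs⟩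
  let ct : CompositionSeries (Subobject E) := ⟨t.length, t, mkS t ht⟩
  obtain ⟨f, hf⟩ := CompositionSeries.jordan_holder cs ct (hs.1.trans ht.1.symm) (hs.2.1.trans ht.2.1.symm)
  refine ⟨by simpa [cs, ct] using Fintype.card_congr f, ?_⟩
  let Q : Subobject E × Subobject E → Z.Modules := fun p =>
    cokernel (Subobject.ofLE (p.1 ⊓ p.2) p.2 inf_le_right)
  have hiso : ∀ i : Fin s.length, Nonempty (factor t (f i) ≅ factor s i) := by
    intro i
    have h : Nonempty (Q (cs i.castSucc, cs i.succ) ≅ Q (ct (f i).castSucc, ct (f i).succ)) := by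
      refine JordanHolderLattice.Iso.rel (fun p q => Nonempty (Q p ≅ Q q)) ⟨Iso.refl _⟩ (fun ⟨e⟩ => ⟨e.symm⟩)
        (fun ⟨e⟩ ⟨e'⟩ => ⟨e ≪≫ e'⟩) (fun {x y} _ => ?_) (hf i)
      obtain ⟨e⟩ := nonempty_quot_iso y x
      exact ⟨cokernelOfLEIso inf_sup_self (sup_comm x y) _ le_sup_right ≪≫ e.symm ≪≫
        cokernelOfLEIso (by rw [inf_assoc, inf_idem, inf_comm]) rfl _ _⟩
    obtain ⟨e⟩ := h
    exact ⟨(cokernelOfLEIso (inf_eq_left.2 (le_of_lt (t.step (f i)))).symm rfl _ inf_le_right ≪≫ e.symm ≪≫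
      cokernelOfLEIso (inf_eq_left.2 (le_of_lt (s.step i))) rfl _ _ : factor t (f i) ≅ factor s i)⟩
  exact ⟨Sigma.whiskerEquiv f fun i => (hiso i).some⟩

end Groth.Agent.H10Coh.Stab
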