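import Groth.Agent.H10Coh.Stab.EllHN

/-!
# Slope Harder–Narasimhan filtrations
-/

set_option autoImplicit false
set_option linter.style.haveILetI false
set_option linter.unusedSectionVars false

universe u

open CategoryTheory CategoryTheory.Limits AlgebraicGeometry Opposite TopologicalSpace Polynomial

namespace Groth.Agent.H10Coh.Stab

open StabCat

variable {k : Type u} [Field k] {Z : Scheme.{u}} [Z.Over (Spec (CommRingCat.of k))]
  [IsProper (Z ↘ Spec (CommRingCat.of k))] {L E : Z.Modules} {d : ℕ}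

theorem isEllSemistable_one_iff (hL : CohB1.IsAmple L) (hd : 1 ≤ d) :
    ShStab.IsEllSemistable k Z L E d 1 ↔ ShStab.IsPure Z E d ∧ ShStab.IsMuSemistable k Z L E d := by
  constructor
  · rintro ⟨hc, h0, hp, hss⟩
    refine ⟨hp, hc, h0, dim_self_of_pure hp hc h0, fun F ι hι hF heq => ?_,
      fun F ι hι hF pF pE hpF hpE hpos hlt => ?_⟩
    · by_cases hF0 : IsZero F
      · haveI : IsEmpty (IrreducibleCloseds (CohB1.support F)) := by
          rw [support_eq_empty_of_isZero hF0]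
          exact ⟨fun C => let ⟨x, _⟩ := C.isIrreducible.nonempty; x.2.elim⟩
        rw [topologicalKrullDim, Order.krullDim_eq_bot, WithBot.bot_add] at heq
        exact WithBot.bot_ne_coe heq
      · rw [hp F ι hι hF hF0] at heq
        have : ((d + 1 : ℕ) : WithBot ℕ∞) = (d : ℕ) := by exact_mod_cast heq
        exact absurd (by exact_mod_cast this : d + 1 = d) (by omega)
    · have hαE := hpos.trans hlt
      exact (nonneg_ecross_one_iff hd hpos hαE).1.1 (redLE_iff.1 (hss F ι hι hF pF pE hpF hpE hpos hlt))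
  · rintro ⟨hp, hc, h0, -, -, hss⟩
    exact ⟨hc, h0, hp, fun F ι hι hF pF pE hpF hpE hpos hlt => redLE_iff.2
      ((nonneg_ecross_one_iff hd hpos (hpos.trans hlt)).1.2 (hss F ι hι hF pF pE hpF hpE hpos hlt))⟩

theorem existsUnique_muHN (k : Type u) [Field k] [Z.Over (Spec (CommRingCat.of k))]
    [IsProper (Z ↘ Spec (CommRingCat.of k))] (hL : CohB1.IsAmple L) (hd : 1 ≤ d) (hE : Coh.IsCoh E) (h0 : ¬ IsZero E)
    (hp : ShStab.IsPure Z E d) :
    ∃! s : LTSeries (Subobject E),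
      s.head = ⊥ ∧ s.last = ⊤ ∧
      (∀ i : Fin s.length,
        ShStab.IsPure Z (factor s i) d ∧ ShStab.IsMuSemistable k Z L (factor s i) d) ∧
      ∀ (i j : Fin s.length), i.val + 1 = j.val →
        ∀ (p q : ℚ[X]), ShStab.IsHilbPoly k Z L (factor s i) p →
          ShStab.IsHilbPoly k Z L (factor s j) q → hatSlope d q < hatSlope d p := by
  have hα : ∀ (G : Z.Modules) (p : ℚ[X]), ShStab.IsEllSemistable k Z L G d 1 → ShStab.IsHilbPoly k Z L G p →
      0 < alpha d p := fun G p h hp => alpha_pos_of_pure hL h.2.2.1 h.1 h.2.1 hp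
  obtain ⟨s, hs⟩ := exists_ellHN (k := k) 1 hL hE h0 hp
  refine ⟨s, ⟨hs.1, hs.2.1, fun i => (isEllSemistable_one_iff hL hd).1 (hs.2.2.1 i), fun i j hij p q hp hq =>
    (nonneg_ecross_one_iff hd (hα _ q (hs.2.2.1 j) hq) (hα _ p (hs.2.2.1 i) hp)).2.1 (hs.2.2.2 i j hij p q hp hq)⟩,
    fun t ht => ?_⟩
  refine (ellHN_unique hL hs ⟨ht.1, ht.2.1, fun i => (isEllSemistable_one_iff hL hd).2 (ht.2.2.1 i),
    fun i j hij p q hp hq => ?_⟩).symm
  exact (nonneg_ecross_one_iff hd (hα _ q ((isEllSemistable_one_iff hL hd).2 (ht.2.2.1 j)) hq)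
    (hα _ p ((isEllSemistable_one_iff hL hd).2 (ht.2.2.1 i)) hp)).2.2 (ht.2.2.2 i j hij p q hp hq)

end Groth.Agent.H10Coh.Stab
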