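import Groth.Agent.H25Euler.Degree
import Groth.Agent.H06Mod.StalkExact

/-!
# Multiplication by a section of an invertible module on stalks
-/

set_option autoImplicit false
set_option linter.style.haveILetI false
set_option linter.unusedSectionVars false

universe u

open CategoryTheory CategoryTheory.Limits AlgebraicGeometry Opposite TopologicalSpace MonoidalCategory

namespace Groth.Agent.H10Coh.Stab

open Groth.Agent.H06Mod Groth.Agent.H11Ample Groth.Agent.H11Tilde

variable {X : Scheme.{u}} {M : X.Modules}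

theorem isGen_one_apply (x : X) :
    Function.Bijective fun r : X.presheaf.stalk x =>
      r • (Coh.structureModule X).presheaf.germ ⊤ x trivial (one ⊤) :=
  isGen_one ⊤ x trivial

/-- A generator of the stalk identifies it with the local ring. -/
theorem exists_stalkIso {V : X.Opens} {e : Γ(M, V)} (he : IsGen M e) {x : X} (hx : x ∈ V) :
    ∃ i : (DerSch.stalkFunctor X x).obj (Coh.structureModule X) ≅ (DerSch.stalkFunctor X x).obj M,
      ∀ r : X.presheaf.stalk x,
        i.hom (r • (Coh.structureModule X).presheaf.germ ⊤ x trivial (one ⊤)) = r • M.presheaf.germ V x hx e := by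
  let a := LinearEquiv.ofBijective (LinearMap.toSpanSingleton (X.presheaf.stalk x) _
    ((Coh.structureModule X).presheaf.germ ⊤ x trivial (one ⊤))) (isGen_one_apply x)
  let b := LinearEquiv.ofBijective (LinearMap.toSpanSingleton (X.presheaf.stalk x) _
    (M.presheaf.germ V x hx e)) (he x hx)
  exact ⟨(a.symm ≪≫ₗ b).toModuleIso, fun r => congrArg b (a.symm_apply_apply r)⟩

/-- On stalks a map from the structure module is a multiple of a generator. -/
theorem exists_smul_iso (hM : PicF.IsInvertible M) (s : Coh.structureModule X ⟶ M) (x : X) :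
    ∃ (V : X.Opens) (hx : x ∈ V) (c : Γ(X, V)), X.basicOpen c = CohB1.genLocus M s ⊓ V ∧
      ∃ i : (DerSch.stalkFunctor X x).obj (Coh.structureModule X) ≅ (DerSch.stalkFunctor X x).obj M,
        (DerSch.stalkFunctor X x).map s = X.presheaf.germ V x hx c • i.hom := by
  obtain ⟨V, e, hx, he⟩ := exists_gen hM x
  let σ := SecTwist.val s ⊤
  obtain ⟨c, hc⟩ := exists_coeff he (M.presheaf.map (homOfLE le_top).op σ)
  refine ⟨V, hx, c, by rw [genLocus_eq_gen, gen_inf_eq_basicOpen he σ c hc], ?_⟩
  obtain ⟨i, hi⟩ := exists_stalkIso he hx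
  refine ⟨i, ModuleCat.hom_ext (LinearMap.ext fun v => ?_)⟩
  obtain ⟨r, rfl⟩ := (isGen_one_apply x).2 v
  show stalkLin s x (r • _) = X.presheaf.germ V x hx c • i.hom (r • _)
  refine (map_smul (stalkLin s x) r _).trans (Eq.trans ?_ (congrArg (X.presheaf.germ V x hx c • ·) (hi r)).symm)
  refine Eq.trans (congrArg (r • ·) (stalkLin_germ s x ⊤ trivial (one ⊤))) ?_
  show r • _ = X.presheaf.germ V x hx c • r • _
  refine Eq.trans ?_ ((smul_smul r (X.presheaf.germ V x hx c) _).trans ((congrArg (· • _) (mul_comm _ _)).trans (smul_smul _ r _).symm))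
  refine congrArg (r • ·) ?_
  have h := congrArg (M.presheaf.germ V x hx) hc
  rw [TopCat.Presheaf.germ_res_apply, germ_smul] at h
  exact h

/-- Multiplication by a section, on stalks. -/
theorem exists_mulHom_smul (F : X.Modules) (hM : PicF.IsInvertible M) (s : Coh.structureModule X ⟶ M) (x : X) :
    ∃ (V : X.Opens) (hx : x ∈ V) (c : Γ(X, V)), X.basicOpen c = CohB1.genLocus M s ⊓ V ∧
      ∃ i : (DerSch.stalkFunctor X x).obj F ≅ (DerSch.stalkFunctor X x).obj (CohB1.tensorMod F M),
        (DerSch.stalkFunctor X x).map (H25Euler.mulHom F s) = X.presheaf.germ V x hx c • i.hom := by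
  obtain ⟨V, hx, c, hV, i, hi⟩ := exists_smul_iso hM s x
  refine ⟨V, hx, c, hV, ?_⟩
  let ν := H16Derived.KFlat.Stalk.leftIso F x
  let T := (DCoh.tensorBi (X := X)).obj F
  have h : (DerSch.stalkFunctor X x).map (T.map s) = X.presheaf.germ V x hx c •
      (ν.hom.app _ ≫ ((DerSch.stalkFunctor X x).obj F ◁ i.hom) ≫ ν.inv.app _) := by
    have hn := NatIso.naturality_2 ν (f := s)
    refine hn.symm.trans ?_
    rw [Functor.comp_map, hi]
    show ν.hom.app _ ≫ ((DerSch.stalkFunctor X x).obj F ◁ (X.presheaf.germ V x hx c • i.hom)) ≫ ν.inv.app _ = _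
    rw [MonoidalLinear.whiskerLeft_smul, Linear.smul_comp, Linear.comp_smul]
  let j₁ := (DerSch.stalkFunctor X x).map (H10Coh.Tw.rightUnitIso F).inv ≫
    (DerSch.stalkFunctor X x).map (eqToHom (H25Euler.tensorBi_obj_obj F (Coh.structureModule X)).symm)
  let j₂ := (DerSch.stalkFunctor X x).map (eqToHom (H25Euler.tensorBi_obj_obj F M))
  haveI : IsIso (ν.hom.app (Coh.structureModule X) ≫ ((DerSch.stalkFunctor X x).obj F ◁ i.hom) ≫ ν.inv.app M) :=
    inferInstance
  refine ⟨asIso (j₁ ≫ (ν.hom.app _ ≫ ((DerSch.stalkFunctor X x).obj F ◁ i.hom) ≫ ν.inv.app _) ≫ j₂), ?_⟩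
  rw [H25Euler.mulHom, Functor.map_comp, Functor.map_comp, Functor.map_comp]
  show _ ≫ _ ≫ (DerSch.stalkFunctor X x).map (T.map s) ≫ j₂ = _
  rw [h, Linear.smul_comp, Linear.comp_smul, Linear.comp_smul]
  simp [j₁, j₂]

/-- The stalk of a twist is the stalk. -/
theorem nonempty_stalkIso_tensor (F : X.Modules) (hM : PicF.IsInvertible M) (x : X) :
    Nonempty ((DerSch.stalkFunctor X x).obj F ≅ (DerSch.stalkFunctor X x).obj (CohB1.tensorMod F M)) := by
  obtain ⟨V, hx, c, -, i, -⟩ := exists_mulHom_smul F hM (0 : Coh.structureModule X ⟶ M) x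
  exact ⟨i⟩

end Groth.Agent.H10Coh.Stab
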