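import Groth.Agent.H10Coh.Stab.MulStalk
import Groth.Agent.H10Coh.Proper
import Groth.Agent.H8Props.FunDescent.Stalk

/-!
# A quotient on which a section of an invertible module acts injectively
-/

set_option autoImplicit false
set_option linter.style.haveILetI false
set_option linter.unusedSectionVars false

universe u

open CategoryTheory CategoryTheory.Limits AlgebraicGeometry Opposite TopologicalSpace

namespace Groth.Agent.H10Coh.Stab

open Groth.Agent.H06Mod

variable {X : Scheme.{u}} [X.IsSeparated] [IsLocallyNoetherian X]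

theorem exists_kernel_section {A B : X.Modules} (φ : A ⟶ B) (W : X.Opens) (w : Γ(A, W)) (hw : φ.app W w = 0) :
    ∃ a, (kernel.ι φ).app W a = w := by
  let G : X.Modules ⥤ AddCommGrpCat.{u} :=
    Scheme.Modules.toPresheaf X ⋙ (evaluation (Opens X)ᵒᵖ AddCommGrpCat.{u}).obj (op W)
  haveI : (Scheme.Modules.toPresheaf X).Additive := ⟨rfl⟩
  haveI : G.PreservesZeroMorphisms := { map_zero := fun _ _ => rfl }
  haveI : PreservesFiniteLimits (Scheme.Modules.toPresheaf X) :=
    PreservesLimitsOfSize.preservesFiniteLimits _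
  haveI : PreservesFiniteLimits ((evaluation (Opens X)ᵒᵖ AddCommGrpCat.{u}).obj (op W)) := inferInstance
  haveI : PreservesFiniteLimits G := comp_preservesFiniteLimits _ _
  haveI : G.PreservesMonomorphisms := inferInstance
  exact (ShortComplex.ab_exact_iff _).mp
    ((ShortComplex.exact_kernel φ).map_of_mono_of_preservesKernel G inferInstance inferInstance) w hw

/-- Sections of `F` supported off an affine generating locus span the kernel of a good quotient. -/
theorem exists_injective_quotient {F M : X.Modules} (hF : Coh.IsCoh F) (hM : PicF.IsInvertible M)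
    (s : Coh.structureModule X ⟶ M) (hD : IsAffineOpen (CohB1.genLocus M s)) :
    ∃ (G : X.Modules) (π : F ⟶ G), Coh.IsCoh G ∧ Epi π ∧ Mono (H25Euler.mulHom G s) ∧
      ∀ x ∈ CohB1.genLocus M s, x ∈ CohB1.support F → x ∈ CohB1.support G := by
  let D : X.Opens := CohB1.genLocus M s
  haveI : F.IsQuasicoherent := hF.1
  haveI := H10Coh.isAffineHom_ι_of_isAffineOpen hD
  haveI : (F.restrict D.ι).IsQuasicoherent := Scheme.Modules.isQuasicoherent_restrictFunctor D.ι F
  let η := (Scheme.Modules.restrictAdjunction D.ι).unit.app F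
  have hPq : Coh.IsQCoh ((Scheme.Modules.pushforward D.ι).obj (F.restrict D.ι)) :=
    H10Coh.isQuasicoherent_pushforward_of_isAffineHom D.ι (F.restrict D.ι)
  have hK : Coh.IsCoh (kernel η) := H10Coh.isCoh_kernel η hF hPq
  let S := ShortComplex.mk (kernel.ι η) (cokernel.π (kernel.ι η)) (cokernel.condition _)
  have hS : S.ShortExact := { exact := ShortComplex.exact_cokernel _ }
  -- the kernel on stalks
  have hker : ∀ (x : X) (v : F.presheaf.stalk x), stalkLin S.g x v = 0 ↔
      ∃ (W : X.Opens) (hx : x ∈ W) (w : Γ(F, W)), F.presheaf.germ W x hx w = v ∧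
        F.presheaf.map (homOfLE (inf_le_left : W ⊓ D ≤ W)).op w = 0 := by
    intro x v
    constructor
    · intro hv
      obtain ⟨a, rfl⟩ := (stalk_exact S hS x v).1 hv
      obtain ⟨W, hx, a, rfl⟩ := S.X₁.presheaf.exists_germ_eq a
      refine ⟨W, hx, (kernel.ι η).app W a, (stalkLin_germ (kernel.ι η) x W hx a).symm, ?_⟩
      have h0 : η.app W ((kernel.ι η).app W a) = 0 :=
        ConcreteCategory.congr_hom (congrArg (fun φ => Scheme.Modules.Hom.app φ W) (kernel.condition η)) a
      have hle : W ⊓ D ≤ D.ι ''ᵁ (D.ι ⁻¹ᵁ W) := fun z hz => ⟨⟨z, hz.2⟩, hz.1, rfl⟩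
      have h1 := congrArg (F.presheaf.map (homOfLE hle).op) h0
      refine Eq.trans ?_ (h1.trans (map_zero (F.presheaf.map (homOfLE hle).op).hom))
      show _ = F.presheaf.map _ (F.presheaf.map (homOfLE (D.ι.image_preimage_le W)).op _)
      exact ConcreteCategory.congr_hom
        (F.presheaf.map_comp (homOfLE (D.ι.image_preimage_le W)).op (homOfLE hle).op) _
    · rintro ⟨W, hx, w, rfl, hw⟩
      have hle : D.ι ''ᵁ (D.ι ⁻¹ᵁ W) ≤ W ⊓ D := by
        rintro z ⟨z', hz', rfl⟩
        exact ⟨hz', z'.2⟩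
      have h0 : η.app W w = 0 := by
        have h1 := congrArg (F.presheaf.map (homOfLE hle).op) hw
        rw [map_zero, ← ConcreteCategory.comp_apply, ← Functor.map_comp] at h1
        exact h1
      obtain ⟨a, rfl⟩ := exists_kernel_section η W w h0
      rw [show F.presheaf.germ W x hx ((kernel.ι η).app W a) = stalkLin (kernel.ι η) x ((kernel η).presheaf.germ W x hx a)
        from (stalkLin_germ (kernel.ι η) x W hx a).symm]
      exact (stalk_exact S hS x _).2 ⟨_, rfl⟩
  refine ⟨cokernel (kernel.ι η), S.g, H10Coh.isCoh_cokernel _ hK.1 hF, inferInstance, ?_, ?_⟩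
  · refine (H8Props.FunDescent.mono_iff _).2 fun x => ?_
    obtain ⟨V, hxV, c, hV, i, hi⟩ := exists_mulHom_smul (cokernel (kernel.ι η)) hM s x
    have hi' : Function.Injective i.hom := (ConcreteCategory.bijective_of_isIso i.hom).1
    refine (injective_iff_map_eq_zero _).2 fun g hg => ?_
    obtain ⟨v, rfl⟩ := stalk_surjective S hS x g
    have hcv : X.presheaf.germ V x hxV c • stalkLin S.g x v = 0 := hi'
      ((map_smul i.hom.hom _ _).trans ((LinearMap.congr_fun (congrArg ModuleCat.Hom.hom hi) _).symm.trans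
        (hg.trans (map_zero i.hom.hom).symm)))
    rw [← map_smul] at hcv
    obtain ⟨W₀, hx₀, w, rfl⟩ := F.presheaf.exists_germ_eq v
    obtain ⟨W, hxW, u, hu, hu0⟩ := (hker x _).1 hcv
    have h2 : F.presheaf.germ W x hxW u = F.presheaf.germ (W₀ ⊓ V) x ⟨hx₀, hxV⟩
        (X.presheaf.map (homOfLE (inf_le_right : W₀ ⊓ V ≤ V)).op c • F.presheaf.map (homOfLE (inf_le_left : W₀ ⊓ V ≤ W₀)).op w) := by
      rw [hu, germ_smul, TopCat.Presheaf.germ_res_apply, TopCat.Presheaf.germ_res_apply]
    obtain ⟨W', hxW', j₁, j₂, heq⟩ := F.presheaf.germ_eq x _ _ _ _ h2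
    refine (hker x _).2 ⟨W', hxW', F.presheaf.map (homOfLE (j₂.le.trans inf_le_left)).op w,
      F.presheaf.germ_res_apply _ x hxW' w, ?_⟩
    have hunit : IsUnit (X.presheaf.map (homOfLE (inf_le_left.trans (j₂.le.trans inf_le_right) : W' ⊓ D ≤ V)).op c) := by
      refine RingedSpace.isUnit_of_isUnit_germ X.toLocallyRingedSpace.toRingedSpace _ _ fun z hz => ?_
      refine Eq.mpr (congrArg IsUnit (TopCat.Presheaf.germ_res_apply X.presheaf _ z hz c)) ?_
      exact (X.mem_basicOpen c z _).1 (hV.ge ⟨hz.2, (j₂.le hz.1).2⟩)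
    refine hunit.smul_eq_zero.1 ?_
    have h3 := congrArg (F.presheaf.map (homOfLE (inf_le_left : W' ⊓ D ≤ W')).op) heq
    rw [← ConcreteCategory.comp_apply, ← Functor.map_comp] at h3
    have h4 := congrArg (F.presheaf.map (homOfLE (le_inf (inf_le_left.trans j₁.le) inf_le_right :
      W' ⊓ D ≤ W ⊓ D)).op) hu0
    rw [map_zero, ← ConcreteCategory.comp_apply, ← Functor.map_comp] at h4
    refine Eq.trans ?_ h4
    refine Eq.trans ?_ h3.symm
    rw [Scheme.Modules.map_smul, Scheme.Modules.map_smul]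
    simp only [← ConcreteCategory.comp_apply, ← Functor.map_comp]
    rfl
  · intro x hxD hxF hsub
    refine hxF ⟨fun a b => ?_⟩
    suffices h : ∀ v : F.presheaf.stalk x, v = 0 from (h a).trans (h b).symm
    intro v
    obtain ⟨W, hx, w, rfl, hw⟩ := (hker x v).1 (Subsingleton.elim (h := hsub) _ _)
    rw [← F.presheaf.germ_res_apply (homOfLE (inf_le_left : W ⊓ D ≤ W)) x ⟨hx, hxD⟩ w, hw, map_zero]

end Groth.Agent.H10Coh.Stab
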