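import Groth.Agent.H10Coh.Stab.Sub

/-!
# Submodules and quotients of a semistable sheaf with the same reduced polynomial
-/

set_option autoImplicit false
set_option linter.style.haveILetI false
set_option linter.unusedSectionVars false

universe u

open CategoryTheory CategoryTheory.Limits AlgebraicGeometry Opposite TopologicalSpace Polynomial

namespace Groth.Agent.H10Coh.Stab

open StabCat

theorem cross_sub_right (d : ℕ) (K E : ℚ[X]) : cross d E (E - K) = cross d K E := by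
  rw [cross_swap d (E - K) E, cross_sub, cross_self]
  abel

theorem Nonneg.of_eq_zero {P : ℚ[X]} (h : P = 0) : Nonneg P := ⟨0, fun m _ => by simp [h]⟩

theorem cross_eq_zero_trans {d : ℕ} {P Q R : ℚ[X]} (hQ : alpha d Q ≠ 0) (h₁ : cross d P Q = 0)
    (h₂ : cross d Q R = 0) : cross d P R = 0 := by
  have h := cross_trans d P Q R
  rw [h₁, h₂, smul_zero, smul_zero, add_zero] at h
  exact (smul_eq_zero.1 h).resolve_left hQ

variable {k : Type u} [Field k] {Z : Scheme.{u}} [Z.Over (Spec (CommRingCat.of k))]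
  [IsProper (Z ↘ Spec (CommRingCat.of k))] {L E : Z.Modules} {d : ℕ}

theorem exists_preimage (hL : CohB1.IsAmple L) (hp : ShStab.IsPure Z E d) (hE : Coh.IsCoh E) {F T : Z.Modules}
    (f : F ⟶ E) [Mono f] (hF : Coh.IsCoh F) (t : T ⟶ cokernel f) [Mono t] (hT : Coh.IsCoh T) {pF pT : ℚ[X]}
    (hpF : ShStab.IsHilbPoly k Z L F pF) (hpT : ShStab.IsHilbPoly k Z L T pT) :
    ∃ (N : Z.Modules) (n : N ⟶ E) (a : F ⟶ N), Mono n ∧ Coh.IsCoh N ∧ a ≫ n = f ∧ Nonempty (cokernel a ≅ T) ∧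
      ShStab.IsHilbPoly k Z L N (pF + pT) := by
  haveI := isLocallyNoetherian_of_proper (Z := Z) k
  let e : E ⟶ cokernel t := cokernel.π f ≫ cokernel.π t
  have hC : Coh.IsCoh (cokernel f) := H10Coh.isCoh_cokernel f hF.1 hE
  have hN : Coh.IsCoh (kernel e) := H10Coh.isCoh_kernel e hE (H10Coh.isCoh_cokernel t hT.1 hC).1
  let a : F ⟶ kernel e := kernel.lift e f (by simp [e])
  have hker : IsLimit (KernelFork.ofι t (cokernel.condition t)) :=
    Abelian.monoIsKernelOfCokernel (CokernelCofork.ofπ (cokernel.π t) (cokernel.condition t)) (cokernelIsCokernel t)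
  have hkerf : IsLimit (KernelFork.ofι f (cokernel.condition f)) :=
    Abelian.monoIsKernelOfCokernel (CokernelCofork.ofπ (cokernel.π f) (cokernel.condition f)) (cokernelIsCokernel f)
  obtain ⟨ψ, hψ⟩ : { l : kernel e ⟶ T // l ≫ t = kernel.ι e ≫ cokernel.π f } :=
    KernelFork.IsLimit.lift' hker (kernel.ι e ≫ cokernel.π f) (by
      show (kernel.ι e ≫ cokernel.π f) ≫ cokernel.π t = 0
      rw [Category.assoc]; exact kernel.condition e)
  haveI : Mono a := mono_of_mono_fac (kernel.lift_ι e f _)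
  have haψ : a ≫ ψ = 0 := by
    rw [← cancel_mono t, Category.assoc, hψ, ← Category.assoc, kernel.lift_ι, cokernel.condition, Limits.zero_comp]
  haveI : Epi ψ := by
    have hpb : IsPullback (kernel.ι e) ψ (cokernel.π f) t := by
      refine IsPullback.of_isLimit (PullbackCone.IsLimit.mk hψ.symm
        (fun s => kernel.lift e s.fst (by
          show s.fst ≫ cokernel.π f ≫ cokernel.π t = 0
          rw [← Category.assoc, s.condition, Category.assoc, cokernel.condition, Limits.comp_zero]))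
        (fun s => kernel.lift_ι _ _ _) (fun s => ?_) (fun s m h₁ _ => ?_))
      · rw [← cancel_mono t, Category.assoc, hψ, kernel.lift_ι_assoc, s.condition]
      · rw [← cancel_mono (kernel.ι e), kernel.lift_ι, h₁]
    exact Abelian.epi_snd_of_isLimit (cokernel.π f) t hpb.isLimit
  have hex : (ShortComplex.mk a ψ haψ).ShortExact := by
    refine ShortComplex.ShortExact.mk' (ShortComplex.exact_of_f_is_kernel _ ?_) inferInstance inferInstance
    refine KernelFork.IsLimit.ofι' a haψ fun {W} g hg => ?_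
    obtain ⟨l, hl⟩ := KernelFork.IsLimit.lift' hkerf (g ≫ kernel.ι e) (by
      show (g ≫ kernel.ι e) ≫ cokernel.π f = 0
      rw [Category.assoc, ← hψ, ← Category.assoc, hg, Limits.zero_comp])
    refine ⟨l, ?_⟩
    rw [← cancel_mono (kernel.ι e), Category.assoc, kernel.lift_ι]
    exact hl
  let i : cokernel a ≅ T := IsColimit.coconePointUniqueUpToIso (cokernelIsCokernel a) hex.gIsCokernel
  refine ⟨kernel e, kernel.ι e, a, inferInstance, hN, kernel.lift_ι _ _ _, ⟨i⟩, ?_⟩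
  obtain ⟨pN, hpN⟩ := exists_hilb_of_mono (k := k) hL hp hE (kernel.ι e) hN
  have h := H25Euler.hilbPoly_unique hpT (H25Euler.hilbPoly_congr i (H25Euler.polyLE_of_mono hL hF hN a hpF hpN).2)
  rw [h, add_sub_cancel]
  exact hpN

theorem dim_le_of_subquot (hp : ShStab.IsPure Z E d) (hE : Coh.IsCoh E) {F T : Z.Modules} (f : F ⟶ E)
    (t : T ⟶ cokernel f) [Mono t] : topologicalKrullDim (CohB1.support T) < ((d + 1 : ℕ) : WithBot ℕ∞) :=
  H25Euler.dim_lt_of_subset ((H25Euler.support_subset_of_mono t).trans (H25Euler.support_cokernel_subset f))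
    (dim_lt_succ_of_pure hp hE)

theorem isSemistable_sub (hL : CohB1.IsAmple L) (hE : ShStab.IsSemistable k Z L E d) {N : Z.Modules} (ι : N ⟶ E)
    [Mono ι] (hN : Coh.IsCoh N) (h0 : ¬ IsZero N) {pN pE : ℚ[X]} (hpN : ShStab.IsHilbPoly k Z L N pN)
    (hpE : ShStab.IsHilbPoly k Z L E pE) (hx : cross d pN pE = 0) : ShStab.IsSemistable k Z L N d := by
  obtain ⟨hc, hE0, hp, hss⟩ := hE
  refine ⟨hN, h0, isPure_of_mono hp ι, fun F κ hκ hF hF0 hi pF pN' hpF hpN' => ?_⟩
  obtain rfl := H25Euler.hilbPoly_unique hpN hpN'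
  haveI := hκ
  haveI : Mono (κ ≫ ι) := mono_comp κ ι
  have hαF := alpha_pos_of_pure hL (isPure_of_mono hp (κ ≫ ι)) hF hF0 hpF
  have hαN := alpha_pos_of_pure hL (isPure_of_mono hp ι) hN h0 hpN
  have hαE := alpha_pos_of_pure hL hp hc hE0 hpE
  have h : RedLE d pF pE := by
    by_cases hi' : IsIso (κ ≫ ι)
    · rw [H25Euler.hilbPoly_unique hpF (H25Euler.hilbPoly_congr (asIso (κ ≫ ι)).symm hpE)]
      exact redLE_of_redEq (redEq_refl _ _)
    · exact hss F (κ ≫ ι) inferInstance hF hF0 hi' pF pE hpF hpE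
  exact redLE_trans hαF.le hαE hαN.le h (redLE_of_redEq (redEq_symm (redEq_iff.2 hx)))

theorem isSemistable_quot (hL : CohB1.IsAmple L) (hE : ShStab.IsSemistable k Z L E d) {N : Z.Modules} (ι : N ⟶ E)
    [Mono ι] (hN : Coh.IsCoh N) (h0 : ¬ IsZero (cokernel ι)) {pN pE : ℚ[X]} (hpN : ShStab.IsHilbPoly k Z L N pN)
    (hpE : ShStab.IsHilbPoly k Z L E pE) (hx : cross d pN pE = 0) :
    ShStab.IsSemistable k Z L (cokernel ι) d ∧ cross d (pE - pN) pE = 0 := by
  obtain ⟨hc, hE0, hp, hss⟩ := hE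
  haveI := isLocallyNoetherian_of_proper (Z := Z) k
  have hQ : Coh.IsCoh (cokernel ι) := H10Coh.isCoh_cokernel ι hN.1 hc
  have hpQ : ShStab.IsHilbPoly k Z L (cokernel ι) (pE - pN) := (H25Euler.polyLE_of_mono hL hN hc ι hpN hpE).2
  have hxQ : cross d (pE - pN) pE = 0 := by rw [cross_sub, cross_self, hx, sub_zero]
  have hαE := alpha_pos_of_pure hL hp hc hE0 hpE
  have hsub : ∀ (T : Z.Modules) (t : T ⟶ cokernel ι), Mono t → Coh.IsCoh T → ∀ pT : ℚ[X],
      ShStab.IsHilbPoly k Z L T pT → Nonneg (cross d pT pE) := by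
    intro T t ht hT pT hpT
    haveI := ht
    obtain ⟨M, m, a, hm, hM, -, -, hpM⟩ := exists_preimage hL hp hc ι hN t hT hpN hpT
    by_cases hM0 : IsZero M
    · have h := H25Euler.hilbPoly_unique hpM (H25Euler.hilbPoly_zero hM0)
      refine Nonneg.of_eq_zero ?_
      have h' := cross_add d pN pT pE
      rw [h, cross_zero_left, hx, zero_add] at h'
      exact h'.symm
    · haveI := hm
      have h : RedLE d (pN + pT) pE := by
        by_cases hi : IsIso m
        · rw [H25Euler.hilbPoly_unique hpM (H25Euler.hilbPoly_congr (asIso m).symm hpE)]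
          exact redLE_of_redEq (redEq_refl _ _)
        · exact hss M m hm hM hM0 hi _ pE hpM hpE
      rw [redLE_iff, cross_add, hx, zero_add] at h
      exact h
  have hpure : ShStab.IsPure Z (cokernel ι) d := by
    intro T t ht hT hT0
    haveI := ht
    have hle : topologicalKrullDim (CohB1.support T) ≤ (d : WithBot ℕ∞) :=
      dim_self_of_pure hp hc hE0 ▸ Topology.IsInducing.topologicalKrullDim_le
        (f := Set.inclusion ((H25Euler.support_subset_of_mono t).trans (H25Euler.support_cokernel_subset ι)))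
        (Topology.IsEmbedding.inclusion _).isInducing
    by_contra hne
    have hlt : topologicalKrullDim (CohB1.support T) < (d : WithBot ℕ∞) := lt_of_le_of_ne hle hne
    obtain ⟨pT, hpT⟩ := H25Euler.exists_hilbPoly (k := k) hL hT hlt
    have h := hsub T t ht hT pT hpT
    have hαT : alpha d pT = 0 := by rw [alpha, H25Euler.coeff_hilbPoly_eq_zero hL hT hpT hlt le_rfl, mul_zero]
    rw [cross, hαT, zero_smul, zero_sub] at h
    exact not_pos_of_nonneg_neg h ((hilbPoly_pos hL hT hT0 hpT).smul hαE)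
  refine ⟨⟨hQ, h0, hpure, fun T t ht hT hT0 _ pT pQ' hpT hpQ' => ?_⟩, hxQ⟩
  obtain rfl := H25Euler.hilbPoly_unique hpQ hpQ'
  haveI := ht
  exact redLE_trans (alpha_pos_of_pure hL (isPure_of_mono hpure t) hT hT0 hpT).le hαE
    (alpha_pos_of_pure hL hpure hQ h0 hpQ).le (redLE_iff.2 (hsub T t ht hT pT hpT))
    (redLE_of_redEq (redEq_symm (redEq_iff.2 hxQ)))

theorem exists_stable_sub (hL : CohB1.IsAmple L) (hE : ShStab.IsSemistable k Z L E d) {pE : ℚ[X]}
    (hpE : ShStab.IsHilbPoly k Z L E pE) :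
    ∃ (T : Z.Modules) (t : T ⟶ E) (pT : ℚ[X]), Mono t ∧ ShStab.IsStable k Z L T d ∧
      ShStab.IsHilbPoly k Z L T pT ∧ cross d pT pE = 0 := by
  classical
  obtain ⟨hc, hE0, hp, hss⟩ := hE
  let C : ∀ T : Z.Modules, (T ⟶ E) → ℚ[X] → Prop := fun T t pT =>
    Mono t ∧ Coh.IsCoh T ∧ ¬ IsZero T ∧ ShStab.IsHilbPoly k Z L T pT ∧ cross d pT pE = 0
  have hnat : ∀ T t pT, C T t pT → ∃ n : ℕ, alpha d pT = n := by
    rintro T t pT ⟨ht, hT, hT0, hpT, -⟩
    haveI := ht
    obtain ⟨z, hz⟩ := exists_int_alpha_hilb hL (isPure_of_mono hp t) hT hpT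
    have hpos := alpha_pos_of_pure hL (isPure_of_mono hp t) hT hT0 hpT
    rw [hz, Int.cast_pos] at hpos
    obtain ⟨n, rfl⟩ := Int.eq_ofNat_of_zero_le hpos.le
    exact ⟨n, by rw [hz]; norm_cast⟩
  have hC0 : C E (𝟙 E) pE := ⟨inferInstance, hc, hE0, hpE, cross_self d pE⟩
  have hex : ∃ n : ℕ, ∃ T t pT, C T t pT ∧ alpha d pT = n :=
    ⟨(hnat _ _ _ hC0).choose, E, 𝟙 E, pE, hC0, (hnat _ _ _ hC0).choose_spec⟩
  obtain ⟨T, t, pT, ⟨ht, hT, hT0, hpT, hx⟩, hαT⟩ := Nat.find_spec hex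
  haveI := ht
  have hTp := isPure_of_mono hp t
  have hTss := isSemistable_sub hL ⟨hc, hE0, hp, hss⟩ t hT hT0 hpT hpE hx
  refine ⟨T, t, pT, ht, ⟨hT, hT0, hTp, fun F κ hκ hF hF0 hi pF pT' hpF hpT' => ?_⟩, hpT, hx⟩
  obtain rfl := H25Euler.hilbPoly_unique hpT hpT'
  haveI := hκ
  haveI : Mono (κ ≫ t) := mono_comp κ t
  have hαT' := alpha_pos_of_pure hL hTp hT hT0 hpT
  rcases (redLE_iff.1 (hTss.2.2.2 F κ hκ hF hF0 hi pF pT hpF hpT)).eq_zero_or_pos with h | h
  · have hCF : C F (κ ≫ t) pF := ⟨inferInstance, hF, hF0, hpF, cross_eq_zero_trans hαT'.ne' h hx⟩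
    obtain ⟨n, hn⟩ := hnat _ _ _ hCF
    have hge := Nat.find_min' hex ⟨F, κ ≫ t, pF, hCF, hn⟩
    have heq : alpha d pF = alpha d pT :=
      le_antisymm (alpha_le_of_mono hL hTp hT hF κ hpF hpT) (by rw [hαT, hn]; exact_mod_cast hge)
    exact redLT_of_alpha_eq hL hT hF κ hi hpF hpT (heq ▸ hαT') heq
  · exact redLT_iff.2 h

end Groth.Agent.H10Coh.Stab
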