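import Groth.Agent.H10Coh.Stab.SemiQuot
import Groth.Agent.H25Euler.Saturate

/-!
# Semistability through saturated submodules and quotients
-/

set_option autoImplicit false
set_option linter.style.haveILetI false
set_option linter.unusedSectionVars false

universe u

open CategoryTheory CategoryTheory.Limits AlgebraicGeometry Opposite TopologicalSpace Polynomial

namespace Groth.Agent.H10Coh.Stab

open StabCat

variable {k : Type u} [Field k] {Z : Scheme.{u}} [Z.Over (Spec (CommRingCat.of k))]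
  [IsProper (Z ↘ Spec (CommRingCat.of k))] {L E : Z.Modules} {d : ℕ}

/-- The four conditions, for a relation `R` which is one of `RedLE d`, `RedLT d`. -/
theorem tfae_gen (hL : CohB1.IsAmple L) (hE : Coh.IsCoh E) (h0 : ¬ IsZero E) (hp : ShStab.IsPure Z E d)
    (R : ℚ[X] → ℚ[X] → Prop) (hR : ∀ P Q, R P Q → R Q (Q - P)) (hR' : ∀ P Q, R Q (Q - P) → R P Q)
    (hself : ∀ F (ι : F ⟶ E), Mono ι → Coh.IsCoh F → ¬ IsIso ι → ∀ pF pE : ℚ[X],
      ShStab.IsHilbPoly k Z L F pF → ShStab.IsHilbPoly k Z L E pE → 0 < alpha d pF →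
      alpha d pF = alpha d pE → R pF pE)
    (htrans : ∀ P Q S : ℚ[X], 0 < alpha d P → 0 < alpha d Q → 0 < alpha d S → RedLE d P Q → R Q S → R P S) :
    [∀ (F : Z.Modules) (ι : F ⟶ E), Mono ι → Coh.IsCoh F → ¬ IsZero F → ¬ IsIso ι →
        ∀ (pF pE : ℚ[X]), ShStab.IsHilbPoly k Z L F pF → ShStab.IsHilbPoly k Z L E pE → R pF pE,
      ∀ (F : Z.Modules) (ι : F ⟶ E), Mono ι → Coh.IsCoh F → ¬ IsZero F → ¬ IsIso ι →
        ShStab.IsPure Z (cokernel ι) d →
        ∀ (pF pE : ℚ[X]), ShStab.IsHilbPoly k Z L F pF → ShStab.IsHilbPoly k Z L E pE → R pF pE,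
      ∀ (G : Z.Modules) (π : E ⟶ G), Epi π → Coh.IsCoh G → ¬ IsIso π →
        ∀ (pE pG : ℚ[X]), ShStab.IsHilbPoly k Z L E pE → ShStab.IsHilbPoly k Z L G pG → 0 < alpha d pG → R pE pG,
      ∀ (G : Z.Modules) (π : E ⟶ G), Epi π → Coh.IsCoh G → ¬ IsZero G → ¬ IsIso π →
        ShStab.IsPure Z G d →
        ∀ (pE pG : ℚ[X]), ShStab.IsHilbPoly k Z L E pE → ShStab.IsHilbPoly k Z L G pG → R pE pG].TFAE := by
  haveI := isLocallyNoetherian_of_proper (Z := Z) k
  tfae_have 1 → 3 := by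
    intro h G π hπ hG hi pE pG hpE hpG hpos
    haveI := hπ
    have hK : Coh.IsCoh (kernel π) := H10Coh.isCoh_kernel π hE hG.1
    have hK0 : ¬ IsZero (kernel π) := fun h => hi (by
      haveI := Preadditive.mono_of_isZero_kernel π h
      exact isIso_of_mono_of_epi π)
    have hKi : ¬ IsIso (kernel.ι π) := fun h => by
      have hπ0 : π = 0 := by rw [← cancel_epi (kernel.ι π), kernel.condition, Limits.comp_zero]
      refine (ne_of_gt hpos) ?_
      have hz : IsZero G := (IsZero.iff_id_eq_zero _).2 (by rw [← cancel_epi π, hπ0, Limits.zero_comp, Limits.zero_comp])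
      rw [H25Euler.hilbPoly_unique hpG (H25Euler.hilbPoly_zero hz), alpha_zero]
    obtain ⟨pK, hpK⟩ := exists_hilb_of_mono (k := k) hL hp hE (kernel.ι π) hK
    have hpG' : ShStab.IsHilbPoly k Z L G (pE - pK) := H25Euler.hilbPoly_congr
      (IsColimit.coconePointUniqueUpToIso (cokernelIsCokernel (kernel.ι π))
        (Abelian.epiIsCokernelOfKernel (KernelFork.ofι (kernel.ι π) (kernel.condition π)) (kernelIsKernel π)))
      (H25Euler.polyLE_of_mono hL hK hE (kernel.ι π) hpK hpE).2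
    rw [H25Euler.hilbPoly_unique hpG hpG']
    exact hR _ _ (h (kernel π) (kernel.ι π) inferInstance hK hK0 hKi pK pE hpK hpE)
  tfae_have 3 → 4 := fun h G π hπ hG hG0 hi hGp pE pG hpE hpG =>
    h G π hπ hG hi pE pG hpE hpG (alpha_pos_of_pure hL hGp hG hG0 hpG)
  tfae_have 4 → 2 := by
    intro h F ι hι hF hF0 hi hGp pF pE hpF hpE
    haveI := hι
    refine hR' _ _ (h (cokernel ι) (cokernel.π ι) inferInstance (H10Coh.isCoh_cokernel ι hF.1 hE) (fun hz => hi ?_)
      (fun hiso => hF0 ?_) hGp pE _ hpE (H25Euler.polyLE_of_mono hL hF hE ι hpF hpE).2)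
    · haveI := Preadditive.epi_of_isZero_cokernel ι hz
      exact isIso_of_mono_of_epi ι
    · haveI := hiso
      have hι0 : ι = 0 := by rw [← cancel_mono (cokernel.π ι), cokernel.condition, Limits.zero_comp]
      exact (IsZero.iff_id_eq_zero _).2 (by rw [← cancel_mono ι, hι0, Limits.comp_zero, Limits.comp_zero])
  tfae_have 2 → 1 := by
    intro h F ι hι hF hF0 hi pF pE hpF hpE
    haveI := hι
    obtain ⟨W, j, φ, hj, hφ, hW, hdim, hWp⟩ := H25Euler.exists_saturation k hL hE hF ι hp h0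
    haveI := hj
    haveI : Mono (φ ≫ j) := by rw [hφ]; infer_instance
    haveI := mono_of_mono φ j
    obtain ⟨pW, hpW⟩ := exists_hilb_of_mono (k := k) hL hp hE j hW
    have hC := H10Coh.isCoh_cokernel φ hF.1 hW
    have hpC := (H25Euler.polyLE_of_mono hL hF hW φ hpF hpW).2
    have heq : alpha d pF = alpha d pW := by
      have h := H25Euler.coeff_hilbPoly_eq_zero hL hC hpC hdim le_rfl
      rw [coeff_sub, sub_eq_zero] at h
      rw [alpha, alpha, h]
    have hαF := alpha_pos_of_pure hL (isPure_of_mono hp ι) hF hF0 hpF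
    by_cases hji : IsIso j
    · have he := H25Euler.hilbPoly_unique hpW (H25Euler.hilbPoly_congr (asIso j).symm hpE)
      exact hself F ι inferInstance hF hi pF pE hpF hpE hαF (he ▸ heq)
    · have hW0 : ¬ IsZero W := fun h => hF0 (h.of_mono φ)
      have hle : RedLE d pF pW := by
        by_cases hφi : IsIso φ
        · rw [H25Euler.hilbPoly_unique hpF (H25Euler.hilbPoly_congr (asIso φ).symm hpW)]
          exact redLE_of_redEq (redEq_refl _ _)
        · exact redLE_iff.2 (redLT_iff.1 (redLT_of_alpha_eq hL hW hF φ hφi hpF hpW hαF heq)).nonneg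
      exact htrans pF pW pE hαF (alpha_pos_of_pure hL (isPure_of_mono hp j) hW hW0 hpW)
        (alpha_pos_of_pure hL hp hE h0 hpE) hle (h W j hj hW hW0 hji hWp pW pE hpW hpE)
  tfae_finish

theorem tfae_semistable (hL : CohB1.IsAmple L) (hE : Coh.IsCoh E) (h0 : ¬ IsZero E) (hp : ShStab.IsPure Z E d) :
    [ShStab.IsSemistable k Z L E d,
      ∀ (F : Z.Modules) (ι : F ⟶ E), Mono ι → Coh.IsCoh F → ¬ IsZero F → ¬ IsIso ι →
        ShStab.IsPure Z (cokernel ι) d →
        ∀ (pF pE : ℚ[X]), ShStab.IsHilbPoly k Z L F pF → ShStab.IsHilbPoly k Z L E pE → RedLE d pF pE,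
      ∀ (G : Z.Modules) (π : E ⟶ G), Epi π → Coh.IsCoh G → ¬ IsIso π →
        ∀ (pE pG : ℚ[X]), ShStab.IsHilbPoly k Z L E pE → ShStab.IsHilbPoly k Z L G pG → 0 < alpha d pG →
          RedLE d pE pG,
      ∀ (G : Z.Modules) (π : E ⟶ G), Epi π → Coh.IsCoh G → ¬ IsZero G → ¬ IsIso π →
        ShStab.IsPure Z G d →
        ∀ (pE pG : ℚ[X]), ShStab.IsHilbPoly k Z L E pE → ShStab.IsHilbPoly k Z L G pG → RedLE d pE pG].TFAE := by
  have h := tfae_gen (k := k) hL hE h0 hp (RedLE d) (fun _ _ => redLE_sub_left)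
    (fun P Q h => by rw [redLE_iff] at h ⊢; rwa [cross_sub_right] at h)
    (fun F ι hι hF hi pF pE hpF hpE hpos heq => by
      haveI := hι
      exact redLE_iff.2 (redLT_iff.1 (redLT_of_alpha_eq hL hE hF ι hi hpF hpE hpos heq)).nonneg)
    (fun P Q S hP hQ hS h h' => redLE_trans hP.le hQ hS.le h h')
  rw [show ShStab.IsSemistable k Z L E d = StabCat.IsSS Coh.IsCoh (ShStab.IsHilbPoly k Z L) d E from
    propext ⟨fun h => h.2.2.2, fun h => ⟨hE, h0, hp, h⟩⟩]
  exact h

theorem tfae_stable (hL : CohB1.IsAmple L) (hE : Coh.IsCoh E) (h0 : ¬ IsZero E) (hp : ShStab.IsPure Z E d) :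
    [ShStab.IsStable k Z L E d,
      ∀ (F : Z.Modules) (ι : F ⟶ E), Mono ι → Coh.IsCoh F → ¬ IsZero F → ¬ IsIso ι →
        ShStab.IsPure Z (cokernel ι) d →
        ∀ (pF pE : ℚ[X]), ShStab.IsHilbPoly k Z L F pF → ShStab.IsHilbPoly k Z L E pE → RedLT d pF pE,
      ∀ (G : Z.Modules) (π : E ⟶ G), Epi π → Coh.IsCoh G → ¬ IsIso π →
        ∀ (pE pG : ℚ[X]), ShStab.IsHilbPoly k Z L E pE → ShStab.IsHilbPoly k Z L G pG → 0 < alpha d pG →
          RedLT d pE pG,
      ∀ (G : Z.Modules) (π : E ⟶ G), Epi π → Coh.IsCoh G → ¬ IsZero G → ¬ IsIso π →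
        ShStab.IsPure Z G d →
        ∀ (pE pG : ℚ[X]), ShStab.IsHilbPoly k Z L E pE → ShStab.IsHilbPoly k Z L G pG → RedLT d pE pG].TFAE := by
  have h := tfae_gen (k := k) hL hE h0 hp (RedLT d) (fun _ _ => redLT_sub_left)
    (fun P Q h => by rw [redLT_iff] at h ⊢; rwa [cross_sub_right] at h)
    (fun F ι hι hF hi pF pE hpF hpE hpos heq => by
      haveI := hι
      exact redLT_of_alpha_eq hL hE hF ι hi hpF hpE hpos heq)
    (fun P Q S hP hQ hS h h' => redLT_of_le_of_lt hP hQ hS.le h h')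
  rw [show ShStab.IsStable k Z L E d = StabCat.IsSt Coh.IsCoh (ShStab.IsHilbPoly k Z L) d E from
    propext ⟨fun h => h.2.2.2, fun h => ⟨hE, h0, hp, h⟩⟩]
  exact h

end Groth.Agent.H10Coh.Stab
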